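import Cfsg.Agent.Lib.InvChar.Basic
import Cfsg.Agent.Lib.Signalizer.SFT.Core2
import Cfsg.Agent.Lib.Transfer.Alperin

/-!
Tools for fusion arguments inside an explicit Sylow `2`-subgroup.
-/

set_option autoImplicit false

namespace Cfsg.Lib.IC

open Subgroup Cfsg.Lib.FT

variable {G : Type*} [Group G] [Finite G]

/-- conjugating onto an extremal element -/
theorem exists_conj_into {p : ℕ} [Fact p.Prime] {S T : Subgroup G} {x y : G}
    (hx : IsSylowIn p (S ⊓ C1[x]) C1[x]) (hc : IsConj y x) (hT : IsPGroup p T) (hTy : T ≤ C1[y]) :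
    ∃ g, g * y * g⁻¹ = x ∧ ∀ c ∈ T, g * c * g⁻¹ ∈ S := by
  obtain ⟨g, rfl⟩ := isConj_iff.mp hc
  obtain ⟨k, hk, h⟩ := hx.exists_conj_le ((isPGroup_conj_iff (g := g)).mpr hT)
    (by rw [← conj_centralizer_singleton]; exact map_mono hTy)
  refine ⟨k * g, ?_, fun c hc => ?_⟩
  · calc _ = k * (g * y * g⁻¹) * k⁻¹ := by group
      _ = _ := by rw [mem_C1.mp hk, mul_inv_cancel_right]
  · have := (h (conj_mem_conj (conj_mem_conj hc g) k)).1
    rwa [show k * (g * c * g⁻¹) * k⁻¹ = k * g * c * (k * g)⁻¹ by group] at this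

theorem isSylowIn_inf_C1 {p : ℕ} [Fact p.Prime] {S : Subgroup G} (hS : IsSylowIn p S ⊤) {x : G}
    (hx : x ∈ S) (h : ∀ y ∈ S, IsConj x y → Nat.card ↥(S ⊓ C1[y]) ≤ Nat.card ↥(S ⊓ C1[x])) :
    IsSylowIn p (S ⊓ C1[x]) C1[x] := by
  obtain ⟨P, hP, hle⟩ := exists_isSylowIn_ge (hS.isPGroup.to_le (inf_le_left (b := C1[x])))
    inf_le_right
  obtain ⟨g, -, hg⟩ := hS.exists_conj_le hP.isPGroup le_top
  refine hP.of_card_ge (hS.isPGroup.to_le inf_le_left) inf_le_right (le_trans ?_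
    (h _ (hg (conj_mem_conj (hle ⟨hx, mem_C1_self x⟩) g)) (isConj_iff.mpr ⟨g, rfl⟩)))
  rw [← card_conj g P]
  exact card_le_of_le (le_inf hg (by rw [← conj_centralizer_singleton]; exact map_mono hP.le))

/-- a weakly closed subgroup controls the conjugation of `p`-subgroups of its overgroups -/
theorem wc_into {p : ℕ} [Fact p.Prime] {S Q T Y : Subgroup G} (hS : IsSylowIn p S ⊤)
    (hQ : IsPGroup p Q) (hw : ∀ g, g •ᶜ Q ≤ S → g ∈ N[Q]) (h1 : Q ≤ Y) (hT : IsPGroup p T)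
    (h2 : T ≤ Y) : ∃ c ∈ Y, ∃ h ∈ N[Q], (h * c) •ᶜ T ≤ S := by
  obtain ⟨P, hP, hle⟩ := exists_isSylowIn_ge hQ h1
  obtain ⟨c, hc, h3⟩ := hP.exists_conj_le hT h2
  obtain ⟨h, -, h4⟩ := hS.exists_conj_le hP.isPGroup le_top
  exact ⟨c, hc, h, hw h ((map_mono hle).trans h4), by
    rw [← conj_conj]; exact (map_mono h3).trans h4⟩

theorem wc_conj {p : ℕ} [Fact p.Prime] {S Q Y : Subgroup G} (hS : IsSylowIn p S ⊤)
    (hQ : IsPGroup p Q) (hw : ∀ g, g •ᶜ Q ≤ S → g ∈ N[Q]) (h1 : Q ≤ Y) {g : G}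
    (h2 : g •ᶜ Q ≤ Y) : ∃ c ∈ Y, c * g ∈ N[Q] := by
  obtain ⟨c, hc, h, hh, h3⟩ := wc_into hS hQ hw h1 (isPGroup_conj_iff.mpr hQ) h2
  rw [conj_conj] at h3
  refine ⟨c, hc, ?_⟩
  have := mul_mem (inv_mem hh) (hw _ h3)
  rwa [mul_assoc, inv_mul_cancel_left] at this

/-- conjugacy of involutions lifts over a kernel of odd order -/
theorem isConj_of_map {G' : Type*} [Group G'] {f : G →* G'} (hf : Function.Surjective f)
    (hk : ¬ 2 ∣ Nat.card f.ker) {x y : G} (hx : x * x = 1) (hy : y * y = 1)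
    (h : IsConj (f x) (f y)) : IsConj x y := by
  obtain ⟨g', hg⟩ := isConj_iff.mp h
  obtain ⟨g, rfl⟩ := hf g'
  refine (isConj_iff.mpr ⟨g, rfl⟩).trans (h9_isConj_of_odd
    (by rw [conj_mul, hx]; group) hy ?_)
  have : g * x * g⁻¹ * y ∈ f.ker := by
    rw [MonoidHom.mem_ker, map_mul, map_mul, map_mul, map_inv, hg, ← map_mul, hy, map_one]
  exact Nat.not_even_iff_odd.mp fun e => hk (e.two_dvd.trans (f.ker.orderOf_dvd_natCard this))

/-- an involution of `M` is conjugate to all involutions outside `M` if `M` contains the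
centralisers of its involutions -/
theorem isConj_of_not_mem {M : Subgroup G} (h : ∀ w ∈ M, orderOf w = 2 → C1[w] ≤ M) {x y : G}
    (hx : orderOf x = 2) (hxM : x ∈ M) (hy : y * y = 1) (hyM : y ∉ M) : IsConj x y := by
  have hx2 := (h9_orderOf_eq_two_iff.mp hx).2
  refine h9_isConj_of_odd hx2 hy (Nat.not_even_iff_odd.mp fun e => ?_)
  obtain ⟨m, -, h2, h3, h4⟩ := h9_central_invol_of_even hx2 hy e
  exact hyM (h _ (h x hxM hx (mem_C1.mpr h3.eq)) h2 (mem_C1.mpr h4.eq.symm))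

theorem pPrimeCore_le_bot_of_normal (hO : pPrimeCore 2 G = ⊥) {K : Subgroup G} (hn : ⊤ ≤ N[K]) :
    piCoreOf {2}ᶜ K ≤ ⊥ := by
  rw [← hO, ← piCore_compl_singleton, ← piCoreOf_top]
  exact piCoreOf_le_of_le_normalizer _ le_top hn

/-- a normal subgroup with a central Sylow `2`-subgroup of a core-free group -/
theorem le_of_central_sylow (hO : pPrimeCore 2 G = ⊥) {K Z : Subgroup G} (hn : ⊤ ≤ N[K])
    (hZ : IsSylowIn 2 Z K) (hc : K ≤ C[Z]) : K ≤ Z := by
  have := le_sup_pPrimeCoreOf_of_central hZ.le hc hZ.isPGroup hZ.not_dvd_relIndex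
  rw [← piCoreOf_compl_singleton] at this
  exact this.trans (sup_le le_rfl ((pPrimeCore_le_bot_of_normal hO hn).trans bot_le))

theorem pPrimeCore_quotient_central (hO : pPrimeCore 2 G = ⊥) {Z : Subgroup G} [Z.Normal]
    (hZ : IsPGroup 2 Z) (hc : ⊤ ≤ C[Z]) : pPrimeCore 2 (G ⧸ Z) = ⊥ := by
  have h1 : Z ≤ (pPrimeCore 2 (G ⧸ Z)).comap (QuotientGroup.mk' Z) := fun x hx => by
    rw [mem_comap, QuotientGroup.mk'_apply, (QuotientGroup.eq_one_iff x).mpr hx]
    exact one_mem _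
  have h2 := le_of_central_sylow hO (normalizer_eq_top _).ge
    (IsSylowIn.of_not_dvd_relIndex h1 hZ (by
      have := relIndex_ker ((pPrimeCore 2 (G ⧸ Z)).comap (QuotientGroup.mk' Z)) (QuotientGroup.mk' Z)
      rw [QuotientGroup.ker_mk', map_comap_eq_self_of_surjective (QuotientGroup.mk'_surjective Z),
        ← piCore_compl_singleton] at this
      rw [← piCore_compl_singleton, this]
      exact isPiSubgroup_compl_singleton_iff.mp isPiSubgroup_piCore)) (le_top.trans hc)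
  rw [eq_bot_iff]
  intro x hx
  obtain ⟨x, rfl⟩ := QuotientGroup.mk_surjective x
  exact (QuotientGroup.eq_one_iff x).mpr (h2 hx)

/-- an elementary abelian Sylow `2`-subgroup of rank at least three with fixed point free
automiser and at least two classes of involutions is normal modulo the core -/
theorem normal_of_fpf (hO : pPrimeCore 2 G = ⊥) {V : Subgroup G} (hV : IsSylowIn 2 V ⊤)
    (hE : IsElementaryAbelian 2 V) (h8 : 2 ^ 3 ≤ Nat.card V)
    (hf : ∀ n ∈ N[V], Odd (orderOf n) → ∀ x ∈ V, x ≠ 1 → n * x = x * n → n ∈ C[V])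
    {x y : G} (hx : x ∈ V) (hx1 : x ≠ 1) (hy : y ∈ V) (hy1 : y ≠ 1) (hxy : ¬ IsConj x y) :
    ⊤ ≤ N[V] := by
  have hVC : ∀ a ∈ V, V ≤ C1[a] := fun a ha => le_centralizer_singleton_of_comm hE.1 ha
  have hH : ∀ a ∈ V, a ≠ 1 → IsPiHallOf {2}ᶜ (centralizerPPrimeCore 2 a) C1[a] := by
    intro a ha h1
    rw [centralizerPPrimeCore_eq, ← hasNormalPComplement_iff_isPiHallOf]
    obtain ⟨P, hP⟩ := (hV.mono (hVC a ha) le_top).exists_sylow'
    refine hasNormalPComplement_of_normalizer_le_centralizer P ?_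
    rw [hP]
    intro n hn
    have hn' : (n : G) ∈ N[V] := by
      rwa [← subgroupOf_normalizer_eq (hVC a ha)] at hn
    obtain ⟨b, c, hb, hc, e, h2, h3⟩ := exists_piPart {2} (n : G)
    have hb' : b ∈ V := hV.le_of_le_normalizer (R := zpowers b)
      (isPiSubgroup_singleton_iff.mp (isPiSubgroup_zpowers.mpr h2)) le_top
      (zpowers_le.mpr (zpowers_le.mpr hn' hb)) (mem_zpowers b)
    have hc' := hf c (zpowers_le.mpr hn' hc) (Nat.not_even_iff_odd.mp fun e =>
      (PiNat.compl_singleton_iff Nat.prime_two).mp h3 e.two_dvd) a ha h1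
      (mem_C1.mp (zpowers_le.mpr n.2 hc))
    have := mul_mem (elemAb_le_centralizer hE hb') hc'
    rw [e] at this
    exact fun w hw => Subtype.ext (this w hw)
  have hθ := cpc_sig hE (fun a _ _ => isSolvable_of_not_two_dvd (cpc_not_dvd a))
    fun a _ _ b hb h1 c hc => (hH b hb h1).mem_of_normal (cpc_norm b) hc.2
      ((isPiSubgroup_compl_singleton_iff.mpr (cpc_not_dvd a)).orderOf hc.1)
  have hW := sigClosure_mem_two hE h8 hθ
  have hN := normalizer_le_normalizer_cpcClosure (p := 2) V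
  have hC : ∀ a ∈ V, a ≠ 1 → C1[a] ≤ signalizerClosure V (centralizerPPrimeCore 2) ⊔ V := by
    intro a ha h1
    rw [← (isComplIn_of_isPiHallOf (isPiHallOf_singleton_iff.mpr (hV.mono (hVC a ha) le_top))
      (hH a ha h1)).sup_eq]
    exact sup_le le_sup_right ((le_sigClosure ha h1).trans le_sup_left)
  generalize signalizerClosure V (centralizerPPrimeCore 2) = W at hW hN hC
  by_cases hM : ⊤ ≤ N[W ⊔ V]
  · have : W ≤ ⊥ := (le_piCoreOf le_sup_left (sup_le le_normalizer (sigFam_norm hW))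
      (isPiSubgroup_compl_singleton_iff.mpr (sigFam_not_dvd hW))).trans
      (pPrimeCore_le_bot_of_normal hO hM)
    rwa [le_bot_iff.mp this, bot_sup_eq] at hM
  exfalso
  have hVM : N[V] ≤ N[W ⊔ V] := le_normalizer_sup hN le_rfl
  generalize hMd : N[W ⊔ V] = M at hM hVM
  have hC' : ∀ a ∈ V, a ≠ 1 → C1[a] ≤ M := fun a ha h1 =>
    (hC a ha h1).trans (hMd ▸ le_normalizer)
  have hin : ∀ w ∈ M, orderOf w = 2 → ∃ m ∈ M, m * w * m⁻¹ ∈ V := by
    intro w hw h2
    obtain ⟨m, hm, h⟩ := (hV.mono (le_normalizer.trans hVM) le_top).exists_conj_le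
      (U := zpowers w) (isPGroup_of_card_eq_prime (by rw [Nat.card_zpowers, h2])) (zpowers_le.mpr hw)
    exact ⟨m, hm, h (conj_mem_conj (mem_zpowers w) m)⟩
  obtain ⟨g, -, hg⟩ := SetLike.not_le_iff_exists.mp hM
  have hy2 := elemAb_orderOf hE hy hy1
  refine hxy ((isConj_of_not_mem (M := M) (fun w hw h2 => ?_) (elemAb_orderOf hE hx hx1)
    (hVM (le_normalizer hx)) (y := g * y * g⁻¹) ?_ fun hm => hg ?_).trans
    (isConj_iff.mpr ⟨g, rfl⟩).symm)
  · obtain ⟨m, hm, h⟩ := hin w hw h2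
    refine le_of_conj_le (g := m) ?_ (le_normalizer hm)
    rw [conj_centralizer_singleton]
    refine hC' _ h fun e => ?_
    rw [conj_eq_one_iff.mp e, orderOf_one] at h2
    omega
  · rw [conj_mul, (h9_orderOf_eq_two_iff.mp hy2).2]; group
  · obtain ⟨m, hm', h⟩ := hin _ hm ((h9_orderOf_of_isConj (isConj_iff.mpr ⟨g, rfl⟩)).trans hy2)
    obtain ⟨P, rfl⟩ := hV.exists_sylow_top
    obtain ⟨k, hk, e⟩ := exists_normalizer_conj_elt_of_weaklyClosed P le_rfl
      (elemAb_le_centralizer hE) (fun g hg => eq_of_le_of_card_ge hg (card_conj g _).ge) hy (m * g)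
      (by rwa [show m * g * y * (m * g)⁻¹ = m * (g * y * g⁻¹) * m⁻¹ by group])
    have : k⁻¹ * (m * g) ∈ M := hC' y hy hy1 (mem_C1.mpr (by
      calc _ = k⁻¹ * (m * g * y * (m * g)⁻¹) * (m * g) := by group
        _ = _ := by rw [e]; group))
    have := mul_mem (inv_mem hm') (mul_mem (hVM hk) this)
    rwa [mul_inv_cancel_left, inv_mul_cancel_left] at this

theorem normal_of_fpf' {K V : Subgroup G} (hO : piCoreOf {2}ᶜ K ≤ ⊥) (hV : IsSylowIn 2 V K)
    (hE : IsElementaryAbelian 2 V) (h8 : 2 ^ 3 ≤ Nat.card V)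
    (hf : ∀ n ∈ K, n ∈ N[V] → ∀ x ∈ V, x ≠ 1 → n * x = x * n → n ∈ C[V])
    {x y : G} (hx : x ∈ V) (hx1 : x ≠ 1) (hy : y ∈ V) (hy1 : y ≠ 1) (hxy : ¬ IsConj x y) :
    K ≤ N[V] := by
  have := normal_of_fpf (G := K) (V := V.subgroupOf K) (by
      rwa [piCoreOf_compl_singleton, le_bot_iff,
        map_eq_bot_iff_of_injective _ K.subtype_injective] at hO)
    (by rw [← K.subgroupOf_self, isSylowIn_subgroupOf_iff hV.le le_rfl]; exact hV)
    ((elemAb_subgroupOf_iff hV.le).mpr hE)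
    (by rwa [Nat.card_congr (subgroupOfEquivOfLe hV.le).toEquiv])
    (fun n hn _ w hw h1 hc v hv => Subtype.ext (hf n n.2 (by
      rwa [← subgroupOf_normalizer_eq hV.le] at hn) w hw (fun e => h1 (Subtype.ext e))
      (congrArg Subtype.val hc) v hv))
    (x := ⟨x, hV.le hx⟩) hx (fun e => hx1 (congrArg Subtype.val e))
    (y := ⟨y, hV.le hy⟩) hy (fun e => hy1 (congrArg Subtype.val e))
    fun h => hxy (K.subtype.map_isConj h)
  rw [← subgroupOf_normalizer_eq hV.le] at this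
  exact fun n hn => this (x := ⟨n, hn⟩) trivial

end Cfsg.Lib.IC
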