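import Cfsg.Agent.Lib.InvChar.Tab2
import Cfsg.Prelude.Def_Classical

/-!
The group `PSp(4, 3)` as a permutation group on the 40 projective points.
-/

set_option autoImplicit false

namespace Cfsg.Lib.IC

open Cfsg.Lib.PC Equiv Matrix

theorem card_le_mul_stabilizer {Y V : Type*} [Group Y] [Finite Y] [MulAction Y V]
    (L : Subgroup Y) (v : V) (X : Finset V) (h : ∀ g ∈ L, g • v ∈ X) :
    Nat.card L ≤ X.card * Nat.card (L ⊓ MulAction.stabilizer Y v : Subgroup Y) := by
  rw [← (MulAction.stabilizer L v).index_mul_card, MulAction.index_stabilizer]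
  refine Nat.mul_le_mul ?_ (le_of_eq ?_)
  · rw [← Set.ncard_coe_finset]
    refine Set.ncard_le_ncard ?_
    rintro _ ⟨g, rfl⟩
    exact h g g.2
  · rw [← Subgroup.card_map_of_injective (f := L.subtype) L.subtype_injective]
    congr 3
    ext y
    exact ⟨by rintro ⟨y, hy, rfl⟩; exact ⟨y.2, hy⟩, fun hy => ⟨⟨y, hy.1⟩, hy.2, rfl⟩⟩

/-- the isomorphism of symplectic groups induced by a ring isomorphism -/
def spCongr {l K K' : Type*} [Fintype l] [DecidableEq l] [CommRing K] [CommRing K']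
    (f : K ≃+* K') : symplecticGroup l K ≃* symplecticGroup l K' where
  toFun A := ⟨A.1.map f, SymplecticGroup.map_mem A.2 f⟩
  invFun A := ⟨A.1.map f.symm, SymplecticGroup.map_mem A.2 f.symm⟩
  left_inv A := by ext i j; simp
  right_inv A := by ext i j; simp
  map_mul' A B := Subtype.ext (Matrix.map_mul (f := (f : K →+* K')))

theorem nonempty_psp_congr {F : Type*} [Field F] [Fintype F] (hF : Fintype.card F = 3) :
    Nonempty (PSp 2 F ≃* PSp 2 (ZMod 3)) :=
  nonempty_quotient_center_congr (spCongr (FiniteField.ringEquivOfCardEq (by rw [hF]; rfl)))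

/-- the symplectic group of degree four over the field with three elements -/
abbrev Sp43 : Type := symplecticGroup (Fin 2) (ZMod 3)

/-- the coordinates -/
abbrev I4 : Type := Fin 2 ⊕ Fin 2

instance actSp43 : MulAction Sp43 (I4 → ZMod 3) where
  smul A v := A.1 *ᵥ v
  one_smul v := one_mulVec v
  mul_smul A B v := (mulVec_mulVec v A.1 B.1).symm

/-- the symplectic form -/
def om (v w : I4 → ZMod 3) : ZMod 3 := v ⬝ᵥ (J (Fin 2) (ZMod 3) *ᵥ w)

theorem om_smul (A : Sp43) (v w : I4 → ZMod 3) : om (A • v) (A • w) = om v w := by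
  change (A.1 *ᵥ v) ⬝ᵥ (J (Fin 2) (ZMod 3) *ᵥ (A.1 *ᵥ w)) = _
  rw [mulVec_mulVec, ← vecMul_transpose, ← dotProduct_mulVec, mulVec_mulVec, ← Matrix.mul_assoc,
    SymplecticGroup.mem_iff'.mp A.2]
  rfl

theorem smul_ne_zero' (A : Sp43) {v : I4 → ZMod 3} (hv : v ≠ 0) : A • v ≠ 0 := by
  intro h
  apply hv
  rw [← inv_smul_smul A v, h]
  exact mulVec_zero _

theorem card_Sp43_le : Nat.card Sp43 ≤ 51840 := by
  let e : I4 → I4 → ZMod 3 := fun i => Pi.single i 1
  let s := fun i => MulAction.stabilizer Sp43 (e i)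
  have h1 := card_le_mul_stabilizer (⊤ : Subgroup Sp43) (e (.inl 0))
    (Finset.univ.filter fun v => v ≠ 0) fun g _ => by
      simpa using smul_ne_zero' g (by decide)
  have h2 := card_le_mul_stabilizer (⊤ ⊓ s (.inl 0)) (e (.inr 0))
    (Finset.univ.filter fun v => om (e (.inl 0)) v = om (e (.inl 0)) (e (.inr 0))) fun g hg => by
      rw [Finset.mem_filter, ← om_smul g _ (e _), show g • e (.inl 0) = _ from hg.2]
      simp
  have h3 := card_le_mul_stabilizer (⊤ ⊓ s (.inl 0) ⊓ s (.inr 0)) (e (.inl 1))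
    (Finset.univ.filter fun v => v ≠ 0 ∧ om (e (.inl 0)) v = om (e (.inl 0)) (e (.inl 1)) ∧
      om (e (.inr 0)) v = om (e (.inr 0)) (e (.inl 1))) fun g hg => by
      rw [Finset.mem_filter, ← om_smul g _ (e _), ← om_smul g (e (.inr 0)) (e _),
        show g • e (.inl 0) = _ from hg.1.2, show g • e (.inr 0) = _ from hg.2]
      simpa using smul_ne_zero' g (by decide)
  have h4 := card_le_mul_stabilizer (⊤ ⊓ s (.inl 0) ⊓ s (.inr 0) ⊓ s (.inl 1)) (e (.inr 1))
    (Finset.univ.filter fun v => om (e (.inl 0)) v = om (e (.inl 0)) (e (.inr 1)) ∧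
      om (e (.inr 0)) v = om (e (.inr 0)) (e (.inr 1)) ∧
      om (e (.inl 1)) v = om (e (.inl 1)) (e (.inr 1))) fun g hg => by
      rw [Finset.mem_filter, ← om_smul g _ (e _), ← om_smul g (e (.inr 0)) (e _),
        ← om_smul g (e (.inl 1)) (e _), show g • e (.inl 0) = _ from hg.1.1.2,
        show g • e (.inr 0) = _ from hg.1.2, show g • e (.inl 1) = _ from hg.2]
      simp
  have h5 : (⊤ ⊓ s (.inl 0) ⊓ s (.inr 0) ⊓ s (.inl 1) ⊓ s (.inr 1) : Subgroup Sp43) = ⊥ := by
    rw [eq_bot_iff]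
    intro g hg
    have : ∀ j, g.1 *ᵥ e j = e j := by
      rintro (j | j) <;> fin_cases j
      exacts [hg.1.1.1.2, hg.1.2, hg.1.1.2, hg.2]
    apply Subtype.ext
    ext i j
    have := congrFun (this j) i
    simp only [e, mulVec_single_one, col_apply] at this
    rw [this, Pi.single_apply]
    rfl
  rw [h5, Subgroup.card_bot, show Finset.card _ = 3 by decide +kernel] at h4
  rw [show Finset.card _ = 8 by decide +kernel] at h3
  rw [show Finset.card _ = 27 by decide +kernel] at h2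
  rw [show Finset.card _ = 80 by decide +kernel, Subgroup.card_top] at h1
  change Nat.card ↥(⊤ ⊓ s (.inl 0)) ≤ 27 * Nat.card ↥(⊤ ⊓ s (.inl 0) ⊓ s (.inr 0)) at h2
  change _ ≤ 8 * Nat.card ↥(⊤ ⊓ s (.inl 0) ⊓ s (.inr 0) ⊓ s (.inl 1)) at h3
  change _ ≤ 80 * Nat.card ↥(⊤ ⊓ s (.inl 0)) at h1
  omega

/-- the position of a coordinate -/
def ix : I4 → ℕ
  | .inl i => i
  | .inr i => 2 + i

/-- the matrix with a given code -/
def mat4 (m : ℕ) : Matrix I4 I4 (ZMod 3) := Matrix.of fun i j => (app 2 m (4 * ix i + ix j) : ℕ)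

theorem scalar_of_center {A : Sp43} (hA : A ∈ Subgroup.center Sp43) :
    A.1 = Matrix.scalar I4 (A.1 (.inl 0) (.inl 0)) := by
  have key : ∀ m, mat4 m * J (Fin 2) (ZMod 3) * (mat4 m)ᵀ = J (Fin 2) (ZMod 3) →
      ∀ i j, (mat4 m * A.1) i j = (A.1 * mat4 m) i j := fun m hm i j =>
    congrFun (congrFun (congrArg Subtype.val (Subgroup.mem_center_iff.mp hA ⟨mat4 m, hm⟩)) i) j
  have h1 := key 0x40100411 (by decide +kernel)
  have h2 := key 0x40110401 (by decide +kernel)
  have h3 := key 0x10400104 (by decide +kernel)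
  have v1 : mat4 0x40100411 = fromBlocks 1 !![1, 0; 0, 0] 0 1 := by decide +kernel
  have v2 : mat4 0x40110401 = fromBlocks 1 0 !![1, 0; 0, 0] 1 := by decide +kernel
  have v3 : mat4 0x10400104 = fromBlocks !![0, 1; 1, 0] 0 0 !![0, 1; 1, 0] := by decide +kernel
  rw [v1] at h1
  rw [v2] at h2
  rw [v3] at h3
  have a1 := h1 (.inl 0) (.inl 0)
  have a2 := h1 (.inl 0) (.inl 1)
  have a3 := h1 (.inl 0) (.inr 0)
  have a4 := h1 (.inl 0) (.inr 1)
  have a5 := h1 (.inl 1) (.inr 0)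
  have a6 := h1 (.inr 1) (.inr 0)
  have b1 := h2 (.inr 0) (.inr 0)
  have b2 := h2 (.inr 0) (.inl 1)
  have b3 := h2 (.inr 0) (.inr 1)
  have b4 := h2 (.inl 1) (.inl 0)
  have b5 := h2 (.inr 1) (.inl 0)
  have c1 := h3 (.inl 0) (.inl 1)
  have c2 := h3 (.inr 0) (.inr 1)
  have c3 := h3 (.inl 0) (.inr 1)
  have c4 := h3 (.inr 0) (.inl 1)
  simp [Matrix.mul_apply, Fintype.sum_sum_type, Fin.sum_univ_two] at a1 a2 a3 a4 a5 a6 b1 b2 b3 b4 b5 c1 c2 c3 c4
  ext (i | i) (j | j) <;> fin_cases i <;> fin_cases j <;> simp_all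

/-- the enumeration of forty points -/
def E40 : Enc (Fin 40) 40 where
  idx a := a.val
  pt i := ⟨i % 40, Nat.mod_lt _ (by norm_num)⟩
  idx_lt a := a.2
  pt_idx a := Fin.ext (Nat.mod_eq_of_lt a.2)
  idx_pt _ h := Nat.mod_eq_of_lt h

/-- homogeneous coordinates of the 40 points -/
def vec40 (a : Fin 40) : I4 → ZMod 3 := fun j => (app 2
  0xa96929995919894909a56525955515854505a16121915111814101a4642494541484440490501040
  (4 * a + ix j) : ℕ)

/-- the code `p` describes the action of the symplectic matrix with code `m` -/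
def Acts40 (m p : ℕ) : Prop :=
  mat4 m * J (Fin 2) (ZMod 3) * (mat4 m)ᵀ = J (Fin 2) (ZMod 3) ∧ ∀ a : Fin 40, app 6 p a < 40 ∧
    ∃ c : ZMod 3, c • vec40 (E40.pt (app 6 p a)) = mat4 m *ᵥ vec40 a

instance (m p : ℕ) : Decidable (Acts40 m p) := by
  unfold Acts40; infer_instance

theorem exists_psp_perm : ∃ K : Subgroup (Perm (Fin 40)), Nonempty (PSp 2 (ZMod 3) ≃* K) ∧
    Nat.card K ≤ 25920 ∧ ∀ m p, Acts40 m p → InH E40 6 K p := by
  obtain ⟨Φ, hΦ, h⟩ := exists_psl_permHom (fun _ : Fin 40 => True) vec40 (by decide +kernel)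
    (by decide +kernel) (by decide +kernel)
  let ι : Sp43 →* SpecialLinearGroup I4 (ZMod 3) :=
    MonoidHom.mk' (fun A => ⟨A.1, SymplecticGroup.det_eq_one A.2⟩) fun _ _ => rfl
  let Ψ := Φ.comp ((QuotientGroup.mk' _).comp ι)
  have hk : Subgroup.center Sp43 = Ψ.ker := by
    ext A
    rw [MonoidHom.mem_ker, MonoidHom.comp_apply, map_eq_one_iff _ hΦ, MonoidHom.comp_apply,
      QuotientGroup.mk'_apply, QuotientGroup.eq_one_iff, Subgroup.mem_center_iff (z := ι A)]
    constructor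
    · intro hA B
      apply Subtype.ext
      change B.1 * A.1 = A.1 * B.1
      rw [scalar_of_center hA]
      exact ((Matrix.scalar_commute _ (fun _ => Commute.all _ _) B.1).eq).symm
    · intro hA
      refine Subgroup.mem_center_iff.mpr fun B => Subtype.ext ?_
      have := congrArg Subtype.val (hA (ι B))
      exact this
  have e : PSp 2 (ZMod 3) ≃* Ψ.range :=
    (QuotientGroup.quotientMulEquivOfEq hk).trans (QuotientGroup.quotientKerEquivRange Ψ)
  refine ⟨Ψ.range, ⟨e⟩, ?_, fun m p hA => ⟨_, ⟨⟨mat4 m, hA.1⟩, rfl⟩, fun a => ?_⟩⟩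
  · rw [← Nat.card_congr e.toEquiv]
    have h1 := Subgroup.card_eq_card_quotient_mul_card_subgroup (Subgroup.center Sp43)
    have h2 : 2 ≤ Nat.card (Subgroup.center Sp43) := by
      rw [← Nat.lt_iff_add_one_le, Finite.one_lt_card_iff_nontrivial,
        Subgroup.nontrivial_iff_exists_ne_one]
      refine ⟨⟨-1, SymplecticGroup.neg_mem (one_mem _)⟩,
        Subgroup.mem_center_iff.mpr fun B => Subtype.ext (by simp), fun e => ?_⟩
      exact absurd (congrFun (congrFun (congrArg Subtype.val e) (.inl 0)) (.inl 0)) (by decide)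
    have h3 := card_Sp43_le
    change Nat.card Sp43 = Nat.card (PSp 2 (ZMod 3)) * _ at h1
    nlinarith
  · obtain ⟨h1, c, hc⟩ := hA.2 a
    have := (h (ι ⟨mat4 m, hA.1⟩) a).2 _ trivial trivial c hc
    change E40.idx (Φ (ι ⟨mat4 m, hA.1⟩) a) = _
    rw [this, E40.idx_pt _ h1]; rfl

end Cfsg.Lib.IC
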