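import Cfsg.Agent.Lib.InvChar.S64Facts
import Cfsg.Agent.Lib.InvChar.SylTools

/-!
Core-free groups with Sylow `2`-subgroups of type `M12` and a central involution.
-/

set_option autoImplicit false

namespace Cfsg.Lib.IC

open Subgroup Cfsg.Lib.FT S64

variable {X : Type*} [Group X] {φ : S64 →* X}

/-- the group of order 64 is a Sylow `2`-subgroup -/
structure Syl64 (φ : S64 →* X) : Prop where
  inj : Function.Injective φ
  syl : IsSylowIn 2 φ.range ⊤

/-- the fusion pattern in the centraliser of the central involution -/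
structure Loc (φ : S64 →* X) : Prop extends Syl64 φ where
  core : pPrimeCore 2 X = ⊥
  cen : ∀ x, x * φ z = φ z * x
  ab : IsConj (φ a) (φ b)
  ua : ¬ IsConj (φ u) (φ a)

/-- `n` acts on `Q` as `r` -/
def Act (φ : S64 →* X) (n : X) (r : S64 → S64) : Prop := ∀ q ∈ Q, n * φ q * n⁻¹ = φ (r q)

theorem Act.mul {n m : X} {r t : S64 → S64} (hn : Act φ n r) (hm : Act φ m t)
    (ht : ∀ q ∈ Q, t q ∈ Q) : Act φ (n * m) (r ∘ t) := fun q hq => by
  rw [Function.comp, ← hn _ (ht q hq), ← hm q hq]; group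

theorem Act.mem_centralizer {n : X} {r : S64 → S64} (hn : Act φ n r) (hr : ∀ q ∈ Q, r q = q) :
    n ∈ C[Q.map φ] := by
  rintro _ ⟨q, hq, rfl⟩
  have := hn q hq
  rw [hr q hq] at this
  exact (mul_inv_eq_iff_eq_mul.mp this).symm

theorem act_map (φ : S64 →* X) (p : S64) : Act φ (φ p) fun q => p * q * p⁻¹ := fun q _ => by simp

theorem act_ev {n : X} {x1 x2 x3 x4 : S64} (h0 : n * φ z * n⁻¹ = φ z) (h1 : n * φ i1 * n⁻¹ = φ x1)
    (h2 : n * φ j1 * n⁻¹ = φ x2) (h3 : n * φ i2 * n⁻¹ = φ x3) (h4 : n * φ j2 * n⁻¹ = φ x4) :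
    Act φ n (ev x1 x2 x3 x4) := by
  have key : ∀ {g x : S64} (c : Bool), n * φ g * n⁻¹ = φ x → n * φ (pw g c) * n⁻¹ = φ (pw x c) := by
    intro g x c h
    cases c
    · simp [pw]
    · exact h
  intro q hq
  conv_lhs => rw [← ev_gens q hq]
  simp only [ev, PC.force_eq, map_mul]
  conv_rhs => rw [← key _ h0, ← key _ h1, ← key _ h2, ← key _ h3, ← key _ h4]
  group

theorem range_le_normalizer' (φ : S64 →* X) {A : Subgroup S64} (h : ∀ q ∈ A, ∀ g, g * q * g⁻¹ ∈ A) :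
    φ.range ≤ N[A.map φ] := by
  rintro _ ⟨p, rfl⟩
  exact le_normalizer_map φ ⟨p, mem_normalizer_fintype fun q hq => h q hq p, rfl⟩

theorem range_le_normalizer (φ : S64 →* X) : φ.range ≤ N[Q.map φ] := range_le_normalizer' φ Q_norm

theorem isPGroup_map (φ : S64 →* X) (A : Subgroup S64) : IsPGroup 2 (A.map φ) :=
  ((IsPGroup.of_card (n := 6) card).to_subgroup A).map φ

namespace Loc

variable (H : Loc φ)
include H

theorem normal_z : (zpowers (φ z)).Normal := ⟨by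
  rintro _ ⟨k, rfl⟩ g
  rw [(Commute.zpow_right (H.cen g) k).eq, mul_inv_cancel_right]
  exact ⟨k, rfl⟩⟩

theorem conj_z (g : X) : g * φ z * g⁻¹ = φ z := by rw [H.cen, mul_inv_cancel_right]

theorem not_conj {x : S64} (hx : cs x = 5 ∨ cs x = 6) : ¬ IsConj (φ u) (φ x) := by
  rcases hx with hx | hx
  · exact fun h => H.ua (h.trans (φ.map_isConj (isConj_iff.mpr (cs_five x hx))).symm)
  · exact fun h => H.ua ((h.trans (φ.map_isConj (isConj_iff.mpr (cs_six x hx))).symm).trans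
      H.ab.symm)

theorem wc [Finite X] (g : X) (hg : g •ᶜ Q.map φ ≤ φ.range) : g ∈ N[Q.map φ] := by
  have h1 := map_comap_eq_self hg
  have h2 : Nat.card ((g •ᶜ Q.map φ).comap φ) = 32 := by
    rw [← card_map_of_injective H.inj, h1, card_conj, card_map_of_injective H.inj, card_Q]
  have h3 : ∀ y ∈ (g •ᶜ Q.map φ).comap φ, ¬ Bad y := by
    rintro y ⟨_, ⟨q, hq, rfl⟩, e⟩ hy
    have e' : φ (y * y) = g * φ (q * q) * g⁻¹ := by
      rw [map_mul, ← e, map_mul]; simp [mul_assoc]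
    rcases sq_Q q hq with h | h
    · rw [h, map_one, mul_one, mul_inv_cancel, ← map_one φ] at e'
      exact hy.1 (H.inj e')
    · rw [h, H.conj_z] at e'
      exact hy.2 (H.inj e')
  rw [← conj_eq_iff_mem_normalizer, ← h1]
  generalize (g •ᶜ Q.map φ).comap φ = M at h2 h3
  have h4 := M.index_mul_card
  rw [h2, card] at h4
  congr 1
  refine eq_of_le_of_card_ge (fun x hx => ?_) (by rw [h2, card_Q])
  by_contra hn
  rcases bad_of_not_mem x hn with h | ⟨y, h5, h6⟩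
  · exact h3 x hx h
  · exact h3 _ (mul_mem hx ((mul_mem_iff_of_index_two (by omega)).mpr
      (iff_of_false (fun h => h3 _ h bad_c0) fun h => h3 _ h h5))) h6

theorem exists_act {n : X} (hn : n ∈ N[Q.map φ]) : ∃ x1 x2 x3 x4, n * φ i1 * n⁻¹ = φ x1 ∧
    n * φ j1 * n⁻¹ = φ x2 ∧ n * φ i2 * n⁻¹ = φ x3 ∧ n * φ j2 * n⁻¹ = φ x4 := by
  have key : ∀ q, q * q = z → ∃ x, n * φ q * n⁻¹ = φ x := fun q hq => by
    obtain ⟨x, -, h⟩ := (mem_normalizer_iff.mp hn _).mp (mem_map_of_mem φ (mem_Q_of_sq q hq))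
    exact ⟨x, h.symm⟩
  obtain ⟨x1, h1⟩ := key i1 gens.1
  obtain ⟨x2, h2⟩ := key j1 gens.2.1
  obtain ⟨x3, h3⟩ := key i2 gens.2.2.1
  obtain ⟨x4, h4⟩ := key j2 gens.2.2.2.1
  exact ⟨x1, x2, x3, x4, h1, h2, h3, h4⟩

theorem act_mem {n : X} (hn : n ∈ N[Q.map φ]) {r : S64 → S64} (h : Act φ n r) {q : S64}
    (hq : q ∈ Q) : r q ∈ Q :=
  (mem_map_iff_mem H.inj).mp (h q hq ▸ (mem_normalizer_iff.mp hn _).mp (mem_map_of_mem φ hq))

variable [(zpowers (φ z)).Normal]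

local notation "π" => QuotientGroup.mk' (zpowers (φ z))

theorem mk_eq {g h : X} : π g = π h ↔ g = h ∨ g = h * φ z := by
  rw [eq_comm, QuotientGroup.mk'_eq_mk']
  constructor
  · rintro ⟨w, hw, rfl⟩
    rcases pg_mem_zpowers_order_two (by rw [sq, ← map_mul, basic.1, map_one]) hw with rfl | rfl
    · exact Or.inl (mul_one _)
    · exact Or.inr rfl
  · rintro (rfl | rfl)
    · exact ⟨1, one_mem _, mul_one _⟩
    · exact ⟨_, mem_zpowers _, rfl⟩

theorem mk_eq_cg {x y : S64} : π (φ x) = π (φ y) ↔ Cg x y := by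
  rw [H.mk_eq, ← map_mul, H.inj.eq_iff, H.inj.eq_iff]; rfl

omit H in
theorem mem_C1_mk {g x : X} : π g ∈ C1[π x] ↔ π (g * x * g⁻¹) = π x := by
  rw [mem_C1, map_mul, map_mul, map_inv, mul_inv_eq_iff_eq_mul]

theorem Q_le_C1 {q : S64} (hq : q ∈ Q) : Q.map φ ≤ (C1[π (φ q)]).comap π := by
  rintro _ ⟨p, hp, rfl⟩
  rw [mem_comap, mem_C1_mk, act_map φ p q hq, H.mk_eq_cg]
  exact conj_Q p hp q hq

/-- the action of an element of odd order on `Q` -/
theorem classify_odd {n : X} (hn : n ∈ N[Q.map φ]) (ho : Odd (orderOf n)) :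
    ∃ q ∈ Q, ∃ r, (r = id ∨ r = r1 ∨ r = r1' ∨ r = r2 ∨ r = r2') ∧ Act φ ((φ q)⁻¹ * n) r := by
  obtain ⟨x1, x2, x3, x4, h1, h2, h3, h4⟩ := H.exists_act hn
  have hA := act_ev (H.conj_z n) h1 h2 h3 h4
  have hm : ∀ {x y p q}, n * φ x * n⁻¹ = φ p → n * φ y * n⁻¹ = φ q →
      n * φ (x * y) * n⁻¹ = φ (p * q) := by
    intro x y p q e1 e2
    rw [map_mul, map_mul, ← e1, ← e2, conj_mul]
  have hs : ∀ {x p}, n * φ x * n⁻¹ = φ p → x * x = z → p * p = z := fun e h =>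
    H.inj (by rw [← hm e e, h, H.conj_z])
  have hc : ∀ {x y p q}, n * φ x * n⁻¹ = φ p → n * φ y * n⁻¹ = φ q →
      (p * q = q * p ↔ x * y = y * x) := fun e1 e2 => by
    rw [← H.inj.eq_iff, ← hm e1 e2, ← hm e2 e1, mul_left_inj, mul_right_inj, H.inj.eq_iff]
  obtain ⟨g1, g2, g3, g4, g5, g6, g7, g8, g9, g10⟩ := gens
  have hT : ∀ r : S64 → S64, (∀ q ∈ Q, ev (r i1) (r j1) (r i2) (r j2) q = r q) →
      Ty r x1 x2 x3 x4 → ∃ q ∈ Q, Act φ ((φ q)⁻¹ * n) r := by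
    rintro r hr ⟨q, hq, e1, e2, e3, e4⟩
    have key : ∀ {x p}, n * φ x * n⁻¹ = φ (q * p * q⁻¹) →
        (φ q)⁻¹ * n * φ x * ((φ q)⁻¹ * n)⁻¹ = φ p := by
      intro x p e
      calc _ = (φ q)⁻¹ * (n * φ x * n⁻¹) * φ q := by group
        _ = _ := by rw [e]; simp [mul_assoc]
    exact ⟨q, hq, fun y hy => hr y hy ▸ act_ev (H.conj_z _) (key (e1 ▸ h1)) (key (e2 ▸ h2))
      (key (e3 ▸ h3)) (key (e4 ▸ h4)) y hy⟩
  have hu : IsConj (φ u) (φ (x1 * x3)) :=
    isConj_iff.mpr ⟨n, by rw [← hm h1 h3, basic.2.2.2.2.2.2.2.2.2.2.2.2.1]⟩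
  rcases classify x1 (hs h1 g1) x2 (hs h2 g2) (fun e => g5 ((hc h1 h2).mp e)) x3 (hs h3 g3)
    ((hc h1 h3).mpr g6) ((hc h2 h3).mpr g7) x4 (hs h4 g4) ((hc h1 h4).mpr g8) ((hc h2 h4).mpr g9)
    (fun e => g10 ((hc h3 h4).mp e)) with h | h | ⟨q, hq, h, h'⟩ | h | h | h | h | h
  · exact absurd hu (H.not_conj (Or.inl h))
  · exact absurd hu (H.not_conj (Or.inr h))
  · have key : ∀ {x p}, n * φ x * n⁻¹ = φ p → x * x = z → n ^ 3 * φ x * (n ^ 3)⁻¹ =
        φ (ev x1 x2 x3 x4 (ev x1 x2 x3 x4 p)) := by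
      intro x p e hx
      have hp := mem_Q_of_sq p (hs e hx)
      rw [← hA _ (H.act_mem hn hA hp), ← hA _ hp, ← e, pow_three]
      group
    have hB := act_ev (H.conj_z _) (key h1 g1) (key h2 g2) (key h3 g3) (key h4 g4)
    refine absurd ?_ h
    rw [← H.mk_eq_cg, ← hB q hq, ← mem_C1_mk]
    obtain ⟨k, hk⟩ := h9_eq_pow_sq_of_odd (h9_odd_orderOf_pow ho 3)
    rw [hk, map_pow]
    refine pow_mem ?_ k
    rw [mem_C1_mk, (hB.mul hB fun q hq => H.act_mem (pow_mem hn 3) hB hq) q hq, H.mk_eq_cg]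
    exact h'
  · obtain ⟨q, hq, h⟩ := hT id ev_gens h
    exact ⟨q, hq, _, by tauto, h⟩
  · obtain ⟨q, hq, h⟩ := hT r1 (fun q _ => r_gens.1 q) h
    exact ⟨q, hq, _, by tauto, h⟩
  · obtain ⟨q, hq, h⟩ := hT r1' (fun q _ => r_gens.2.1 q) h
    exact ⟨q, hq, _, by tauto, h⟩
  · obtain ⟨q, hq, h⟩ := hT r2 (fun q _ => r_gens.2.2.1 q) h
    exact ⟨q, hq, _, by tauto, h⟩
  · obtain ⟨q, hq, h⟩ := hT r2' (fun q _ => r_gens.2.2.2 q) h
    exact ⟨q, hq, _, by tauto, h⟩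

theorem mk_conj {n : X} {q y : S64} {r : S64 → S64} (hq : q ∈ Q) (h : Act φ ((φ q)⁻¹ * n) r)
    (hy : y ∈ Q) (hr : r y ∈ Q) : π (n * φ y * n⁻¹) = π (φ (r y)) := by
  rw [← (H.mk_eq_cg).mpr (conj_Q q hq _ hr), ← act_map φ q _ hr, ← h y hy]
  congr 1
  group

theorem exists_odd [Finite X] : ∃ k ∈ N[Q.map φ], Odd (orderOf k) ∧
    ∃ q ∈ Q, ∃ r, (r = r1 ∨ r = r1' ∨ r = r2 ∨ r = r2') ∧ Act φ ((φ q)⁻¹ * k) r := by
  by_contra hn
  obtain ⟨-, -, -, -, -, -, -, -, -, -, -, -, -, ca, cb, cbz, ha, hb, -⟩ := basic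
  obtain ⟨g, hg⟩ := isConj_iff.mp H.ab
  obtain ⟨c, hc, hn0⟩ := wc_conj H.syl (isPGroup_map φ Q) H.wc (H.Q_le_C1 hb) (g := g) (by
    rintro _ ⟨x, hx, rfl⟩
    have := mem_C1.mp (H.Q_le_C1 ha hx)
    rw [mem_comap, mem_C1, ← hg]
    simp only [MulEquiv.coe_toMonoidHom, MulAut.conj_apply, map_mul, map_inv, conj_mul, this])
  obtain ⟨k, hk, p, hp⟩ := (H.syl.mono (range_le_normalizer φ) le_top).exists_mul_of_pow_mem
    (K := (C[(Q.map φ).map π]).comap π) (fun n hn => le_normalizer_comap π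
      (pg_le_normalizer_centralizer le_rfl (le_normalizer_map π ⟨n, hn, rfl⟩))) (fun n hm => by
      obtain ⟨j, hj⟩ := exists_pow_coprime_orderOf (p := 2) n
      have ho := Nat.coprime_two_right.mp hj
      obtain ⟨q, hq, r, hr, h⟩ := H.classify_odd (pow_mem hm _) ho
      obtain rfl := hr.resolve_right fun hr => hn ⟨_, pow_mem hm _, ho, q, hq, r, hr, h⟩
      refine ⟨j, ?_⟩
      rintro _ ⟨_, ⟨y, hy, rfl⟩, rfl⟩
      exact (mem_C1.mp (mem_C1_mk.mpr (H.mk_conj hq h hy hy))).symm) _ hn0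
  have h1 : π (φ b) = π (φ (p * a * p⁻¹)) := by
    rw [← mem_C1_mk.mp hc, ← mem_C1_mk.mp (mem_C1.mpr
      (hk _ (mem_map_of_mem _ (mem_map_of_mem φ (Q_norm a ha p)))).symm), ← act_map φ p a ha, hp,
      ← hg]
    congr 1
    group
  have := cs_Cg _ _ (H.mk_eq_cg.mp h1) (by rw [cs_conj, ca])
  omega

theorem mem_of_mk_eq {g : X} {q : S64} (hq : q ∈ Q) (h : π g = π (φ q)) : g ∈ Q.map φ := by
  rcases H.mk_eq.mp h with rfl | rfl
  · exact mem_map_of_mem φ hq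
  · exact mul_mem (mem_map_of_mem φ hq) (mem_map_of_mem φ (mem_Q_of_sq _ root_u.2 |> fun h =>
      root_u.2 ▸ mul_mem h h))

theorem s_not_mem [Finite X] : φ s ∉ pResidual 2 X := by
  intro hs
  obtain ⟨-, -, -, -, -, -, -, -, -, s2, sQ, sB, -⟩ := basic
  obtain ⟨S, hS⟩ := H.syl.exists_sylow_top
  obtain ⟨g, q, hq, hg⟩ := thompson_transfer S (M := Q.map φ) (by
    rw [hS, MonoidHom.range_eq_map]
    exact relIndex_map_eq_two H.inj le_top (by rw [card_top, card, card_Q]))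
    (by rw [sq, ← map_mul, s2, map_one]) hs
  obtain ⟨c, hc, h, hh, h1⟩ := wc_into H.syl (isPGroup_map φ Q) H.wc (H.Q_le_C1 hq)
    ((isPGroup_conj_iff (g := g)).mpr (isPGroup_map φ B)) (by
    rintro _ ⟨_, ⟨p, hp, rfl⟩, rfl⟩
    have := H.mk_eq_cg.mpr (B_s p hp)
    rw [mem_comap, mem_C1, hg]
    simp only [map_mul, map_inv, mul_inv_eq_iff_eq_mul] at this
    simp only [MulEquiv.coe_toMonoidHom, MulAut.conj_apply, map_mul, map_inv, conj_mul, this])
  rw [conj_conj] at h1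
  have h2 : h * c * g * φ s * (h * c * g)⁻¹ ∈ Q.map φ := by
    have := (mem_normalizer_iff.mp hh _).mp (H.mem_of_mk_eq hq (mem_C1_mk.mp hc))
    rwa [hg, show h * (c * (g * φ s * g⁻¹) * c⁻¹) * h⁻¹ = h * c * g * φ s * (h * c * g)⁻¹ by
      group] at this
  generalize h * c * g = n at h1 h2
  have h3 : ∀ x ∈ B, x * x = z → n * φ x * n⁻¹ ∈ Q.map φ := by
    intro x hx e
    obtain ⟨y, hy⟩ := h1 (conj_mem_conj (mem_map_of_mem φ hx) n)
    exact ⟨y, mem_Q_of_sq y (H.inj (by rw [map_mul, hy, conj_mul, ← map_mul, e, H.conj_z])), hy⟩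
  have h4 : n •ᶜ B.map φ ≤ Q.map φ := by
    rintro _ ⟨_, ⟨p, hp, rfl⟩, rfl⟩
    change n * φ p * n⁻¹ ∈ _
    obtain ⟨x, hx, e, rfl | rfl | ⟨y, hy, e', rfl | rfl⟩⟩ := B_gen p hp
    · exact h3 _ hx e
    · rw [map_mul, ← conj_mul]; exact mul_mem (h3 x hx e) h2
    · rw [map_mul, ← conj_mul]; exact mul_mem (h3 x hx e) (h3 y hy e')
    · rw [map_mul, map_mul, ← conj_mul, ← conj_mul]
      exact mul_mem (mul_mem (h3 x hx e) (h3 y hy e')) h2
  obtain ⟨d, hd, h5⟩ := wc_conj H.syl (isPGroup_map φ Q) H.wc (Y := N[n •ᶜ B.map φ]) (fun x hx =>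
    mem_normalizer_fintype fun w hw => by
      obtain ⟨y, hy, rfl⟩ := h4 hw
      rcases H.mk_eq.mp (mem_C1_mk.mp (H.Q_le_C1 hy hx)) with e | e <;> rw [e]
      · exact hw
      · exact mul_mem hw (H.conj_z n ▸ conj_mem_conj (mem_map_of_mem φ z_mem_B) n)) (g := n) (by
    rw [← conj_normalizer]
    exact map_mono ((map_le_range φ Q).trans (range_le_normalizer' φ B_norm)))
  have h6 := h4 ((mem_normalizer_iff.mp hd _).mp (conj_mem_conj (mem_map_of_mem φ sB) n))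
  rw [show d * (n * φ s * n⁻¹) * d⁻¹ = d * n * φ s * (d * n)⁻¹ by group] at h6
  exact sQ ((mem_map_iff_mem H.inj).mp ((mem_normalizer_iff.mp h5 _).mpr h6))

theorem Q_le_resid {k : X} (ho : Odd (orderOf k)) {q : S64} (hq : q ∈ Q)
    (h : Act φ ((φ q)⁻¹ * k) r1) : Q.map φ ≤ pResidual 2 X := by
  have key : ∀ x ∈ Q, φ x ∈ pResidual 2 X ∨ φ x * φ z ∈ pResidual 2 X := by
    intro x hx
    obtain ⟨y, hy, e⟩ := r_onto x hx
    have h1 := mem_pResidual_of_coprime (Nat.coprime_two_right.mpr ho)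
    have h2 := mul_mem h1 (pResidual_normal.conj_mem _ (inv_mem h1) (φ y))
    have h3 : π (k * (φ y * k⁻¹ * (φ y)⁻¹)) = π (φ x) := by
      rw [← H.mk_eq_cg.mpr e, map_mul φ, map_mul π (φ _), ← H.mk_conj hq h hy (r_mem y).1, ← map_mul,
        map_inv]
      congr 1
      group
    rcases H.mk_eq.mp h3 with e | e
    · exact Or.inl (e ▸ h2)
    · exact Or.inr (e ▸ h2)
  have hz : φ z ∈ pResidual 2 X := by
    rcases key i1 (mem_Q_of_sq _ root_u.2) with h | h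
    · have := mul_mem h h
      rwa [← map_mul, root_u.2] at this
    · have := mul_mem h h
      rwa [← map_mul, ← map_mul, show i1 * z * (i1 * z) = z by decide +kernel] at this
  rintro _ ⟨x, hx, rfl⟩
  exact (key x hx).elim id fun h => (mul_mem_cancel_right hz).mp h

theorem Q_normal [Finite X] (hQ : Q.map φ ≤ pResidual 2 X) : ⊤ ≤ N[Q.map φ] := by
  obtain ⟨z2, z1, -, u1, uz, -, a1, -, -, -, -, -, -, ca, -, -, aQ, -, uQ, zQ, -⟩ := basic
  have hS : IsSylowIn 2 (Q.map φ) (pResidual 2 X) := by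
    have := H.syl.inf_of_le_normalizer (N := pResidual 2 X) le_top (normalizer_eq_top _).ge
    rwa [show φ.range ⊓ pResidual 2 X = Q.map φ from le_antisymm ?_
      (le_inf (map_le_range φ Q) hQ)] at this
    rintro _ ⟨⟨p, rfl⟩, hp⟩
    refine mem_map_of_mem φ ((mem_Q_or p).resolve_right fun h => H.s_not_mem ?_)
    have := hQ (mem_map_of_mem φ h)
    rwa [map_mul, mul_mem_cancel_left (show φ p ∈ pResidual 2 X from hp)] at this
  have hZ : zpowers (φ z) ≤ Q.map φ := zpowers_le.mpr (mem_map_of_mem φ zQ)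
  have hz : Nat.card (zpowers (φ z)) = 2 := by
    rw [Nat.card_zpowers, orderOf_injective φ H.inj, h9_orderOf_eq_two_iff]; exact ⟨z1, z2⟩
  have hc : ∀ {n}, π n ∈ N[(Q.map φ).map π] → n ∈ N[Q.map φ] := fun hn => by
    have := le_normalizer_comap π hn
    rwa [comap_map_eq_self (by rwa [QuotientGroup.ker_mk'])] at this
  have hE : IsElementaryAbelian 2 ((Q.map φ).map π) := by
    refine ⟨isMulCommutative_of_forall ?_, ?_⟩
    · rintro _ ⟨x, hx, rfl⟩ _ ⟨_, ⟨y, hy, rfl⟩, rfl⟩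
      exact mem_C1.mp (H.Q_le_C1 hy hx)
    · rintro _ ⟨_, ⟨y, hy, rfl⟩, rfl⟩
      rw [sq, ← map_mul, ← map_mul, ← map_one π, ← map_one φ, H.mk_eq_cg]
      simpa [Cg] using sq_Q y hy
  have h1 : ∀ {y}, π (φ y) = 1 ↔ y = 1 ∨ y = z := by
    intro y
    rw [← map_one π, ← map_one φ, H.mk_eq_cg]
    simp [Cg]
  have := normal_of_fpf' (pPrimeCore_le_bot_of_normal (pPrimeCore_quotient_central H.core
    (isPGroup_of_card_eq_prime hz) fun g _ => by
      rw [centralizer_zpowers]; exact mem_C1.mpr (H.cen g))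
    (by
      have := pResidual_normal (p := 2).map π (QuotientGroup.mk'_surjective _)
      exact (normalizer_eq_top _).ge)) (hS.map π) hE (by
      have h2 := relIndex_mul_card hZ
      rw [← relIndex_ker, QuotientGroup.ker_mk']
      rw [hz, card_map_of_injective H.inj, card_Q] at h2
      omega) ?_ (mem_map_of_mem _ (mem_map_of_mem φ uQ)) (by rw [Ne, h1]; tauto)
    (mem_map_of_mem _ (mem_map_of_mem φ aQ)) (by rw [Ne, h1]; decide +kernel) ?_
  · obtain ⟨S, hS⟩ := H.syl.exists_sylow_top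
    rw [← pResidual_sup_sylow S, hS]
    exact sup_le (fun n hn => hc (this (mem_map_of_mem _ hn))) (range_le_normalizer φ)
  · rintro _ ⟨n, hn, rfl⟩ hn' _ ⟨_, ⟨y, hy, rfl⟩, rfl⟩ hy1 hcomm
    obtain ⟨c, d, hc', hd, e, h2, h3⟩ := exists_piPart {2} n
    have hcQ : c ∈ Q.map φ := hS.le_of_le_normalizer (R := zpowers c)
      (isPiSubgroup_singleton_iff.mp (isPiSubgroup_zpowers.mpr h2))
      (zpowers_le.mpr (zpowers_le.mpr hn hc')) (zpowers_le.mpr (zpowers_le.mpr (hc hn') hc'))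
      (mem_zpowers c)
    obtain ⟨q, hq, r, hr, h⟩ := H.classify_odd (zpowers_le.mpr (hc hn') hd)
      (Nat.not_even_iff_odd.mp fun e => (PiNat.compl_singleton_iff Nat.prime_two).mp h3 e.two_dvd)
    have h4 : π (d * φ y * d⁻¹) = π (φ y) := mem_C1_mk.mp
      (zpowers_le.mpr (show n ∈ (C1[π (φ y)]).comap π from mem_C1.mpr hcomm) hd)
    have h5 : r y ∈ Q → Cg (r y) y := fun h' => by rw [← H.mk_eq_cg, ← H.mk_conj hq h hy h', h4]
    obtain rfl := hr.resolve_right (by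
      obtain ⟨m1, m2, m3, m4⟩ := r_mem y
      rintro (rfl | rfl | rfl | rfl) <;> exact hy1 (h1.mpr (r_fpf y hy (by tauto))))
    rw [← e, map_mul]
    refine mul_mem (elemAb_le_centralizer hE (mem_map_of_mem _ hcQ)) ?_
    rintro _ ⟨_, ⟨w, hw, rfl⟩, rfl⟩
    exact (mem_C1.mp (mem_C1_mk.mpr (H.mk_conj hq h hw hw))).symm
  · intro h
    obtain ⟨g, hg⟩ := isConj_iff.mp h
    obtain ⟨g, rfl⟩ := QuotientGroup.mk'_surjective _ g
    rw [← map_inv, ← map_mul, ← map_mul, H.mk_eq, ← map_mul] at hg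
    rcases hg with hg | hg
    · exact H.ua (isConj_iff.mpr ⟨g, hg⟩)
    · exact H.not_conj (Or.inl (cs_Cg _ _ (Or.inr rfl) ca)) (isConj_iff.mpr ⟨g, hg⟩)

omit [(zpowers (φ z)).Normal] in
theorem cent_le [Finite X] (hQ : ⊤ ≤ N[Q.map φ]) {g : X} (hg : g ∈ C[Q.map φ]) :
    g = 1 ∨ g = φ z := by
  have hn := pg_le_normalizer_centralizer hQ
  have := H.syl.inf_of_le_normalizer le_top hn
  rw [show φ.range ⊓ C[Q.map φ] = zpowers (φ z) from le_antisymm ?_ (zpowers_le.mpr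
    ⟨⟨z, rfl⟩, fun w _ => H.cen w⟩)] at this
  · exact pg_mem_zpowers_order_two (by rw [sq, ← map_mul, basic.1, map_one])
      (le_of_central_sylow H.core hn this (fun g _ => by
        rw [centralizer_zpowers]; exact mem_C1.mpr (H.cen g)) hg)
  · rintro _ ⟨⟨p, rfl⟩, hp⟩
    rcases cent_Q p (fun q hq => H.inj (by
      rw [map_mul, map_mul]; exact hp _ (mem_map_of_mem φ hq))) with rfl | rfl
    · rw [map_one]; exact one_mem _
    · exact mem_zpowers _

theorem exists_equiv1 [Finite X] {k : X} (ho : Odd (orderOf k)) {q : S64} (hq : q ∈ Q)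
    (h : Act φ ((φ q)⁻¹ * k) r1) : ∃ ψ : H192 →* X, Function.Bijective ψ ∧ ∀ p, ψ (ι p) = φ p := by
  have hQ := H.Q_normal (H.Q_le_resid ho hq h)
  have hr : ∀ q ∈ Q, r1 q ∈ Q := fun q _ => (r_mem q).1
  have z2 : φ z * φ z = 1 := by rw [← map_mul, basic.1, map_one]
  have s2 : φ s * φ s = 1 := by rw [← map_mul, basic.2.2.2.2.2.2.2.2.2.1, map_one]
  have z1 : φ z ≠ 1 := fun e => basic.2.1 (H.inj (e.trans (map_one φ).symm))
  generalize (φ q)⁻¹ * k = n at h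
  have h3 := (h.mul (h.mul h hr) fun q hq => hr _ (hr q hq)).mem_centralizer
    fun q hq => (r_inv q hq).2.2.2.1
  obtain ⟨t, ht, t3⟩ : ∃ t, Act φ t r1 ∧ t ^ 3 = 1 := by
    refine ⟨n * (n * (n * n)), fun q hq => ?_, ?_⟩
    · rw [← h q hq, mul_assoc n, ← h3 _ (mem_map_of_mem φ hq)]; group
    · rw [show (n * (n * (n * n))) ^ 3 = (n * (n * n) * (n * (n * n))) ^ 2 by
        simp only [pow_succ, pow_zero, one_mul, mul_assoc]]
      rcases H.cent_le hQ h3 with e | e <;> rw [e]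
      · simp
      · rw [z2, one_pow]
  have ts : t * φ s = φ s * t ^ 2 := by
    have h4 := ((act_map φ s).mul (ht.mul ((act_map φ s).mul ht hr) fun q hq =>
      Q_norm _ (hr q hq) s) fun q hq => hr _ (Q_norm _ (hr q hq) s)).mem_centralizer
      fun q hq => (r_inv q hq).2.2.2.2
    have hs := inv_eq_of_mul_eq_one_right s2
    rcases H.cent_le hQ h4 with e | e
    · calc _ = (φ s)⁻¹ * (φ s * (t * (φ s * t))) * t ^ 2 * (t ^ 3)⁻¹ := by group
        _ = _ := by rw [e, t3, hs]; group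
    · exfalso
      have h5 : φ s * t * (φ s)⁻¹ = φ z * t⁻¹ := by rw [← e, hs]; group
      have h6 := congrArg (· ^ 3) h5
      simp only [conj_pow] at h6
      rw [(Commute.inv_right (H.cen t).symm).mul_pow, inv_pow, t3, pow_three, z2] at h6
      exact z1 (by simpa using h6.symm)
  have swap : ∀ i p, ∃ p' j, ρ ^ i * ι p = ι p' * ρ ^ j ∧ t ^ i * φ p = φ p' * t ^ (j : ℕ) := by
    intro i p
    induction i with
    | zero => exact ⟨p, 0, by simp, by simp⟩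
    | succ i ih =>
      obtain ⟨p', j, e1, e2⟩ := ih
      rw [pow_succ', pow_succ', mul_assoc, mul_assoc, e1, e2]
      rcases mem_Q_or p' with hp | hp
      · exact ⟨r1 p', j + 1, by rw [ι_r1 _ hp]; group, by rw [← ht _ hp]; group⟩
      · refine ⟨r1 (p' * s) * s, j + 2, ?_, ?_⟩
        · have := ρ_facts.2.1
          rw [map_mul, ι_r1 _ hp, map_mul]
          calc _ = ρ * (ι p' * ι s) * ρ⁻¹ * (ρ * ι s) * ρ ^ j := by
                rw [show ρ * (ι p' * ι s) * ρ⁻¹ * (ρ * ι s) = ρ * ι p' * (ι s * ι s) by group,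
                  ← map_mul ι s, basic.2.2.2.2.2.2.2.2.2.1, map_one]; group
            _ = _ := by rw [this]; group
        · rw [map_mul, ← ht _ hp, map_mul]
          calc _ = t * (φ p' * φ s) * t⁻¹ * (t * φ s) * t ^ j := by
                rw [show t * (φ p' * φ s) * t⁻¹ * (t * φ s) = t * φ p' * (φ s * φ s) by group, s2]
                group
            _ = _ := by rw [ts]; group
  have key : ∀ p i, φ (sp (ι p * ρ ^ i)) * t ^ ((ι p * ρ ^ i).val / 64) = φ p * t ^ i := by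
    intro p i
    rw [pow_eq_pow_mod i ρ_facts.1, pow_eq_pow_mod i t3]
    obtain ⟨d0, d1, d2⟩ := dec_uniq p
    have : i % 3 < 3 := Nat.mod_lt _ (by norm_num)
    generalize i % 3 = j at this
    interval_cases j
    · rw [pow_zero, mul_one, d0.1, d0.2]
    · rw [pow_one ρ, d1.1, d1.2]
    · rw [d2.1, d2.2]
  let ψ : H192 →* X := MonoidHom.mk' (fun x => φ (sp x) * t ^ (x.val / 64)) fun x y => by
    obtain ⟨p, j, e1, e2⟩ := swap (x.val / 64) (sp y)
    have : x * y = ι (sp x * p) * ρ ^ (j + y.val / 64) := by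
      conv_lhs => rw [dec x, dec y]
      rw [mul_assoc, ← mul_assoc (ρ ^ _), e1, map_mul]; group
    rw [this, key, mul_assoc, ← mul_assoc (t ^ _), e2, map_mul]; group
  have hψ : ∀ p, ψ (ι p) = φ p := fun p => by
    have := key p 0
    rw [pow_zero, pow_zero, mul_one, mul_one] at this
    exact this
  have hρ : ψ ρ = t := by
    have h0 : ψ (ι 1 * ρ ^ 1) = φ 1 * t ^ 1 := key 1 1
    rwa [show ι 1 * ρ ^ 1 = ρ by decide +kernel, map_one, one_mul, pow_one] at h0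
  clear_value ψ
  refine ⟨ψ, ⟨(injective_iff_map_eq_one ψ).mpr fun x hx => ?_, ?_⟩, hψ⟩
  · by_contra hx1
    obtain ⟨g, hg⟩ := z_mem_closure x hx1
    apply z1
    rw [← hψ, ρ_facts.2.2.1]
    rcases hg with hg | hg | hg <;> rw [← hg] <;> simp [hx]
  · obtain ⟨S, hS⟩ := H.syl.exists_sylow_top
    have hm : ∀ p, φ p ∈ ψ.range := fun p => ⟨_, hψ p⟩
    have hC : ∀ g ∈ C[Q.map φ], g ∈ ψ.range := fun g hg => by
      rcases H.cent_le hQ hg with rfl | rfl
      · exact one_mem _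
      · exact hm z
    have ht' : t ∈ ψ.range := ⟨_, hρ⟩
    rw [← MonoidHom.range_eq_top, eq_top_iff, ← pResidual_sup_sylow S, hS]
    refine sup_le ((closure_le _).mpr fun g hg => ?_) (by rintro _ ⟨p, rfl⟩; exact hm p)
    obtain ⟨q, hq, r, hr', h⟩ := H.classify_odd (hQ (mem_top g)) (Nat.coprime_two_right.mp hg)
    rw [SetLike.mem_coe, ← mul_mem_cancel_left (inv_mem (hm q))]
    have hb : ∀ {r}, Act φ ((φ q)⁻¹ * g) r → IsConj (φ u) (φ (r (r1 u))) := fun h =>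
      isConj_iff.mpr ⟨_, h.mul ht hr u basic.2.2.2.2.2.2.2.2.2.2.2.2.2.2.2.2.2.2.1⟩
    rcases hr' with rfl | rfl | rfl | rfl | rfl
    · exact hC _ (h.mem_centralizer fun _ _ => rfl)
    · exact (mul_mem_cancel_right (mul_mem ht' ht')).mp (hC _ ((h.mul (ht.mul ht hr)
        fun q hq => hr _ (hr q hq)).mem_centralizer fun q hq => (r_inv q hq).2.2.2.1))
    · exact (mul_mem_cancel_right ht').mp (hC _ ((h.mul ht hr).mem_centralizer
        fun q hq => (r_inv q hq).1))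
    · exact absurd (hb h) (H.not_conj (Or.inl r_bad.1))
    · exact absurd (hb h) (H.not_conj (Or.inr r_bad.2))

omit [(zpowers (φ z)).Normal] in
theorem comp_σ : Loc (φ.comp σ) where
  inj := H.inj.comp (Function.LeftInverse.injective σ_σ)
  syl := by
    rw [MonoidHom.range_comp, MonoidHom.range_eq_top.mpr (Function.RightInverse.surjective σ_σ),
      ← MonoidHom.range_eq_map]
    exact H.syl
  core := H.core
  cen x := by rw [MonoidHom.comp_apply, σ_facts.1, H.cen]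
  ab := by
    rw [MonoidHom.comp_apply, MonoidHom.comp_apply, σ_facts.2.2.1]
    exact H.ab.trans (φ.map_isConj (isConj_iff.mpr (cs_six _ σ_facts.2.2.2)))
  ua := by
    rw [MonoidHom.comp_apply, MonoidHom.comp_apply, σ_facts.2.2.1, σ_facts.2.1]
    exact H.ua

omit [(zpowers (φ z)).Normal] in
/-- the group is `2^(1+4).S3` -/
theorem exists_equiv [Finite X] : ∃ ψ : H192 →* X, Function.Bijective ψ ∧
    ((∀ p, ψ (ι p) = φ p) ∨ ∀ p, ψ (ι p) = φ (σ p)) := by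
  haveI := H.normal_z
  haveI := H.comp_σ.normal_z
  have inv : ∀ {k : X} {q : S64} {r r' : S64 → S64}, q ∈ Q → (∀ y ∈ Q, r y ∈ Q) →
      (∀ y ∈ Q, r' (r y) = y) → Act φ ((φ q)⁻¹ * k) r' → Act φ ((φ (r q⁻¹))⁻¹ * k⁻¹) r := by
    intro k q r r' hq h1 h2 h y hy
    have e1 := h _ (h1 y hy)
    have e2 := h _ (h1 _ (inv_mem hq))
    rw [h2 y hy] at e1
    rw [h2 _ (inv_mem hq), map_inv] at e2
    have e3 : φ (r q⁻¹) = k⁻¹ * (φ q)⁻¹ * k := by
      calc _ = k⁻¹ * φ q * ((φ q)⁻¹ * k * φ (r q⁻¹) * ((φ q)⁻¹ * k)⁻¹) * (φ q)⁻¹ * k := by group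
        _ = _ := by rw [e2]; group
    rw [e3, ← e1]; group
  have two : ∀ {k : X} {q : S64}, Odd (orderOf k) → q ∈ Q → Act φ ((φ q)⁻¹ * k) r2 →
      ∃ ψ : H192 →* X, Function.Bijective ψ ∧ ∀ p, ψ (ι p) = φ (σ p) := fun ho hq h =>
    H.comp_σ.exists_equiv1 ho (σ_mem _ hq) fun y hy => by
      simp only [MonoidHom.comp_apply, σ_σ, σ_r y hy]
      exact h _ (σ_mem y hy)
  obtain ⟨k, -, ho, q, hq, r, rfl | rfl | rfl | rfl, h⟩ := H.exists_odd
  · exact (H.exists_equiv1 ho hq h).imp fun _ h => ⟨h.1, Or.inl h.2⟩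
  · exact (H.exists_equiv1 (by rwa [orderOf_inv]) (r_mem _).1 (inv hq (fun y _ => (r_mem y).1)
      (fun y hy => (r_inv y hy).1) h)).imp fun _ h => ⟨h.1, Or.inl h.2⟩
  · exact (two ho hq h).imp fun _ h => ⟨h.1, Or.inr h.2⟩
  · exact (two (by rwa [orderOf_inv]) (r_mem _).2.2.1 (inv hq (fun y _ => (r_mem y).2.2.1)
      (fun y hy => (r_inv y hy).2.2.1) h)).imp fun _ h => ⟨h.1, Or.inr h.2⟩

end Loc

end Cfsg.Lib.IC
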