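import Cfsg.Agent.Lib.InvChar.M12Main
import Cfsg.Agent.Lib.InvChar.M12Loc
import Cfsg.Agent.Lib.Quad.Factor

/-!
A simple group with an involution centraliser `2^(1+4).S3` modulo its core and two classes of
involutions has order 95040.
-/

set_option autoImplicit false

namespace Cfsg.Lib.IC

open Subgroup Cfsg.Lib.FT S64

variable {G : Type*} [Group G]

theorem S64.E_normal : ∀ p : S64, p ∈ E → ∀ g : H192, sp (g * ι p * g⁻¹) ∈ E ∧
    ι (sp (g * ι p * g⁻¹)) = g * ι p * g⁻¹ := by decide +kernel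

theorem H192.cent_two : ∀ x : H192, x * x = 1 → x ≠ 1 → x ≠ H192.z → ∀ y, y * x = x * y →
    y ^ 8 = 1 := by decide +kernel

theorem H192.inj_of_z {ψ : H192 →* G} (h : ψ H192.z ≠ 1) : Function.Injective ψ := by
  refine (injective_iff_map_eq_one ψ).mpr fun x hx => by_contra fun hx1 => h ?_
  obtain ⟨g, hg⟩ := z_mem_closure x hx1
  rcases hg with hg | hg | hg <;> rw [← hg] <;> simp [hx]

section lift

variable [Finite G] {G' : Type*} [Group G'] {f : G →* G'}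

theorem odd_of_mem_ker (hk : ¬ 2 ∣ Nat.card f.ker) {x : G} (hx : f x = 1) : Odd (orderOf x) :=
  Nat.not_even_iff_odd.mp fun e => hk (e.two_dvd.trans (f.ker.orderOf_dvd_natCard hx))

theorem eq_one_of_mem_ker (hk : ¬ 2 ∣ Nat.card f.ker) {x : G} (hx : f x = 1) (h2 : x * x = 1) :
    x = 1 := by
  by_contra h
  have := odd_of_mem_ker hk hx
  rw [h9_orderOf_eq_two_iff.mpr ⟨h, h2⟩] at this
  exact absurd this (by decide)

theorem exists_comm_lift (hf : Function.Surjective f) (hk : ¬ 2 ∣ Nat.card f.ker) {x : G}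
    (hx : x * x = 1) {y' : G'} (h : y' * f x = f x * y') : ∃ y, y * x = x * y ∧ f y = y' := by
  obtain ⟨y, rfl⟩ := hf y'
  have h1 : f (y * x * y⁻¹ * x) = 1 := by
    rw [map_mul, map_mul, map_mul, h, map_inv, mul_inv_cancel_right, ← map_mul, hx, map_one]
  obtain ⟨k, hk⟩ := h9_conj_of_odd (by rw [conj_mul, hx]; group) hx (odd_of_mem_ker hk h1)
  refine ⟨(y * x * y⁻¹ * x) ^ k * y, ?_, by rw [map_mul, map_pow, h1, one_pow, one_mul]⟩
  generalize (y * x * y⁻¹ * x) ^ k = w at hk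
  calc _ = w * (y * x * y⁻¹) * w⁻¹ * (w * y) := by group
    _ = _ := by rw [hk]

theorem exists_invol_lift (hk : ¬ 2 ∣ Nat.card f.ker) {y : G} (h : f y * f y = 1) :
    ∃ w ∈ zpowers y, w * w = 1 ∧ f w = f y := by
  obtain ⟨k, hk⟩ := odd_of_mem_ker hk (x := y * y) (by rw [map_mul, h])
  refine ⟨y ^ (2 * k + 1), npow_mem_zpowers _ _, ?_, ?_⟩
  · rw [← (Commute.refl y).mul_pow, ← hk, pow_orderOf_eq_one]
  · rw [map_pow, pow_succ, pow_mul, pow_two, h, one_pow, one_mul]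

end lift

theorem Hyp12.fus [Finite G] {φ : H192 →* G} (H : Hyp12 φ) (zv : IsConj (φ H192.z) (φ H192.v)) :
    Fus12 φ := by
  have key : ∀ {x : G} {p : H192}, orderOf x = 2 → IsConj x (φ p) →
      (IsConj (φ H192.z) x ∨ IsConj (φ H192.e) x) ∨ H192.cl p = 4 := by
    intro x p hx hc
    rcases H.cases ((h9_orderOf_of_isConj hc).trans hx) with rfl | h1 | h1 | h1
    · exact Or.inl (Or.inl hc.symm)
    · exact Or.inl (Or.inl ((zv.trans (conj2 φ h1)).trans hc.symm))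
    · exact Or.inl (Or.inr ((conj3 φ h1).trans hc.symm))
    · exact Or.inr h1
  refine ⟨H, zv, fun x hx => ?_⟩
  obtain ⟨S, hS⟩ := H.exists_sylow
  obtain ⟨g, -, hg⟩ := (IsSylowIn.of_sylow_top S).exists_conj_le (U := zpowers x)
    (isPGroup_of_card_eq_prime (by rw [Nat.card_zpowers, hx])) le_top
  obtain ⟨y, -, hy⟩ := hS ▸ hg (conj_mem_conj (mem_zpowers x) g)
  have hc : IsConj x (φ y) := isConj_iff.mpr ⟨g, hy.symm⟩
  refine (key hx hc).elim id fun h4 => ?_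
  obtain ⟨p, q, p4, q4, h1, h2, h3⟩ := four_pair
  obtain ⟨g, hg⟩ := isConj_iff.mp (zv.trans (conj2 φ ρ_facts.2.2.2.1)).symm
  obtain ⟨p', hp⟩ := H.tr hg (map_comm φ h2)
  obtain ⟨q', hq⟩ := H.tr hg (map_comm φ h3)
  have hs := hc.trans (conj4 φ h4).symm
  refine (key hx ((hs.trans (conj4 φ p4)).trans (isConj_iff.mpr ⟨g, hp.symm⟩))).elim id fun p4 => ?_
  refine (key hx ((hs.trans (conj4 φ q4)).trans (isConj_iff.mpr ⟨g, hq.symm⟩))).elim id fun q4 => ?_
  have h5 : g * φ H192.z * g⁻¹ = φ (p' * q' * (p' * q')) := by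
    rw [← h1]
    simp only [map_mul, hp, hq]
    group
  have h6 := H192.cl_mul_self (p' * q')
  have h7 := cl_four_sq p' p4 q' q4
  rcases H.cases ((h9_orderOf_of_isConj (isConj_iff.mpr ⟨g, h5⟩)).trans H.ordz) with h | h
  · have := ρ_facts.2.2.2.1
    rw [h] at h5
    rw [H.inj (mul_left_cancel (mul_right_cancel (hg.trans h5.symm))), H192.cl_vals.2.1] at this
    omega
  · omega

/-- the Sylow subgroup inside the centraliser of its central involution -/
def cz (φ : S64 →* G) : S64 →* C1[φ z] :=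
  φ.codRestrict _ fun p => mem_C1.mpr (by rw [← map_mul, comm_z, map_mul])

/-- the centraliser of the central involution is `2^(1+4).S3` modulo its core -/
structure Rel12 (φ : S64 →* G) (π : C1[φ z] →* H192) : Prop where
  surj : Function.Surjective π
  odd : ¬ 2 ∣ Nat.card π.ker
  ext : ∀ p, π (cz φ p) = ι p
  uz : ∃ g, g * φ u * g⁻¹ = φ z ∧ (g * φ z * g⁻¹ = φ u ∨ g * φ z * g⁻¹ = φ (u * z))
  za : ¬ IsConj (φ z) (φ a)

namespace Rel12

variable [Finite G] {φ : S64 →* G} {π : C1[φ z] →* H192} (H : Rel12 φ π)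
include H

omit [Finite G] in
theorem inj : Function.Injective φ := fun p q h =>
  ι_inj (by rw [← H.ext, ← H.ext, show cz φ p = cz φ q from Subtype.ext h])

omit [Finite G] in
theorem ord {p : S64} (h1 : p * p = 1) (h2 : p ≠ 1) : orderOf (φ p) = 2 := by
  rw [orderOf_injective φ H.inj, h9_orderOf_eq_two_iff]
  exact ⟨h2, h1⟩

theorem isConj {x : C1[φ z]} (hx : (x : G) * x = 1) {p : S64} (hp : p * p = 1)
    (h : IsConj (ι p) (π x)) : IsConj (φ p) x :=
  (C1[φ z]).subtype.map_isConj (isConj_of_map H.surj H.odd (x := cz φ p)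
    (by rw [← map_mul, hp, map_one]) (Subtype.ext hx) (by rwa [H.ext]))

theorem conj_z {x : C1[φ z]} (hx : (x : G) * x = 1) (h : π x = H192.z ∨ H192.cl (π x) = 2) :
    IsConj (φ z) x := by
  rcases h with h | h
  · exact H.isConj hx basic.1 (by rw [h, ρ_facts.2.2.1])
  · obtain ⟨g, hg, -⟩ := H.uz
    exact (isConj_iff.mpr ⟨g, hg⟩).symm.trans (H.isConj hx basic.2.2.1
      ((conj2 (MonoidHom.id _) ρ_facts.2.2.2.1).symm.trans (conj2 (MonoidHom.id _) h)))

theorem dpow {x y w : G} (hx : IsConj (φ z) x) (hy : IsConj (φ z) y) (hw : w ∈ zpowers (x * y))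
    (h2 : orderOf w = 2) (hc : Commute w x) : IsConj (φ z) w := by
  have o := H.ord basic.1 basic.2.1
  have sq : ∀ {x}, IsConj (φ z) x → x * x = 1 := fun h =>
    (h9_orderOf_eq_two_iff.mp ((h9_orderOf_of_isConj h).trans o)).2
  obtain ⟨w1, w2⟩ := h9_orderOf_eq_two_iff.mp h2
  have h3 : IsConj (φ z) (x * w) := (isConj_mul_of_mem_zpowers (sq hx) (sq hy) hw w2).elim
    hx.trans fun h => hy.trans h.1
  obtain ⟨g, hg⟩ := isConj_iff.mp hx.symm
  let c : C1[φ z] := ⟨g * w * g⁻¹, mem_C1.mpr (by rw [← hg, conj_mul, conj_mul, hc.eq])⟩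
  have c2 : (c : G) * c = 1 := by simp only [c]; rw [conj_mul, w2]; group
  refine IsConj.trans (b := (c : G)) ?_ (isConj_iff.mpr ⟨g, rfl⟩).symm
  have key : H192.cl (π c) = 3 ∨ H192.cl (π c) = 4 → IsConj (φ z) (c : G) := fun h => by
    refine (h3.trans (isConj_iff.mpr ⟨g, ?_⟩)).trans ((C1[φ z]).subtype.map_isConj
      (isConj_of_map H.surj H.odd (x := c) (y := cz φ z * c) (Subtype.ext c2) (Subtype.ext ?_)
      (by rw [map_mul, H.ext, ρ_facts.2.2.1]; exact isConj_iff.mpr (H192.conj_mul_z _ h)))).symm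
    · rw [← conj_mul, hg]; rfl
    · change φ z * c * (φ z * c) = 1
      rw [mul_assoc, ← mul_assoc (c : G), mem_C1.mp c.2, mul_assoc, c2, mul_one, sq (IsConj.refl _)]
  rcases H192.cl_cases (π c) (by rw [← map_mul, show c * c = 1 from Subtype.ext c2, map_one])
    with h | h | h | h
  · exact absurd (conj_eq_one_iff.mp (congrArg Subtype.val
      (eq_one_of_mem_ker H.odd h (Subtype.ext c2)))) w1
  · exact H.conj_z c2 (Or.inl h)
  · exact H.conj_z c2 (Or.inr h)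
  · exact key h

theorem mem_core {c : C1[φ z]} (h : π c = 1) : (c : G) ∈ centralizerPPrimeCore 2 (φ z) := by
  rw [centralizerPPrimeCore_eq]
  exact ⟨c, le_piCore inferInstance (isPiSubgroup_compl_singleton_iff.mpr H.odd) h, rfl⟩

theorem map_eq_one {x c : C1[φ z]} (x2 : x * x = 1) (x1 : x ≠ 1) (xz : x ≠ cz φ z)
    (hc : c * x = x * c) (ho : ¬ 2 ∣ orderOf c) : π c = 1 := by
  have z2 : cz φ z * cz φ z = 1 := by rw [← map_mul, basic.1, map_one]
  have h8 := H192.cent_two (π x) (by rw [← map_mul, x2, map_one])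
    (fun h => x1 (eq_one_of_mem_ker H.odd h x2)) (fun h => xz (by
      rw [← inv_eq_of_mul_eq_one_right z2, ← mul_eq_one_iff_eq_inv]
      refine eq_one_of_mem_ker H.odd (by rw [map_mul, h, H.ext, ρ_facts.2.2.1]; decide +kernel) ?_
      rw [← pow_two, Commute.mul_pow (Subtype.ext (mem_C1.mp x.2) : x * cz φ z = cz φ z * x), pow_two, pow_two, x2, z2, one_mul]))
    (π c) (by rw [← map_mul, hc, map_mul])
  rw [← orderOf_eq_one_iff]
  exact Nat.eq_one_of_dvd_coprimes ((Nat.coprime_two_left.mpr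
    (Nat.not_even_iff_odd.mp fun e => ho e.two_dvd)).pow_left 3) (orderOf_dvd_of_pow_eq_one h8)
    (orderOf_map_dvd π c)

theorem bal {x y : G} (hx : orderOf x = 2) (hy : IsConj (φ z) y) (hc : x * y = y * x) :
    centralizerPPrimeCore 2 x ⊓ C1[y] ≤ centralizerPPrimeCore 2 y := by
  by_cases e : x = y
  · rw [e]; exact inf_le_left
  obtain ⟨g, hg⟩ := isConj_iff.mp hy.symm
  intro c hc'
  rw [← conj_mem_conj_iff (g := g), ← centralizerPPrimeCore_conj', hg]
  have m : ∀ {c}, c * y = y * c → g * c * g⁻¹ ∈ C1[φ z] := fun h =>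
    mem_C1.mpr (by rw [← hg, conj_mul, conj_mul, h])
  obtain ⟨x1, x2⟩ := h9_orderOf_eq_two_iff.mp hx
  refine H.mem_core (c := ⟨_, m (mem_C1.mp hc'.2)⟩) (H.map_eq_one (x := ⟨_, m hc⟩)
    (Subtype.ext (conj_mul.trans (by simp [x2]))) (fun h => x1 (conj_eq_one_iff.mp
      (congrArg Subtype.val h))) (fun h => e (mul_left_cancel (mul_right_cancel
      ((congrArg Subtype.val h).trans hg.symm))))
    (Subtype.ext (conj_mul.trans ((mem_C1.mp (cpc_le x hc'.1)) ▸ conj_mul.symm))) fun h => ?_)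
  rw [← Subgroup.orderOf_coe, h9_orderOf_of_isConj (isConj_iff.mpr ⟨g, rfl⟩)] at h
  exact cpc_not_dvd x (h.trans (Subgroup.orderOf_dvd_natCard _ hc'.1))

theorem exists_hyp {M : Subgroup G} (hM : C1[φ z] ≤ M) {Y : Type*} [Group Y] {f : M →* Y}
    (hf : Function.Surjective f) (ho : ¬ 2 ∣ Nat.card f.ker)
    (hk : ∀ c, π c = 1 → f (inclusion hM c) = 1) :
    ∃ ψ : H192 →* Y, Hyp12 ψ ∧ ∀ p, ψ (ι p) = f (inclusion hM (cz φ p)) := by
  obtain ⟨ψ, hψ⟩ : ∃ ψ : H192 →* Y, ∀ c, ψ (π c) = f (inclusion hM c) :=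
    ⟨π.liftOfSurjective H.surj ⟨f.comp (inclusion hM), hk⟩, fun c =>
      π.liftOfRightInverse_comp_apply _ _ _ c⟩
  have hz : ψ H192.z = f (inclusion hM (cz φ z)) := by rw [← hψ, H.ext, ρ_facts.2.2.1]
  have z2 : inclusion hM (cz φ z) * inclusion hM (cz φ z) = 1 := by
    rw [← map_mul, ← map_mul, basic.1, map_one, map_one]
  refine ⟨ψ, ⟨H192.inj_of_z fun e => basic.2.1 (H.inj ?_), le_antisymm ?_ fun y hy => ?_⟩,
    fun p => by rw [← hψ, H.ext]⟩
  · rw [map_one]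
    exact congrArg Subtype.val (eq_one_of_mem_ker ho (hz ▸ e) z2)
  · rintro _ ⟨p, rfl⟩
    exact mem_C1.mpr (map_comm ψ (H192.comm_z p))
  · obtain ⟨y, h, rfl⟩ := exists_comm_lift hf ho z2 (hz ▸ mem_C1.mp hy)
    exact ⟨π ⟨y, mem_C1.mpr (congrArg Subtype.val h)⟩, hψ _⟩

theorem conj_E {p : S64} (hp : p ∈ E) (h1 : p ≠ 1) : IsConj (φ z) (φ p) :=
  H.conj_z (x := cz φ p) (by change φ p * φ p = 1; rw [← map_mul, (E_comm p hp).1, map_one]) (by
    rw [H.ext, ← H192.cl_one]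
    exact ((E_iff p).mp hp).resolve_left h1)

/-- the signalizer functor of the cores on the normal elementary abelian subgroup -/
theorem exists_W : ∃ W : Subgroup G, ¬ 2 ∣ Nat.card W ∧ centralizerPPrimeCore 2 (φ z) ≤ W ∧
    C1[φ z] ≤ N[W] ∧ ∃ g ∈ N[W], g * φ u * g⁻¹ = φ z := by
  have hE : IsElementaryAbelian 2 (E.map φ) := elemAb_map ⟨isMulCommutative_of_forall fun p hp =>
    (E_comm p hp).2, fun p hp => (pow_two p).trans (E_comm p hp).1⟩ φ
  have hθ := cpc_sig hE (fun a _ _ => isSolvable_of_not_two_dvd (cpc_not_dvd a)) (by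
    rintro x hx x1 _ ⟨p, hp, rfl⟩ h1
    exact H.bal (elemAb_orderOf hE hx x1) (H.conj_E hp fun e => h1 (by rw [e, map_one]))
      (elemAb_le_centralizer hE (mem_map_of_mem φ hp) x hx))
  have hW := sigClosure_mem_two hE (by rw [card_map_of_injective H.inj, card_E]; norm_num) hθ
  have hz := le_sigClosure (θ := centralizerPPrimeCore 2) (a := φ z)
    (mem_map_of_mem φ (U_le_E z ((mem_U z).mpr (by simp))))
    (h9_orderOf_eq_two_iff.mp (H.ord basic.1 basic.2.1)).1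
  refine ⟨_, sigFam_not_dvd hW, hz, fun c hc => ?_, ?_⟩
  · obtain ⟨k, hk, n, hn, e⟩ := Quad.exists_ker_mul_normalizer π (p := 2)
      ((Nat.prime_two.coprime_iff_not_dvd.mpr H.odd).symm) (isPGroup_map (cz φ) E) (g := ⟨c, hc⟩) (by
        refine mem_normalizer_fintype ?_
        rintro _ ⟨_, ⟨p, hp, rfl⟩, rfl⟩
        exact ⟨_, ⟨_, (E_normal p hp _).1, rfl⟩, by rw [H.ext, H.ext, (E_normal p hp _).2]⟩)
    rw [show c = k * n from congrArg Subtype.val e]
    refine mul_mem (le_normalizer (hz (H.mem_core hk))) (normalizer_le_normalizer_cpcClosure _ ?_)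
    have := le_normalizer_map (C1[φ z]).subtype (mem_map_of_mem _ hn)
    rwa [map_map] at this
  · obtain ⟨g, h1, h2⟩ := H.uz
    refine ⟨g, ?_, h1⟩
    rw [← sigClosure_eq_of_le hE hθ.1 (map_mono U_le_E)
      (by rw [card_map_of_injective H.inj, card_U]; norm_num)]
    refine normalizer_le_normalizer_cpcClosure _ (mem_normalizer_fintype ?_)
    have m : ∀ p, p = z ∨ p = u → g * φ p * g⁻¹ ∈ U.map φ := by
      rintro p (rfl | rfl)
      · exact h2.elim (fun h => h ▸ mem_map_of_mem φ ((mem_U _).mpr (by simp)))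
          fun h => h ▸ mem_map_of_mem φ ((mem_U _).mpr (by simp))
      · exact h1 ▸ mem_map_of_mem φ ((mem_U _).mpr (by simp))
    rintro _ ⟨p, hp, rfl⟩
    rcases (mem_U p).mp hp with rfl | rfl | rfl | rfl
    · rw [map_one, mul_one, mul_inv_cancel]; exact one_mem _
    · exact m _ (Or.inl rfl)
    · exact m _ (Or.inr rfl)
    · rw [map_mul, ← conj_mul]
      exact mul_mem (m _ (Or.inr rfl)) (m _ (Or.inl rfl))

theorem card_eq [IsSimpleGroup G] (hG : ¬ IsMulCommutative G) : Nat.card G = 95040 := by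
  obtain ⟨W, hW, hz, hM, g0, hg0, hu⟩ := H.exists_W
  have oz := H.ord basic.1 basic.2.1
  by_cases hT : N[W] = ⊤
  · have : W = ⊥ := (normalizer_eq_top_iff.mp hT).eq_bot_or_eq_top.resolve_right fun e =>
      hW (oz ▸ W.orderOf_dvd_natCard (e ▸ mem_top _))
    obtain ⟨ψ, h, -⟩ := H.exists_hyp (M := ⊤) le_top (f := (⊤ : Subgroup G).subtype)
      (fun x => ⟨⟨x, trivial⟩, rfl⟩) (by rw [ker_subtype, card_bot]; decide)
      fun c hc => mem_bot.mp (this ▸ hz (H.mem_core hc))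
    exact h.card_eq hG
  exfalso
  obtain ⟨M, hM', Y, _, _, f, hf, ho, hk⟩ : ∃ M : Subgroup G, M = N[W] ∧ ∃ (Y : Type _) (_ : Group Y)
      (_ : Finite Y) (f : M →* Y), Function.Surjective f ∧ ¬ 2 ∣ Nat.card f.ker ∧
      ∀ x : M, (x : G) ∈ W → f x = 1 :=
    ⟨_, rfl, _, _, inferInstance, QuotientGroup.mk' (W.subgroupOf N[W]), QuotientGroup.mk'_surjective _,
      by rwa [QuotientGroup.ker_mk', Nat.card_congr (subgroupOfEquivOfLe le_normalizer).toEquiv],
      fun x hx => (QuotientGroup.eq_one_iff x).mpr hx⟩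
  rw [← hM'] at hM hg0 hT
  clear hM' hW
  obtain ⟨ψ, h, hψ⟩ := H.exists_hyp hM hf ho fun c hc => hk _ (hz (H.mem_core hc))
  obtain ⟨j, hj, hψ⟩ : ∃ j : S64 →* M, (∀ p, (j p : G) = φ p) ∧ ∀ p, ψ (ι p) = f (j p) :=
    ⟨(inclusion hM).comp (cz φ), fun _ => rfl, hψ⟩
  have F := h.fus (IsConj.trans (by
    rw [← ρ_facts.2.2.1, hψ, hψ]
    exact (f.map_isConj (isConj_iff.mpr ⟨⟨g0, hg0⟩, Subtype.ext (by simpa [hj] using hu)⟩)).symm)
    (conj2 ψ ρ_facts.2.2.2.1).symm)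
  obtain ⟨e, he, e2⟩ : ∃ e : S64, ι e = H192.e ∧ e * e = 1 := ⟨sp H192.e, by decide +kernel⟩
  have ze : ¬ IsConj (φ z) (φ e) := fun h => H.za (h.trans (H.isConj (x := cz φ e)
    (by change φ e * φ e = 1; rw [← map_mul, e2, map_one]) basic.2.2.2.2.2.1
    (by rw [H.ext, he]; exact (conj3 (MonoidHom.id _) ρ_facts.2.2.2.2).symm)).symm)
  have oe : orderOf (φ e) = 2 := H.ord e2 fun h => by
    rw [h, map_one] at he; exact absurd he (by decide +kernel)
  have sq : ∀ {x}, IsConj (φ z) x → x * x = 1 := fun h =>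
    (h9_orderOf_eq_two_iff.mp ((h9_orderOf_of_isConj h).trans oz)).2
  have lift : ∀ {p x}, p * p = 1 → x * x = 1 → IsConj (ψ (ι p)) (f x) →
      ∃ m ∈ M, m * φ p * m⁻¹ = x := fun {p x} hp hx h => by
    obtain ⟨m, hm⟩ := isConj_iff.mp (isConj_of_map hf ho (x := j p)
      (by rw [← map_mul, hp, map_one]) hx (hψ p ▸ h))
    exact ⟨m, m.2, by simpa [hj] using congrArg Subtype.val hm⟩
  have two : ∀ x ∈ M, orderOf x = 2 →
      (∃ m ∈ M, m * φ z * m⁻¹ = x) ∨ ∃ m ∈ M, m * φ e * m⁻¹ = x := fun x hx h2 => by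
    obtain ⟨x1, x2⟩ := h9_orderOf_eq_two_iff.mp h2
    have x3 : (⟨x, hx⟩ : M) * ⟨x, hx⟩ = 1 := Subtype.ext x2
    refine (F.two (f ⟨x, hx⟩) (h9_orderOf_eq_two_iff.mpr ⟨fun e => x1 (congrArg Subtype.val
      (eq_one_of_mem_ker ho e x3)), by rw [← map_mul, x3, map_one]⟩)).imp
      (fun h => lift basic.1 x3 (by rwa [ρ_facts.2.2.1])) fun h => lift e2 x3 (by rwa [he])
  have fix0 : ∀ g, g * φ z * g⁻¹ ∈ M → g ∈ M := fun g hg => by
    have hc : IsConj (φ z) (g * φ z * g⁻¹) := isConj_iff.mpr ⟨g, rfl⟩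
    obtain ⟨m, hm, h⟩ | ⟨m, -, h⟩ := two _ hg ((h9_orderOf_of_isConj hc).trans oz)
    · refine (mul_mem_cancel_left (inv_mem hm)).mp (hM (mem_C1.mpr ?_))
      calc _ = m⁻¹ * (g * φ z * g⁻¹) * g := by group
        _ = _ := by rw [← h]; group
    · exact absurd (hc.trans (isConj_iff.mpr ⟨m, h⟩).symm) ze
  have fix : ∀ {x}, IsConj (φ z) x → x ∈ M → ∀ g, g * x * g⁻¹ ∈ M → g ∈ M := fun hx hm g hg => by
    obtain ⟨k, rfl⟩ := isConj_iff.mp hx
    exact (mul_mem_cancel_right (fix0 k hm)).mp (fix0 _ (by simpa [mul_assoc] using hg))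
  have cen : ∀ {x}, IsConj (φ z) x → x ∈ M → C1[x] ≤ M := fun hx hm g hg =>
    fix hx hm g (by rwa [mem_C1.mp hg, mul_inv_cancel_right])
  have zM : φ z ∈ M := hM (mem_C1_self _)
  by_cases hC : C1[φ e] ≤ M
  · obtain ⟨g, -, hg⟩ := SetLike.not_le_iff_exists.mp (fun h => hT (top_le_iff.mp h))
    refine ze ((isConj_iff.mpr ⟨g, rfl⟩).trans (isConj_of_not_mem (M := M) (fun w hw h2 => ?_) oe
      (hC (mem_C1_self _)) (sq (isConj_iff.mpr ⟨g, rfl⟩)) fun h => hg (fix0 g h)).symm)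
    obtain ⟨m, hm, rfl⟩ | ⟨m, hm, rfl⟩ := two w hw h2 <;> rw [← conj_centralizer_singleton]
    · exact conj_le_of_mem hM hm
    · exact conj_le_of_mem hC hm
  obtain ⟨c, hc, hcM⟩ := SetLike.not_le_iff_exists.mp hC
  have ze' : φ z ∈ C1[φ e] := mem_C1.mpr (by rw [← map_mul, ← comm_z, map_mul])
  have hy : IsConj (φ z) (c * φ z * c⁻¹) := isConj_iff.mpr ⟨c, rfl⟩
  have hyC := mul_mem (mul_mem hc ze') (inv_mem hc)
  have hyM : c * φ z * c⁻¹ ∉ M := fun h => hcM (fix0 c h)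
  generalize c * φ z * c⁻¹ = y at hy hyC hyM
  have ext : ∀ x, IsConj (φ z) x → x ∈ M → x ∈ C1[φ e] →
      ∃ t ∈ C1[φ e], IsConj (φ z) t ∧ t * x * t⁻¹ = y := fun x hx hm hc => by
    have ho : Odd (orderOf (x * y)) := Nat.not_even_iff_odd.mp fun he => by
      obtain ⟨m, -, h2, h3, h4⟩ := h9_central_invol_of_even (sq hx) (sq hy) he
      exact hyM (cen (H.dpow hx hy (npow_mem_zpowers _ m) h2 h3) (cen hx hm (mem_C1.mpr h3.eq))
        (mem_C1.mpr h4.eq.symm))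
    obtain ⟨k, hk⟩ := h9_conj_of_odd (sq hx) (sq hy) ho
    refine ⟨(x * y) ^ k * x, mul_mem (pow_mem (mul_mem hc hyC) k) hc, hx.trans
      (h9_isConj_of_odd ?_ (sq hx) ?_).symm, Eq.trans (by group) hk⟩
    · calc _ = (x * y) ^ k * (x * (x * y) ^ k * x⁻¹) * (x * x) := by group
        _ = _ := by
          rw [h9_conj_pow_of_inv (h9_invol_inverts_left (sq hx) (sq hy)), sq hx]; group
    · rw [mul_assoc, sq hx, mul_one]
      exact ho.of_dvd_nat (orderOf_pow_dvd k)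
  obtain ⟨t, tC, ht, tz⟩ := ext _ (IsConj.refl _) zM ze'
  have noD : ∀ d ∈ M, t * d * t⁻¹ ∈ M → ¬ IsConj (φ z) d := fun d h1 h2 h3 =>
    hyM (tz ▸ mul_mem (mul_mem (fix h3 h1 t h2) zM) (inv_mem (fix h3 h1 t h2)))
  have hfe : ψ H192.e = f (j e) := by rw [← he, hψ]
  have lz : ∀ {w : M}, w * w = 1 → IsConj (ψ H192.z) (f w) → IsConj (φ z) (w : G) := fun h2 h => by
    obtain ⟨m, -, h⟩ := lift basic.1 h2 (by rwa [ρ_facts.2.2.1])
    exact isConj_iff.mpr ⟨m, h⟩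
  refine F.not_trans (Y := ((C1[φ e] ⊓ M.comap (MulAut.conj t).toMonoidHom).subgroupOf M).map f)
    ?_ ?_ fun x hx => ?_
  · rintro _ ⟨x, hx, rfl⟩
    rw [mem_C1, hfe, ← map_mul, ← map_mul]
    exact congrArg f (Subtype.ext (by simpa [hj] using mem_C1.mp hx.1))
  · rintro _ ⟨x, hx, rfl⟩ h
    obtain ⟨w, hw, w2, hw'⟩ := exists_invol_lift ho (y := x)
      (h9_orderOf_eq_two_iff.mp ((h9_orderOf_of_isConj h).trans F.ordz)).2
    exact noD w w.2 (zpowers_le.mpr hx hw).2 (lz w2 (hw' ▸ h))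
  · obtain ⟨x', h1, rfl⟩ := exists_comm_lift hf ho (x := j e) (by rw [← map_mul, e2, map_one])
      (hfe ▸ hx.2)
    obtain ⟨w, hw, w2, hw'⟩ := exists_invol_lift ho (y := x') (F.sq hx)
    have wD := lz w2 (hw' ▸ hx.1)
    obtain ⟨r, rC, hr, rw⟩ := ext w wD w.2 (mem_C1.mpr (by
      simpa [hj] using congrArg Subtype.val (mem_C1.mp (zpowers_le.mpr (mem_C1.mpr h1) hw))))
    have h2 : t * r * w * (t * r)⁻¹ = φ z := by
      calc _ = t * (r * w * r⁻¹) * t⁻¹ := by group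
        _ = t * t * φ z * (t * t)⁻¹ := by rw [rw, ← tz]; group
        _ = _ := by rw [sq ht]; group
    have h3 : t * r ∈ M := fix wD w.2 _ (h2 ▸ zM)
    have h4 : ∀ m : ℕ, t * (t * r) ^ m * t⁻¹ ∈ M := fun m => by
      rw [h9_conj_pow_of_inv (h9_invol_inverts_left (sq ht) (sq hr))]
      exact inv_mem (pow_mem h3 m)
    refine ⟨f ⟨_, h3⟩, mem_map_of_mem f ⟨mul_mem tC rC, by simpa using h4 1⟩,
      Odd.of_dvd_nat ?_ (orderOf_map_dvd f _), ?_⟩
    · rw [← Subgroup.orderOf_coe, ← Nat.not_even_iff_odd]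
      intro he
      obtain ⟨m, -, h5, h6, -⟩ := h9_central_invol_of_even (sq ht) (sq hr) he
      exact noD _ (pow_mem h3 m) (h4 m) (H.dpow ht hr (npow_mem_zpowers _ m) h5 h6)
    · rw [← hw', ← ρ_facts.2.2.1, hψ, ← map_inv, ← map_mul, ← map_mul]
      exact congrArg f (Subtype.ext (by simpa [hj] using h2))

end Rel12

end Cfsg.Lib.IC
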