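import Cfsg.Agent.Lib.InvChar.M12Tab

/-!
Computed facts about the group `2^(1+4).S3` of order 192.
-/

set_option autoImplicit false

namespace Cfsg.Lib.IC.H192

open Cfsg.Lib.PC

def z : H192 := tab192.el 1
def e : H192 := tab192.el 10
def v : H192 := tab192.el 16
def f : H192 := tab192.el 21
def s : H192 := tab192.el 32
def h : H192 := tab192.el 5

/-- the class label of an involution -/
def cl (x : H192) : ℕ := app 3 cls192 x.val

def S0 : Subgroup H192 := Tab.sub 18446744073709551615 (by decide +kernel)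
def Q0 : Subgroup H192 := Tab.sub 4294967295 (by decide +kernel)
def D0 : Subgroup H192 := Tab.sub 1320242851 (by decide +kernel)
def W0 : Subgroup H192 := Tab.sub 1141982211 (by decide +kernel)
def M0 : Subgroup H192 := Tab.sub 11600035 (by decide +kernel)

instance : DecidablePred (· ∈ S0) := fun _ => inferInstanceAs (Decidable (_ = true))
instance : DecidablePred (· ∈ Q0) := fun _ => inferInstanceAs (Decidable (_ = true))
instance : DecidablePred (· ∈ D0) := fun _ => inferInstanceAs (Decidable (_ = true))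
instance : DecidablePred (· ∈ W0) := fun _ => inferInstanceAs (Decidable (_ = true))
instance : DecidablePred (· ∈ M0) := fun _ => inferInstanceAs (Decidable (_ = true))

theorem card : Nat.card H192 = 192 := Tab.card_El
theorem card_S0 : Nat.card S0 = 64 := by rw [Tab.card_subgroup]; decide +kernel
theorem card_Q0 : Nat.card Q0 = 32 := by rw [Tab.card_subgroup]; decide +kernel
theorem card_D0 : Nat.card D0 = 16 := by rw [Tab.card_subgroup]; decide +kernel
theorem card_W0 : Nat.card W0 = 8 := by rw [Tab.card_subgroup]; decide +kernel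
theorem card_M0 : Nat.card M0 = 8 := by rw [Tab.card_subgroup]; decide +kernel
theorem Q0_le : ∀ x, x ∈ Q0 → x ∈ S0 := by decide +kernel
theorem W0_le : ∀ x, x ∈ W0 → x ∈ D0 := by decide +kernel
theorem M0_le : ∀ x, x ∈ M0 → x ∈ D0 := by decide +kernel

theorem cl_cases : ∀ x : H192, x * x = 1 → x = 1 ∨ x = z ∨ cl x = 2 ∨ cl x = 3 ∨ cl x = 4 := by
  decide +kernel
theorem cl_one : ∀ x : H192, cl x = 1 ↔ x = z := by decide +kernel
theorem cl_two : ∀ x : H192, cl x = 2 → ∃ g, g * v * g⁻¹ = x := by decide +kernel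
theorem cl_three : ∀ x : H192, cl x = 3 → ∃ g, g * e * g⁻¹ = x := by decide +kernel
theorem cl_four : ∀ x : H192, cl x = 4 → ∃ g, g * s * g⁻¹ = x := by decide +kernel
theorem cl_vals : cl 1 = 0 ∧ cl z = 1 ∧ cl v = 2 ∧ cl e = 3 ∧ cl s = 4 ∧ cl f = 3 ∧
    cl (f * e) = 3 ∧ cl (v * z) = 2 := by decide +kernel
theorem cl_sq : ∀ x : H192, cl x ≠ 0 → x * x = 1 ∧ x ≠ 1 := by decide +kernel
theorem not_conj_s_e : ∀ g : H192, g * s * g⁻¹ ≠ e := by decide +kernel
theorem comm_z : ∀ x : H192, x * z = z * x := by decide +kernel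
theorem z_mem : z ∈ S0 := by decide +kernel
theorem center_S0 : ∀ x : H192, (∀ y, y ∈ S0 → y * x = x * y) → x = 1 ∨ x = z := by decide +kernel
theorem mem_Q0 : ∀ x : H192, (cl x = 2 ∨ cl x = 3 → x ∈ Q0) ∧ (x ∈ Q0 → cl x ≠ 4) := by
  decide +kernel
theorem cl_mul_self : ∀ y : H192, cl (y * y) ≠ 3 ∧ cl (y * y) ≠ 4 := by decide +kernel
theorem exists_v1 : ∃ a : H192, cl a = 2 ∧ cl (a * z) = 2 ∧ a * s = s * a := by decide +kernel
theorem exists_transv : ∀ p : H192, p * p = 1 → p ≠ 1 → p ≠ z → ∀ q, q * q = 1 → p * q = q * p →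
    ∃ n, (n * p * n⁻¹ = p ∨ n * p * n⁻¹ = p * z) ∧ (n * q * n⁻¹ = q ∨ n * q * n⁻¹ = q * z) ∧
      ¬ (n * p * n⁻¹ = p ∧ n * q * n⁻¹ = q) := by decide +kernel
theorem not_transv : ∀ x : H192, x * e = e * x → x * f * x⁻¹ ≠ f * e := by decide +kernel
theorem h_facts : h * e = e * h ∧ h * f * h⁻¹ = f * z ∧ h * h = z ∧ f * e = e * f ∧
    v * e = e * v ∧ f * v * f⁻¹ = v * z ∧ z * z = 1 ∧ e * e = 1 ∧ f * f = 1 ∧ v * v = 1 ∧
    z ≠ e ∧ z ≠ s ∧ e ∉ M0 := by decide +kernel
theorem conj_mul_z : ∀ w : H192, cl w = 3 ∨ cl w = 4 → ∃ g, g * w * g⁻¹ = z * w := by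
  decide +kernel

/-- the involutions of the first two types commuting with `w` -/
def J (w p : H192) : Prop := p * w = w * p ∧ (cl p = 1 ∨ cl p = 2)

instance (w : H192) : DecidablePred (J w) := fun _ => inferInstanceAs (Decidable (_ ∧ _))

theorem J_card : ∀ w : H192, cl w = 3 ∨ cl w = 4 → tab192.cnt (J w) = 3 := by decide +kernel
theorem J_mul : ∀ w : H192, cl w = 3 ∨ cl w = 4 → ∀ p, J w p → ∀ q, J w q →
    p * q = q * p ∧ (p ≠ q → J w (p * q)) := by decide +kernel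
theorem not_comm_three_four : ∀ w : H192, cl w = 3 → ∀ p, cl p = 4 → p * w ≠ w * p := by
  decide +kernel
theorem mem_D0 : ∀ x : H192, x ∈ D0 ↔ x * e = e * x := by decide +kernel
theorem center_D0 : ∀ p : H192, (∀ y, y ∈ D0 → y * p = p * y) → p = 1 ∨ p = z ∨ cl p = 3 := by
  decide +kernel
theorem J_e : ∀ p : H192, J e p → p = z ∨ p = v ∨ p = v * z := by decide +kernel
theorem inv_W0 : ∀ p : H192, p ∈ W0 → p = 1 ∨ p = e ∨ cl p = 1 ∨ cl p = 2 ∨ cl (p * e) = 1 ∨
    cl (p * e) = 2 := by decide +kernel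
theorem D0_cosets : ∀ p : H192, p ∈ D0 → ∃ u, (u = 1 ∨ u = z ∨ u = v ∨ u = v * z) ∧
    (p = u ∨ p * u = e ∨ p * u = f ∨ p * u = f * e) := by decide +kernel
theorem card_U : tab192.cnt (fun u => u = 1 ∨ u = z ∨ u = v ∨ u = v * z) = 4 := by decide +kernel

/-- `z` is a power of `y` -/
def B (y : H192) : Prop := y = z ∨ y * y = z ∨ y * y * y = z ∨ y * y * (y * y) = z

instance : DecidablePred B := fun _ => inferInstanceAs (Decidable (_ ∨ _))

theorem mem_zpowers_iff (y : H192) : z ∈ Subgroup.zpowers y ↔ B y := by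
  have h1 : ∀ y : H192, y ^ 24 = 1 := by decide +kernel
  have h2 : ∀ y : H192, allLt 24 (fun k => decide (y ^ k = z → B y)) = true := by decide +kernel
  constructor
  · intro hz
    obtain ⟨k, hk⟩ := (mem_powers_iff_mem_zpowers.mpr hz)
    simp only at hk
    rw [pow_eq_pow_mod k (h1 y)] at hk
    exact of_decide_eq_true ((allLt_iff _ _).mp (h2 y) _ (Nat.mod_lt _ (by norm_num))) hk
  · have := Subgroup.mem_zpowers y
    rintro (h | h | h | h) <;> rw [← h]
    · exact this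
    · exact mul_mem this this
    · exact mul_mem (mul_mem this this) this
    · exact mul_mem (mul_mem this this) (mul_mem this this)

theorem count_C : {x : H192 × H192 | (cl x.1 = 1 ∨ cl x.1 = 2 ∨ cl x.1 = 4) ∧ cl x.2 = 3 ∧
    B (x.1 * x.2)}.ncard = 240 :=
  (Tab.ncard_pairs fun a b : H192 => (cl a = 1 ∨ cl a = 2 ∨ cl a = 4) ∧ cl b = 3 ∧
    B (a * b)).trans (by decide +kernel)

theorem count_D : {x : H192 × H192 | (cl x.1 = 1 ∨ cl x.1 = 2) ∧ (cl x.2 = 3 ∨ cl x.2 = 4) ∧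
    B (x.1 * x.2)}.ncard = 48 :=
  (Tab.ncard_pairs fun a b : H192 => (cl a = 1 ∨ cl a = 2) ∧ (cl b = 3 ∨ cl b = 4) ∧
    B (a * b)).trans (by decide +kernel)

theorem count_B : {x : H192 × H192 | (cl x.1 = 1 ∨ cl x.1 = 2 ∨ cl x.1 = 4) ∧
    (cl x.2 = 1 ∨ cl x.2 = 2 ∨ cl x.2 = 4) ∧ B (x.1 * x.2)}.ncard = 318 :=
  (Tab.ncard_pairs fun a b : H192 => (cl a = 1 ∨ cl a = 2 ∨ cl a = 4) ∧
    (cl b = 1 ∨ cl b = 2 ∨ cl b = 4) ∧ B (a * b)).trans (by decide +kernel)

end Cfsg.Lib.IC.H192
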