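import Cfsg.Agent.Lib.InvChar.M12Facts
import Cfsg.Agent.Lib.InvChar.Basic

/-!
Wong's theorem: a simple group with an involution centraliser `2^(1+4).S3` of the type occurring
in `M12` has order 95040.
-/

set_option autoImplicit false

namespace Cfsg.Lib.IC

open Subgroup H192

variable {G : Type*} [Group G]

/-- the group of order 192 is the centraliser of the image of its central involution -/
structure Hyp12 (φ : H192 →* G) : Prop where
  inj : Function.Injective φ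
  cent : φ.range = centralizer {φ z}

theorem conj2 (φ : H192 →* G) {p : H192} (hp : cl p = 2) : IsConj (φ v) (φ p) :=
  φ.map_isConj (isConj_iff.mpr (cl_two p hp))

theorem conj3 (φ : H192 →* G) {p : H192} (hp : cl p = 3) : IsConj (φ e) (φ p) :=
  φ.map_isConj (isConj_iff.mpr (cl_three p hp))

theorem conj4 (φ : H192 →* G) {p : H192} (hp : cl p = 4) : IsConj (φ s) (φ p) :=
  φ.map_isConj (isConj_iff.mpr (cl_four p hp))

theorem map_comm (φ : H192 →* G) {p q : H192} (h : p * q = q * p) : φ p * φ q = φ q * φ p := by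
  rw [← map_mul, h, map_mul]

namespace Hyp12

variable {φ : H192 →* G} (H : Hyp12 φ)
include H

theorem ex {g : G} (hg : g * φ z = φ z * g) : ∃ p, φ p = g :=
  show g ∈ φ.range from H.cent ▸ mem_centralizer_singleton_iff.mpr hg

theorem ord {p : H192} (hp : cl p ≠ 0) : orderOf (φ p) = 2 := by
  rw [orderOf_injective φ H.inj, h9_orderOf_eq_two_iff]
  exact (cl_sq p hp).symm

theorem ordz : orderOf (φ z) = 2 := H.ord (by rw [cl_vals.2.1]; norm_num)

theorem orde : orderOf (φ e) = 2 := H.ord (by rw [cl_vals.2.2.2.1]; norm_num)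

theorem cases {p : H192} (hp : orderOf (φ p) = 2) : p = z ∨ cl p = 2 ∨ cl p = 3 ∨ cl p = 4 := by
  rw [orderOf_injective φ H.inj, h9_orderOf_eq_two_iff] at hp
  exact (cl_cases p hp.2).resolve_left hp.1

theorem comm_of {p q : H192} (h : φ p * φ q = φ q * φ p) : p * q = q * p :=
  H.inj (by rw [map_mul, h, map_mul])

theorem card_cent : Nat.card (centralizer ({φ z} : Set G)) = 192 := by
  rw [← H.cent, ← Nat.card_congr (MonoidHom.ofInjective H.inj).toEquiv, card]

theorem tr {g u y : G} (hg : g * u * g⁻¹ = φ z) (hy : y * u = u * y) :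
    ∃ p, φ p = g * y * g⁻¹ := by
  apply H.ex
  rw [← hg]
  calc _ = g * (y * u) * g⁻¹ := by group
    _ = _ := by rw [hy]; group

theorem exists_sylow [Finite G] : ∃ S : Sylow 2 G, (S : Subgroup G) = S0.map φ := by
  refine exists_sylow_map H.inj (IsPGroup.of_card (n := 6) card_S0) ?_ fun g hg => ?_
  · have := S0.index_mul_card
    rw [card_S0, card] at this
    omega
  · obtain ⟨p, -, hp⟩ := (mem_normalizer_iff.mp hg _).mp (mem_map_of_mem φ z_mem)
    rcases center_S0 p (fun y hy => H.comm_of (by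
      rw [hp]
      refine comm_conj_of_mem_normalizer ?_ hg (mem_map_of_mem φ hy)
      rintro _ ⟨y, -, rfl⟩
      exact map_comm φ (comm_z y))) with rfl | rfl
    · have := h9_orderOf_of_isConj (isConj_iff.mpr ⟨g, hp.symm⟩)
      rw [map_one, orderOf_one, H.ordz] at this
      omega
    · exact H.ex (mul_inv_eq_iff_eq_mul.mp hp.symm)

theorem isConj_of_twoCentral [Finite G] {u : G} (hu : IsTwoCentralInvolution u) :
    IsConj (φ z) u := by
  obtain ⟨S, hS⟩ := H.exists_sylow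
  obtain ⟨h2, P, hP, hc⟩ := hu
  obtain ⟨g, rfl⟩ := MulAction.exists_smul_eq G S P
  have h1 : g⁻¹ * u * g ∈ (S : Subgroup G) := sm_mem_sylow_smul.mp hP
  rw [hS] at h1
  obtain ⟨p, -, hp⟩ := h1
  have hu : g * φ p * g⁻¹ = u := by rw [hp]; group
  rcases center_S0 p (fun y hy => H.comm_of (by
    have h3 : g * φ y * g⁻¹ ∈ g • S := sm_mem_sylow_smul.mpr (by
      change _ ∈ (S : Subgroup G)
      rw [hS, show g⁻¹ * (g * φ y * g⁻¹) * g = φ y by group]
      exact mem_map_of_mem φ hy)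
    have h4 := hc _ h3
    rw [hp]
    calc _ = g⁻¹ * (g * φ y * g⁻¹ * u) * g := by group
      _ = _ := by rw [h4]; group)) with rfl | rfl
  · rw [map_one, mul_one, mul_inv_cancel] at hu
    rw [← hu, orderOf_one] at h2
    omega
  · exact isConj_iff.mpr ⟨g, hu⟩

theorem not_conj_e : ¬ IsConj (φ z) (φ e) := by
  intro he
  obtain ⟨g, hg⟩ := isConj_iff.mp he.symm
  obtain ⟨p, hp⟩ := H.tr hg (map_comm φ (comm_z e).symm)
  obtain ⟨q, hq⟩ := H.tr hg (map_comm φ h_facts.2.2.2.1)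
  have op : orderOf (φ p) = 2 :=
    (h9_orderOf_of_isConj (isConj_iff.mpr ⟨g, hp.symm⟩)).trans H.ordz
  have oq : orderOf (φ q) = 2 := (h9_orderOf_of_isConj (isConj_iff.mpr ⟨g, hq.symm⟩)).trans
    (H.ord (by rw [cl_vals.2.2.2.2.2.1]; norm_num))
  rw [orderOf_injective φ H.inj, h9_orderOf_eq_two_iff] at op oq
  obtain ⟨n, n1, n2, n3⟩ := exists_transv p op.2 op.1 (by
    rintro rfl
    exact h_facts.2.2.2.2.2.2.2.2.2.2.1 (H.inj (by simpa using hp.symm.trans hg.symm))) q oq.2 (H.comm_of (by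
      rw [hp, hq]
      calc _ = g * (φ z * φ f) * g⁻¹ := by group
        _ = _ := by rw [← map_comm φ (comm_z f)]; group))
  have fin : ∀ w : G, MulAut.conj w (φ z) = φ z → MulAut.conj w (φ e) = φ e →
      MulAut.conj w (φ f) = φ (f * e) → False := by
    intro w h1 h2 h3
    obtain ⟨y, rfl⟩ := H.ex (mul_inv_eq_iff_eq_mul.mp h1)
    refine not_transv y (H.comm_of (mul_inv_eq_iff_eq_mul.mp h2)) (H.inj ?_)
    rw [← h3]; simp
  have key : ∀ {a b : G} {x y : H192}, φ x = g * a * g⁻¹ → φ y = g * b * g⁻¹ →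
      n * x * n⁻¹ = y → MulAut.conj (g⁻¹ * φ n * g) a = b := by
    intro a b x y h1 h2 h3
    rw [← h3, map_mul, map_mul, map_inv, h1] at h2
    rw [MulAut.conj_apply]
    calc _ = g⁻¹ * (φ n * (g * a * g⁻¹) * (φ n)⁻¹) * g := by group
      _ = _ := by rw [h2]; group
  have hpz : φ (p * z) = g * (φ z * φ e) * g⁻¹ := by rw [map_mul, hp, ← hg]; group
  have hqz : φ (q * z) = g * (φ f * φ e) * g⁻¹ := by rw [map_mul, hq, ← hg]; group
  have xe := key hg.symm hg.symm (by rw [comm_z, mul_inv_cancel_right])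
  have be : MulAut.conj (φ h) (φ e) = φ e := by
    rw [MulAut.conj_apply, map_comm φ h_facts.1, mul_inv_cancel_right]
  have bz : MulAut.conj (φ h) (φ z) = φ z := by
    rw [MulAut.conj_apply, map_comm φ (comm_z h), mul_inv_cancel_right]
  have bf : MulAut.conj (φ h) (φ f) = φ f * φ z := by
    rw [MulAut.conj_apply, ← map_inv, ← map_mul, ← map_mul, h_facts.2.1, map_mul]
  generalize g⁻¹ * φ n * g = x at key xe
  rcases n1 with n1 | n1
  · rcases n2 with n2 | n2
    · exact n3 ⟨n1, n2⟩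
    · exact fin x (key hp hp n1) xe (by rw [key hq hqz n2, map_mul])
  · have xz := key hp hpz n1
    refine fin (x * φ h * x * φ h) ?_ ?_ ?_
    · simp only [map_mul MulAut.conj, MulAut.mul_apply, bz, xz, map_mul (MulAut.conj _), be, xe]
      simp only [← map_mul φ]
      exact congrArg φ (by decide +kernel)
    · simp only [map_mul MulAut.conj, MulAut.mul_apply, be, xe]
    · rcases n2 with n2 | n2
      · simp only [map_mul MulAut.conj, MulAut.mul_apply, bz, xz, map_mul (MulAut.conj _), be, xe,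
          bf, key hq hq n2]
        simp only [← map_mul φ]
        exact congrArg φ (by decide +kernel)
      · simp only [map_mul MulAut.conj, MulAut.mul_apply, bz, xz, map_mul (MulAut.conj _), be, xe,
          bf, key hq hqz n2]
        simp only [← map_mul φ]
        exact congrArg φ (by decide +kernel)

theorem conj_v [Finite G] [IsSimpleGroup G] (hG : ¬ IsMulCommutative G) :
    IsConj (φ z) (φ v) := by
  by_contra hv
  have hv' : ∀ p, cl p = 2 → ¬ IsConj (φ z) (φ p) := fun p hp hc =>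
    hv (hc.trans (conj2 φ hp).symm)
  have he : ∀ p, cl p = 3 → ¬ IsConj (φ z) (φ p) := fun p hp hc =>
    H.not_conj_e (hc.trans (conj3 φ hp).symm)
  obtain ⟨y, h1, h2, h3⟩ := exists_commute_conj hG H.ordz
  obtain ⟨p, rfl⟩ := H.ex h2
  rcases H.cases ((h9_orderOf_of_isConj h1).trans H.ordz) with rfl | hp | hp | hp
  · exact h3 rfl
  · exact hv' p hp h1
  · exact he p hp h1
  have hs := h1.trans (conj4 φ hp).symm
  obtain ⟨g, hg⟩ := isConj_iff.mp hs.symm
  obtain ⟨a, a1, a2, a3⟩ := exists_v1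
  obtain ⟨b, hb⟩ := H.tr hg (map_comm φ a3)
  obtain ⟨c, hc⟩ := H.tr hg (map_comm φ (show a * z * s = s * (a * z) by
    rw [mul_assoc, ← comm_z, ← mul_assoc, a3, mul_assoc]))
  have key : ∀ a b, cl a = 2 → φ b = g * φ a * g⁻¹ → b ∈ Q0 := by
    intro a b ha hb
    have hc : IsConj (φ a) (φ b) := isConj_iff.mpr ⟨g, hb.symm⟩
    rcases H.cases ((h9_orderOf_of_isConj hc).trans (H.ord (by omega))) with rfl | hp | hp | hp
    · exact absurd hc.symm (hv' a ha)
    · exact (mem_Q0 b).1 (Or.inl hp)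
    · exact (mem_Q0 b).1 (Or.inr hp)
    · exact absurd (hs.trans ((conj4 φ hp).trans hc.symm)) (hv' a ha)
  have h4 : φ (b * c) = g * φ z * g⁻¹ := by
    rw [map_mul, hb, hc, show z = a * (a * z) by
      rw [← mul_assoc, (cl_sq a (by omega)).1, one_mul], map_mul φ a (a * z)]
    rw [show a * (a * (a * z)) = a * z by rw [← mul_assoc a a, (cl_sq a (by omega)).1, one_mul]]
    group
  have h5 : IsConj (φ z) (φ (b * c)) := isConj_iff.mpr ⟨g, h4.symm⟩
  rcases H.cases ((h9_orderOf_of_isConj h5).trans H.ordz) with hp | hp | hp | hp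
  · rw [hp] at h4
    exact h_facts.2.2.2.2.2.2.2.2.2.2.2.1 (H.inj (by simpa using h4.symm.trans hg.symm))
  · exact hv' _ hp h5
  · exact he _ hp h5
  · exact (mem_Q0 _).2 (mul_mem (key a b a1 hb) (key _ c a2 hc)) hp

theorem two_classes [Finite G] [IsSimpleGroup G] (hG : ¬ IsMulCommutative G) (x : G)
    (hx : orderOf x = 2) : IsConj (φ z) x ∨ IsConj (φ e) x := by
  obtain ⟨S, hS⟩ := H.exists_sylow
  obtain ⟨g, p, hp, hg⟩ := thompson_transfer' (sm_index_ne_two hG) S (M := Q0.map φ)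
    (hS ▸ relIndex_map_eq_two H.inj Q0_le (by rw [card_S0, card_Q0])) (t := x)
    (by rw [← hx, pow_orderOf_eq_one])
  have hc : IsConj x (φ p) := isConj_iff.mpr ⟨g, hg.symm⟩
  rcases H.cases ((h9_orderOf_of_isConj hc).trans hx) with rfl | h1 | h1 | h1
  · exact Or.inl hc.symm
  · exact Or.inl (((H.conj_v hG).trans (conj2 φ h1)).trans hc.symm)
  · exact Or.inr ((conj3 φ h1).trans hc.symm)
  · exact absurd h1 ((mem_Q0 p).2 hp)

theorem card_D : Nat.card (D0.map φ) = 16 := by rw [card_map_of_injective H.inj, card_D0]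

theorem inf_eq : centralizer {φ e} ⊓ centralizer {φ z} = D0.map φ := by
  ext g
  simp only [mem_inf, mem_centralizer_singleton_iff, mem_map]
  constructor
  · rintro ⟨h1, h2⟩
    obtain ⟨p, rfl⟩ := H.ex h2
    exact ⟨p, (mem_D0 p).mpr (H.comm_of h1), rfl⟩
  · rintro ⟨p, hp, rfl⟩
    exact ⟨map_comm φ ((mem_D0 p).mp hp), map_comm φ (comm_z p)⟩

end Hyp12

/-- the fusion pattern found in a simple group -/
structure Fus12 (φ : H192 →* G) : Prop extends Hyp12 φ where
  zv : IsConj (φ z) (φ v)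
  two : ∀ x : G, orderOf x = 2 → IsConj (φ z) x ∨ IsConj (φ e) x

/-- the conjugates of `z` commuting with `e` -/
def I12 (φ : H192 →* G) : Set G := {u | IsConj (φ z) u ∧ u * φ e = φ e * u}

namespace Fus12

variable {φ : H192 →* G} (H : Fus12 φ)
include H

theorem zcl (p : H192) : IsConj (φ z) (φ p) ↔
    cl p = 1 ∨ cl p = 2 ∨ (cl p = 4 ∧ IsConj (φ z) (φ s)) := by
  constructor
  · intro hc
    rcases H.cases ((h9_orderOf_of_isConj hc).trans H.ordz) with rfl | hp | hp | hp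
    · exact Or.inl cl_vals.2.1
    · exact Or.inr (Or.inl hp)
    · exact absurd (hc.trans (conj3 φ hp).symm) H.not_conj_e
    · exact Or.inr (Or.inr ⟨hp, hc.trans (conj4 φ hp).symm⟩)
  · rintro (hp | hp | ⟨hp, hs⟩)
    · rw [(cl_one p).mp hp]
    · exact H.zv.trans (conj2 φ hp)
    · exact hs.trans (conj4 φ hp)

theorem ecl (p : H192) : IsConj (φ e) (φ p) ↔
    cl p = 3 ∨ (cl p = 4 ∧ ¬ IsConj (φ z) (φ s)) := by
  constructor
  · intro hc
    have : ¬ IsConj (φ z) (φ p) := fun h => H.not_conj_e (h.trans hc.symm)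
    rcases H.cases ((h9_orderOf_of_isConj hc).trans H.orde) with rfl | hp | hp | hp
    · exact absurd (IsConj.refl _) this
    · exact absurd ((H.zcl p).mpr (Or.inr (Or.inl hp))) this
    · exact Or.inl hp
    · exact Or.inr ⟨hp, fun hs => this (hs.trans (conj4 φ hp))⟩
  · rintro (hp | ⟨hp, hs⟩)
    · exact conj3 φ hp
    · exact ((H.two _ (H.ord (by rw [cl_vals.2.2.2.2.1]; norm_num))).resolve_left hs).trans
        (conj4 φ hp)

/-- the local picture at a member of `I12` -/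
theorem model {u : G} (hu : u ∈ I12 φ) : ∃ ψ : H192 →* G, Function.Injective ψ ∧ ψ z = u ∧
    ∃ w, ψ w = φ e ∧ (cl w = 3 ∨ cl w = 4) ∧
      {y | y ∈ I12 φ ∧ y * u = u * y} = ψ '' {p | J w p} := by
  obtain ⟨g, hg⟩ := isConj_iff.mp hu.1.symm
  obtain ⟨w, hw⟩ := H.tr hg hu.2.symm
  have hw' := (H.ecl w).mp (isConj_iff.mpr ⟨g, hw.symm⟩)
  have e1 : g⁻¹ * φ w * g = φ e := by rw [hw]; group
  have e2 : g⁻¹ * φ z * g = u := by rw [← hg]; group
  refine ⟨(MulAut.conj g⁻¹).toMonoidHom.comp φ, (MulAut.conj g⁻¹).injective.comp H.inj,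
    by simpa using e2, w, by simpa using e1, by tauto, ?_⟩
  ext y
  constructor
  · rintro ⟨⟨h1, h2⟩, h3⟩
    obtain ⟨p, hp⟩ := H.tr hg h3
    have hc : p * w = w * p := H.comm_of (by
      rw [hp, hw]
      calc _ = g * (y * φ e) * g⁻¹ := by group
        _ = _ := by rw [h2]; group)
    refine ⟨p, ⟨hc, ?_⟩, by simp [hp, mul_assoc]⟩
    rcases (H.zcl p).mp (h1.trans (isConj_iff.mpr ⟨g, hp.symm⟩)) with h | h | ⟨h, hs⟩
    · exact Or.inl h
    · exact Or.inr h
    · rcases hw' with h' | h'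
      · exact absurd hc (not_comm_three_four w h' p h)
      · exact absurd hs h'.2
  · rintro ⟨p, ⟨h1, h2⟩, rfl⟩
    have e3 : (MulAut.conj g⁻¹).toMonoidHom.comp φ p = g⁻¹ * φ p * g := by simp
    rw [e3]
    refine ⟨⟨((H.zcl p).mpr (by tauto)).trans (isConj_iff.mpr ⟨g⁻¹, by simp⟩), ?_⟩, ?_⟩
    · rw [← e1]
      calc _ = g⁻¹ * (φ p * φ w) * g := by group
        _ = _ := by rw [map_comm φ h1]; group
    · rw [← e2]
      calc _ = g⁻¹ * (φ p * φ z) * g := by group
        _ = _ := by rw [map_comm φ (comm_z p)]; group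

theorem ncard_J {u : G} (hu : u ∈ I12 φ) : {y | y ∈ I12 φ ∧ y * u = u * y}.ncard = 3 := by
  obtain ⟨ψ, h1, -, w, -, h2, h3⟩ := H.model hu
  rw [h3, Set.ncard_image_of_injective _ h1, ← PC.Tab.cnt_eq, J_card w h2]

theorem J_comm {u a b : G} (hu : u ∈ I12 φ) (ha : a ∈ I12 φ) (hb : b ∈ I12 φ)
    (hau : a * u = u * a) (hbu : b * u = u * b) : a * b = b * a ∧ (a ≠ b → a * b ∈ I12 φ) := by
  obtain ⟨ψ, h1, -, w, -, h2, h3⟩ := H.model hu
  obtain ⟨p, hp, rfl⟩ : a ∈ ψ '' {p | J w p} := h3 ▸ ⟨ha, hau⟩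
  obtain ⟨q, hq, rfl⟩ : b ∈ ψ '' {p | J w p} := h3 ▸ ⟨hb, hbu⟩
  have := J_mul w h2 p hp q hq
  refine ⟨map_comm ψ this.1, fun hne => ?_⟩
  have h4 : ψ (p * q) ∈ {y | y ∈ I12 φ ∧ y * u = u * y} :=
    h3 ▸ ⟨_, this.2 fun e => hne (e ▸ rfl), rfl⟩
  exact map_mul ψ p q ▸ h4.1

theorem conj_mul {u : G} (hu : u ∈ I12 φ) : IsConj (φ e) (u * φ e) := by
  obtain ⟨ψ, -, rfl, w, h1, h2, -⟩ := H.model hu
  rw [← h1, ← map_mul]
  exact ψ.map_isConj (isConj_iff.mpr (conj_mul_z w h2))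

theorem sq {u : G} (hu : u ∈ I12 φ) : u * u = 1 :=
  (h9_orderOf_eq_two_iff.mp ((h9_orderOf_of_isConj hu.1).trans H.ordz)).2

theorem odd [Finite G] {a b : G} (ha : a ∈ I12 φ) (hb : b ∈ I12 φ) (h : a * b ≠ b * a) :
    Odd (orderOf (a * b)) := by
  rw [← Nat.not_even_iff_odd]
  intro he
  obtain ⟨m, -, h2, h3, h4⟩ := h9_central_invol_of_even (H.sq ha) (H.sq hb) he
  have h5 : (a * b) ^ m * φ e = φ e * (a * b) ^ m :=
    (Commute.pow_left (Commute.mul_left ha.2 hb.2) m).eq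
  have h6 := h9_orderOf_eq_two_iff.mp h2
  have h7 := isConj_mul_of_mem_zpowers (H.sq ha) (H.sq hb) (npow_mem_zpowers _ m) h6.2
  generalize (a * b) ^ m = w at *
  have h8 : a * w ∈ I12 φ := ⟨h7.elim ha.1.trans fun h => hb.1.trans h.1,
    (Commute.mul_left ha.2 h5).eq⟩
  have h9 := (H.J_comm ha ha h8 rfl (by rw [mul_assoc, h3.eq])).2 (by
    intro e
    exact h6.1 (by simpa using e.symm))
  rw [← mul_assoc, H.sq ha, one_mul] at h9
  exact h (H.J_comm h9 ha hb h3.eq.symm h4.eq.symm).1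

theorem conj_of_not_comm [Finite G] {a b : G} (ha : a ∈ I12 φ) (hb : b ∈ I12 φ)
    (h : a * b ≠ b * a) : ∃ c ∈ centralizer {φ e}, c * a * c⁻¹ = b := by
  obtain ⟨k, hk⟩ := h9_conj_of_odd (H.sq ha) (H.sq hb) (H.odd ha hb h)
  exact ⟨_, pow_mem (mul_mem (mem_centralizer_singleton_iff.mpr ha.2)
    (mem_centralizer_singleton_iff.mpr hb.2)) k, hk⟩

theorem ncard_TA_e [Finite G] :
    (h9TA (φ z) (φ e) (φ e)).ncard = (I12 φ).ncard * ((I12 φ).ncard - 2) := by
  have e2 : φ e * φ e = 1 := (h9_orderOf_eq_two_iff.mp H.orde).2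
  rw [← ncard_pairs_eq (I12 φ) (fun u y => y = u ∨ y * u ≠ u * y)]
  · symm
    refine Set.ncard_congr (fun p _ => (p.1, p.2 * φ e)) ?_ ?_ ?_
    · rintro ⟨u, y⟩ ⟨h1, h2, h3⟩
      simp only at h1 h2 h3
      refine ⟨h1.1, H.conj_mul h2, ?_⟩
      have h4 : Odd (orderOf (u * y)) := by
        rcases h3 with rfl | h3
        · rw [H.sq h1, orderOf_one]; exact odd_one
        · exact H.odd h1 h2 (Ne.symm h3)
      refine ⟨(orderOf (u * y) : ℕ), ?_⟩
      obtain ⟨k, hk⟩ := h4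
      simp only [zpow_natCast]
      rw [← mul_assoc, (Commute.mul_left h1.2 h2.2).mul_pow, pow_orderOf_eq_one, one_mul, hk,
        pow_succ, pow_mul, pow_two, e2, one_pow, one_mul]
    · intro p q _ _ e
      simp only [Prod.mk.injEq, mul_left_inj] at e
      exact Prod.ext e.1 e.2
    · rintro ⟨u, y⟩ hp
      obtain ⟨c1, c2⟩ := h9TA_comm H.ordz H.orde H.orde hp
      obtain ⟨h1, h2, h3⟩ := hp
      simp only at c1 c2 h1 h2 h3
      have hu : u ∈ I12 φ := ⟨h1, c1⟩
      have hy := (h9_orderOf_eq_two_iff.mp ((h9_orderOf_of_isConj h2).trans H.orde)).2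
      have h4 : y * φ e ∈ I12 φ := by
        refine ⟨?_, by rw [c2, mul_assoc, c2]⟩
        rcases isConj_mul_of_mem_zpowers (H.sq hu) hy h3 e2 with h | h
        · exact absurd ((h1.trans h).trans (H.conj_mul hu).symm) H.not_conj_e
        · exact h1.trans h.2
      refine ⟨(u, y * φ e), ⟨hu, h4, ?_⟩, by simp [mul_assoc, e2]⟩
      by_contra hn
      push Not at hn
      have h5 := H.conj_mul ((H.J_comm hu hu h4 rfl hn.2).2 hn.1.symm)
      rw [mul_assoc, mul_assoc, e2, mul_one] at h5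
      have h6 := h9_invol_zpowers_unique h3 (mem_zpowers _) H.orde
        ((h9_orderOf_of_isConj h5).trans H.orde)
      refine hn.1 ?_
      calc y * φ e = u * (u * y) * φ e := by rw [← mul_assoc, H.sq hu, one_mul]
        _ = u := by rw [← h6, mul_assoc, e2, mul_one]
  · intro u hu
    have h1 := H.ncard_J hu
    have h2 : I12 φ = {y | y ∈ I12 φ ∧ (y = u ∨ y * u ≠ u * y)} ∪
        ({y | y ∈ I12 φ ∧ y * u = u * y} \ {u}) := by
      ext y
      simp only [Set.mem_union, Set.mem_ofPred_eq, Set.mem_sdiff, Set.mem_singleton_iff]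
      tauto
    have h3 := congrArg Set.ncard h2
    rw [Set.ncard_union_eq (by
      rw [Set.disjoint_left]
      rintro y ⟨-, h | h⟩ ⟨h', h''⟩
      · exact h'' h
      · exact h h'.2), Set.ncard_sdiff_singleton_of_mem (by exact ⟨hu, rfl⟩), h1] at h3
    omega

theorem z_mem : φ z ∈ I12 φ := ⟨IsConj.refl _, map_comm φ (comm_z e).symm⟩

theorem v_mem : φ v ∈ I12 φ := ⟨H.zv, map_comm φ h_facts.2.2.2.2.1⟩

theorem mem_J {u : G} (hu : u ∈ I12 φ) (h : u * φ z = φ z * u) :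
    u = φ z ∨ u = φ v ∨ u = φ f * φ v * (φ f)⁻¹ := by
  obtain ⟨p, rfl⟩ := H.ex h
  have h1 := H.comm_of hu.2
  have h2 : J e p := ⟨h1, by
    rcases (H.zcl p).mp hu.1 with h | h | h
    · exact Or.inl h
    · exact Or.inr h
    · exact absurd h1 (not_comm_three_four e cl_vals.2.2.2.1 p h.1)⟩
  rcases J_e p h2 with rfl | rfl | rfl
  · exact Or.inl rfl
  · exact Or.inr (Or.inl rfl)
  · exact Or.inr (Or.inr (by rw [← h_facts.2.2.2.2.2.1]; simp))

theorem f_mem : φ f ∈ centralizer {φ e} :=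
  mem_centralizer_singleton_iff.mpr (map_comm φ h_facts.2.2.2.1)

omit H in
theorem conj_mem {c u : G} (hc : c ∈ centralizer {φ e}) (hu : u ∈ I12 φ) :
    c * u * c⁻¹ ∈ I12 φ := by
  rw [mem_centralizer_singleton_iff] at hc
  exact ⟨hu.1.trans (isConj_iff.mpr ⟨c, rfl⟩),
    (Commute.mul_left (Commute.mul_left hc hu.2) (Commute.inv_left hc)).eq⟩

theorem nonfused [Finite G] (h : ¬ ∃ c ∈ centralizer {φ e}, c * φ z * c⁻¹ = φ v) :
    Nat.card (centralizer ({φ e} : Set G)) = 16 ∧ (I12 φ).ncard = 3 := by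
  have key : ∀ c ∈ centralizer {φ e}, c * φ z = φ z * c := by
    intro c hc
    have h1 := conj_mem hc H.z_mem
    by_cases h2 : c * φ z * c⁻¹ * φ v = φ v * (c * φ z * c⁻¹)
    · rcases H.mem_J h1 (H.J_comm H.v_mem h1 H.z_mem h2 (map_comm φ (comm_z v).symm)).1
        with h3 | h3 | h3
      · exact mul_inv_eq_iff_eq_mul.mp h3
      · exact absurd ⟨c, hc, h3⟩ h
      · refine absurd ⟨(φ f)⁻¹ * c, mul_mem (inv_mem H.f_mem) hc, ?_⟩ h
        calc _ = (φ f)⁻¹ * (c * φ z * c⁻¹) * φ f := by group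
          _ = _ := by rw [h3]; group
    · obtain ⟨d, hd, h3⟩ := H.conj_of_not_comm h1 H.v_mem h2
      exact absurd ⟨d * c, mul_mem hd hc, by rw [← h3]; group⟩ h
  refine ⟨?_, ?_⟩
  · rw [← H.card_D, ← H.inf_eq, inf_eq_left.mpr fun c hc =>
      mem_centralizer_singleton_iff.mpr (key c hc)]
  · rw [← H.ncard_J H.z_mem]
    congr 1
    ext y
    exact ⟨fun hy => ⟨hy, key y (mem_centralizer_singleton_iff.mpr hy.2)⟩, fun hy => hy.1⟩

theorem fused_conj [Finite G] (h : ∃ c ∈ centralizer {φ e}, c * φ z * c⁻¹ = φ v) {u : G}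
    (hu : u ∈ I12 φ) : ∃ c ∈ centralizer {φ e}, c * φ z * c⁻¹ = u := by
  by_cases h1 : φ z * u = u * φ z
  · rcases H.mem_J hu h1.symm with rfl | rfl | rfl
    · exact ⟨1, one_mem _, by simp⟩
    · exact h
    · obtain ⟨c, hc, h2⟩ := h
      exact ⟨φ f * c, mul_mem H.f_mem hc, by rw [← h2]; group⟩
  · exact H.conj_of_not_comm H.z_mem hu h1

theorem fused [Finite G] (h : ∃ c ∈ centralizer {φ e}, c * φ z * c⁻¹ = φ v) :
    Nat.card (centralizer ({φ e} : Set G)) = (I12 φ).ncard * 16 ∧ ∃ K : Subgroup G,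
      (∀ c ∈ centralizer {φ e}, Odd (orderOf c) → c ∈ K) ∧
      (∀ u ∈ K, orderOf u = 2 → IsConj (φ z) u) ∧ (I12 φ).ncard * 4 = Nat.card K ∧
      ((Nat.card K = 60 ∧ IsSimpleGroup K) ∨ Nat.card K ≤ 12) := by
  have hzC : φ z ∈ centralizer {φ e} := mem_centralizer_singleton_iff.mpr H.z_mem.2
  have hDC : D0.map φ ≤ centralizer {φ e} := H.inf_eq ▸ inf_le_left
  have hDz : ∀ d ∈ D0.map φ, d * φ z = φ z * d := by
    rintro _ ⟨y, -, rfl⟩
    exact map_comm φ (comm_z y)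
  refine ⟨?_, ?_⟩
  · rw [← ncard_conj_mul hzC, H.inf_eq, H.card_D]
    congr 2
    ext y
    exact ⟨by rintro ⟨c, hc, rfl⟩; exact conj_mem hc H.z_mem, H.fused_conj h⟩
  obtain ⟨K, hKC, hN, hK, hdec, hT, hS, hodd⟩ := exists_resid hDC
    ((IsPGroup.of_card (p := 2) (n := 4) card_D0).map φ) (by
      rintro T - - hTC g hg hn
      obtain ⟨p, -, hp⟩ := (mem_normalizer_iff.mp hn (φ z)).mp
        (mem_map_of_mem φ ((mem_D0 z).mpr (comm_z e).symm))
      have hc : IsConj (φ z) (φ p) := isConj_iff.mpr ⟨g, hp.symm⟩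
      rcases center_D0 p (fun y hy => H.comm_of (by
        rw [hp]
        exact comm_conj_of_mem_normalizer hDz hn (mem_map_of_mem φ hy))) with rfl | rfl | h3
      · have := (H.zcl 1).mp hc
        rw [cl_vals.1] at this
        omega
      · exact H.inf_eq ▸ ⟨hTC hg,
          mem_centralizer_singleton_iff.mpr (mul_inv_eq_iff_eq_mul.mp hp.symm)⟩
      · have := (H.zcl p).mp hc
        omega)
  have hconj : ∀ c ∈ centralizer {φ e}, ∀ k ∈ K, c * k * c⁻¹ ∈ K := fun c hc k hk =>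
    (mem_normalizer_iff.mp (hN hc) k).mp hk
  have hK2 : ∀ c ∈ centralizer {φ e}, ∃ k ∈ K, k * φ z * k⁻¹ = c * φ z * c⁻¹ := by
    intro c hc
    obtain ⟨k, hk, d, hd, rfl⟩ := hdec c hc
    refine ⟨k, hk, ?_⟩
    calc _ = k * (φ z * d) * d⁻¹ * k⁻¹ := by group
      _ = _ := by rw [← hDz d hd]; group
  have z2 : φ z * φ z = 1 := H.sq H.z_mem
  have hvz : φ (v * z) ∈ K := by
    obtain ⟨c, hc, h1⟩ := h
    obtain ⟨k, hk, h2⟩ := hK2 c hc
    rw [map_mul, ← h1, ← h2, show k * φ z * k⁻¹ * φ z = k * (φ z * k⁻¹ * (φ z)⁻¹) by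
      rw [inv_eq_of_mul_eq_one_right z2]; group]
    exact mul_mem hk (hconj _ hzC _ (inv_mem hk))
  have hv : φ v ∈ K := by
    have := hconj _ H.f_mem _ hvz
    rw [← map_inv, ← map_mul, ← map_mul] at this
    exact (show f * (v * z) * f⁻¹ = v by decide +kernel) ▸ this
  have hz : φ z ∈ K := by
    have := mul_mem (inv_mem hv) hvz
    rwa [map_mul, inv_mul_cancel_left] at this
  have hU : ∀ u, (u = 1 ∨ u = z ∨ u = v ∨ u = v * z) → φ u ∈ K := by
    rintro u (rfl | rfl | rfl | rfl)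
    · rw [map_one]; exact one_mem _
    · exact hz
    · exact hv
    · exact hvz
  have he : φ e ∉ K := by
    intro he
    obtain ⟨c, hc, h1⟩ := hT (M0.map φ) (relIndex_map_eq_two H.inj M0_le
      (by rw [card_D0, card_M0])) _ he (by rw [← H.orde, pow_orderOf_eq_one])
    rw [mem_centralizer_singleton_iff.mp hc, mul_inv_cancel_right, mem_map_iff_mem H.inj] at h1
    exact h_facts.2.2.2.2.2.2.2.2.2.2.2.2 h1
  have hf : ∀ x, cl x = 3 → cl (x * e) = 3 → φ x ∉ K := by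
    intro x x1 x2 hx
    obtain ⟨c, hc, p, hp, h1⟩ := hT (W0.map φ) (relIndex_map_eq_two H.inj W0_le
      (by rw [card_D0, card_W0])) _ hx (by rw [← H.ord (p := x) (by omega), pow_orderOf_eq_one])
    have h2 : φ (p * e) = c * φ (x * e) * c⁻¹ := by
      rw [map_mul, map_mul, h1]
      calc _ = c * φ x * (c⁻¹ * φ e * c) * c⁻¹ := by group
        _ = _ := by rw [mul_assoc c⁻¹, ← mem_centralizer_singleton_iff.mp hc]; group
    have h3 := (H.ecl p).mp ((conj3 φ x1).trans (isConj_iff.mpr ⟨c, h1.symm⟩))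
    have h4 := (H.ecl _).mp ((conj3 φ x2).trans (isConj_iff.mpr ⟨c, h2.symm⟩))
    rcases inv_W0 p hp with rfl | rfl | h5
    · rw [cl_vals.1] at h3; omega
    · rw [h_facts.2.2.2.2.2.2.2.1, cl_vals.1] at h4; omega
    · omega
  have hKD : ∀ p ∈ D0, φ p ∈ K → p = 1 ∨ p = z ∨ p = v ∨ p = v * z := by
    intro p hp hpK
    obtain ⟨u, hu, h1⟩ := D0_cosets p hp
    have h2 : φ (p * u) ∈ K := by rw [map_mul]; exact mul_mem hpK (hU u hu)
    rcases h1 with rfl | h1 | h1 | h1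
    · exact hu
    · exact absurd (h1 ▸ h2) he
    · exact absurd (h1 ▸ h2) (hf f cl_vals.2.2.2.2.2.1 cl_vals.2.2.2.2.2.2.1)
    · exact absurd (h1 ▸ h2) (hf _ cl_vals.2.2.2.2.2.2.1 (by
        rw [mul_assoc, h_facts.2.2.2.2.2.2.2.1, mul_one]; exact cl_vals.2.2.2.2.2.1))
  have hKz : ∀ c ∈ K, c * φ z = φ z * c → ∃ p, (p = 1 ∨ p = z ∨ p = v ∨ p = v * z) ∧ φ p = c := by
    intro c hc h1
    obtain ⟨p, hp, rfl⟩ : c ∈ D0.map φ :=
      H.inf_eq ▸ ⟨hKC hc, mem_centralizer_singleton_iff.mpr h1⟩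
    exact ⟨p, hKD p hp hc, rfl⟩
  have h4 : Nat.card (K ⊓ centralizer {φ z} : Subgroup G) = 4 := by
    rw [← card_U, PC.Tab.cnt_eq, ← Set.ncard_image_of_injective _ H.inj]
    change Set.ncard _ = _
    congr 1
    ext c
    exact ⟨fun hc => hKz c hc.1 (mem_centralizer_singleton_iff.mp hc.2), by
      rintro ⟨p, hp, rfl⟩
      exact ⟨hU p hp, mem_centralizer_singleton_iff.mpr (map_comm φ (comm_z p))⟩⟩
  have h5 := ncard_conj_mul hz
  have h6 : {y | ∃ l ∈ K, l * φ z * l⁻¹ = y} = I12 φ := by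
    ext y
    refine ⟨by rintro ⟨c, hc, rfl⟩; exact conj_mem (hKC hc) H.z_mem, fun hy => ?_⟩
    obtain ⟨c, hc, rfl⟩ := H.fused_conj h hy
    exact hK2 c hc
  rw [h4, h6] at h5
  have h8 : ∀ u ∈ K, orderOf u = 2 → IsConj (φ z) u := by
    intro u hu h1
    obtain ⟨c, hc, p, hp, h2⟩ := hS u (hKC hu) (by rw [← h1, pow_orderOf_eq_one])
    have h3 : IsConj u (φ p) := isConj_iff.mpr ⟨c, h2.symm⟩
    refine IsConj.trans ?_ h3.symm
    rcases hKD p hp (h2 ▸ hconj c hc u hu) with rfl | rfl | rfl | rfl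
    · have := h9_orderOf_of_isConj h3
      rw [map_one, orderOf_one] at this
      omega
    · rfl
    · exact H.zv
    · exact (H.zcl _).mpr (Or.inr (Or.inl cl_vals.2.2.2.2.2.2.2))
  refine ⟨K, hodd, h8, h5, card_of_klein' hK hz H.ordz (fun c hc h1 => ?_) fun u hu h1 => ?_⟩
  · obtain ⟨p, hp, rfl⟩ := hKz c hc h1
    rw [← map_pow, show p ^ 2 = 1 by rcases hp with rfl | rfl | rfl | rfl <;> decide +kernel,
      map_one]
  · obtain ⟨d, hd, rfl⟩ := H.fused_conj h
      ⟨h8 u hu h1, mem_centralizer_singleton_iff.mp (hKC hu)⟩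
    rw [card_inf_centralizer_conj (hN hd), h4]

theorem card_cases [Finite G] : ((I12 φ).ncard = 15 ∧ Nat.card G = 95040) ∨
    ((¬ ∃ c ∈ centralizer {φ e}, c * φ z * c⁻¹ = φ v) ∧ Nat.card G = 1344) := by
  have h1 := h9_thompson_order H.ordz H.orde H.not_conj_e H.two
  rw [H.ncard_TA_e, H.card_cent] at h1
  have h2 := (centralizer ({φ z} : Set G)).index_mul_card
  rw [H.card_cent] at h2
  by_cases hs : IsConj (φ z) (φ s)
  · have hz : ∀ p, IsConj (φ z) (φ p) ↔ cl p = 1 ∨ cl p = 2 ∨ cl p = 4 := fun p => by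
      rw [H.zcl]; tauto
    rw [ncard_TA_eq H.inj H.ordz H.cent H.ordz H.orde hz (R := fun p => cl p = 3)
      (fun p => by rw [H.ecl]; tauto) mem_zpowers_iff, count_C] at h1
    have h3 := ncard_TA_mul_le (φ z) (φ z) H.ordz
    rw [ncard_TA_eq H.inj H.ordz H.cent H.ordz H.ordz hz hz mem_zpowers_iff, count_B] at h3
    have h4 := Nat.le_of_mul_le_mul_left h3 (Nat.pos_of_ne_zero index_ne_zero_of_finite)
    by_cases h : ∃ c ∈ centralizer {φ e}, c * φ z * c⁻¹ = φ v
    · obtain ⟨h5, K, -, -, h6, ⟨h7, -⟩ | h7⟩ := H.fused h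
      · have h8 : (I12 φ).ncard = 15 := by omega
        exact Or.inl ⟨h8, by rw [h1, h5, h8]⟩
      · rw [h5] at h1
        generalize (I12 φ).ncard = n at *
        have : n ≤ 3 := by omega
        interval_cases n <;> omega
    · obtain ⟨h5, h6⟩ := H.nonfused h
      rw [h5, h6] at h1
      omega
  · rw [ncard_TA_eq H.inj H.ordz H.cent H.ordz H.orde (P := fun p => cl p = 1 ∨ cl p = 2)
      (fun p => by rw [H.zcl]; tauto) (R := fun p => cl p = 3 ∨ cl p = 4)
      (fun p => by rw [H.ecl]; tauto) mem_zpowers_iff, count_D] at h1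
    by_cases h : ∃ c ∈ centralizer {φ e}, c * φ z * c⁻¹ = φ v
    · obtain ⟨g, hg⟩ := isConj_iff.mp ((H.ecl s).mpr (Or.inr ⟨cl_vals.2.2.2.2.1, hs⟩)).symm
      obtain ⟨c, hc, h3⟩ := H.fused_conj h (u := g * φ z * g⁻¹) ⟨isConj_iff.mpr ⟨g, rfl⟩, by
        rw [← hg]
        calc _ = g * (φ z * φ s) * g⁻¹ := by group
          _ = _ := by rw [← map_comm φ (comm_z s)]; group⟩
      obtain ⟨p, hp⟩ := H.ex (g := c⁻¹ * g) (by
        calc _ = c⁻¹ * (g * φ z * g⁻¹) * g := by group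
          _ = _ := by rw [← h3]; group)
      refine (not_conj_s_e p (H.inj ?_)).elim
      rw [map_mul, map_mul, map_inv, hp]
      calc _ = c⁻¹ * (g * φ s * g⁻¹) * c := by group
        _ = _ := by rw [hg, mul_assoc, ← mem_centralizer_singleton_iff.mp hc]; group
    · obtain ⟨h5, h6⟩ := H.nonfused h
      exact Or.inr ⟨h, by rw [h1, h5, h6]⟩

theorem card_eq [Finite G] [IsSimpleGroup G] : Nat.card G = 95040 := by
  refine H.card_cases.elim And.right fun ⟨_, h1⟩ => ?_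
  have h2 := (centralizer ({φ z} : Set G)).index_mul_card
  rw [H.card_cent] at h2
  have h7 : (centralizer ({φ z} : Set G)).index = 7 := by omega
  have h8 := sm_card_dvd_factorial (H := centralizer ({φ z} : Set G)) (by
    intro e
    rw [e, index_top] at h7
    omega)
  rw [h7, h1] at h8
  exact absurd h8 (by decide)

/-- elements of odd order of a subgroup avoiding the class of `z` cannot fuse `I12` -/
theorem not_trans [Finite G] {Y : Subgroup G} (hY : Y ≤ centralizer {φ e})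
    (hD : ∀ y ∈ Y, ¬ IsConj (φ z) y)
    (ht : ∀ x ∈ I12 φ, ∃ c ∈ Y, Odd (orderOf c) ∧ c * x * c⁻¹ = φ z) : False := by
  have h : ∃ c ∈ centralizer {φ e}, c * φ z * c⁻¹ = φ v := by
    obtain ⟨c, hc, -, h⟩ := ht _ H.v_mem
    exact ⟨c⁻¹, inv_mem (hY hc), by rw [← h]; group⟩
  obtain ⟨-, K, h1, h2, h3, h4⟩ := H.fused h
  rw [(H.card_cases.resolve_right fun h' => h'.1 h).1] at h3
  obtain ⟨h4, _⟩ := h4.resolve_right (by omega)
  have h5 : ¬ 2 ∣ Nat.card (Y.subgroupOf K) := fun hd => by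
    obtain ⟨y, hy⟩ := exists_prime_orderOf_dvd_card' 2 hd
    exact hD _ y.2 (h2 _ y.1.2 ((Subgroup.orderOf_coe _).trans ((Subgroup.orderOf_coe _).trans hy)))
  choose! c hc ho hz using ht
  have h6 : (I12 φ).ncard ≤ Nat.card (Y.subgroupOf K) := by
    rw [← card_map_of_injective K.subtype_injective, subgroupOf_map_subtype]
    exact Set.ncard_le_ncard_of_injOn c (fun x hx => ⟨hc x hx, h1 _ (hY (hc x hx)) (ho x hx)⟩)
      fun x hx y hy e => by simpa [← hz y hy, e] using hz x hx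
  rw [(H.card_cases.resolve_right fun h' => h'.1 h).1] at h6
  have h7 := (Y.subgroupOf K).index_mul_card
  have h8 := sm_card_dvd_factorial (H := Y.subgroupOf K) fun e => h5 (by
    rw [e, card_top, h4]; norm_num)
  rw [h4] at h7 h8
  generalize (Y.subgroupOf K).index = n at h7 h8
  have : n ≤ 4 := by nlinarith
  revert h8
  interval_cases n <;> decide

end Fus12

theorem Hyp12.card_eq {φ : H192 →* G} (H : Hyp12 φ) [Finite G] [IsSimpleGroup G]
    (hG : ¬ IsMulCommutative G) : Nat.card G = 95040 :=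
  Fus12.card_eq ⟨H, H.conj_v hG, H.two_classes hG⟩

end Cfsg.Lib.IC
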