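import Cfsg.Agent.Lib.InvChar.M12Core

/-!
Simple groups with Sylow `2`-subgroups of type `M12` and two classes of involutions.
-/

set_option autoImplicit false

namespace Cfsg.Lib.IC

open Subgroup Cfsg.Lib.FT S64

variable {G : Type*} [Group G] [Finite G] [IsSimpleGroup G]

/-- fusion of the central involution in a normal four group -/
theorem exists_uz (hG : ¬ IsMulCommutative G) {P U : Subgroup G} (hP : IsSylowIn 2 P ⊤) {z u : G}
    (hz : orderOf z = 2) (hc : P ≤ C1[z]) (hU : ∀ x, x ∈ U ↔ x = 1 ∨ x = z ∨ x = u ∨ x = u * z)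
    (hUP : U ≤ P) (huz : u ≠ z) (h2 : ∀ y ∈ P, y * y * (y * y) = 1 → y * y ∈ U)
    (h3 : ∀ y ∈ P, y * y = 1 → y ∈ U ∨ (∃ r ∈ P, r * y = y * r ∧ r * r = z) ∨
      (u * y = y * u ∧ ∀ c ∈ P, c * y = y * c → c ∈ U ∨ IsConj y c))
    (h4 : IsConj u (u * z)) (h5 : ∃ r ∈ P, r * u = u * r ∧ r * r = z) :
    ∃ g, g * u * g⁻¹ = z ∧ (g * z * g⁻¹ = u ∨ g * z * g⁻¹ = u * z) ∧
      ∀ c ∈ P, c * u = u * c → g * c * g⁻¹ ∈ P := by
  obtain ⟨z1, z2⟩ := h9_orderOf_eq_two_iff.mp hz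
  have hS : IsSylowIn 2 (P ⊓ C1[z]) C1[z] := (inf_eq_left.mpr hc).symm ▸ hP.mono hc le_top
  have into : ∀ y, IsConj z y → ∃ g, g * y * g⁻¹ = z ∧
      ∀ c ∈ P, c * y = y * c → g * c * g⁻¹ ∈ P := fun y hy =>
    (exists_conj_into hS hy.symm (hP.isPGroup.to_le (inf_le_left (b := C1[y]))) inf_le_right).imp
      fun g hg => ⟨hg.1, fun c h1 h2 => hg.2 c ⟨h1, mem_C1.mpr h2⟩⟩
  have root : ∀ g r, r * r = z → g * r * g⁻¹ ∈ P → g * z * g⁻¹ ∈ U := fun g r h1 h => by
    have := h2 _ h (by rw [conj_mul, conj_mul, h1, z2]; group)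
    rwa [conj_mul, h1] at this
  have cU : ∀ g y, g * y * g⁻¹ = z → y ≠ z → g * z * g⁻¹ ∈ U →
      g * z * g⁻¹ = u ∨ g * z * g⁻¹ = u * z := fun g y hg hy h =>
    (((hU _).mp h).resolve_left fun e => z1 (conj_eq_one_iff.mp e)).resolve_left fun e =>
      hy (mul_left_cancel (mul_right_cancel (hg.trans e.symm)))
  have hzu : IsConj z u := by
    by_contra hn
    have nU : ∀ g y, g * y * g⁻¹ = z → y ≠ z → g * z * g⁻¹ ∉ U := fun g y hg hy h =>
      (cU g y hg hy h).elim (fun e => hn (isConj_iff.mpr ⟨g, e⟩))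
        fun e => hn ((isConj_iff.mpr ⟨g, e⟩).trans h4.symm)
    have A : ∀ y ∈ P, IsConj z y → y ≠ z →
        u * y = y * u ∧ ∀ c ∈ P, c * y = y * c → c ∈ U ∨ IsConj y c := fun y hy h1 h6 => by
      rcases h3 y hy (h9_orderOf_eq_two_iff.mp ((h9_orderOf_of_isConj h1).trans hz)).2 with
        h | ⟨r, hr, h7, h8⟩ | h
      · obtain ⟨g, rfl⟩ := isConj_iff.mp h1
        exact absurd h (nU g (g⁻¹ * z * g) (by group) fun e => h6 (by
          conv_lhs => rw [← e]
          group))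
      · obtain ⟨g, hg, h⟩ := into y h1
        exact absurd (root g r h8 (h r hr h7)) (nU g y hg h6)
      · exact h
    obtain ⟨y, h6, h7, h8⟩ := exists_commute_conj hG hz
    obtain ⟨k, hk, h9⟩ := hS.exists_conj_le (U := zpowers y) (isPGroup_of_card_eq_prime (by
      rw [Nat.card_zpowers, h9_orderOf_of_isConj h6, hz])) (zpowers_le.mpr (mem_C1.mpr h7))
    have hy := (h9 (conj_mem_conj (mem_zpowers y) k)).1
    have h6' := h6.trans (isConj_iff.mpr ⟨k, rfl⟩ : IsConj y _)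
    have h8' : k * y * k⁻¹ ≠ z := fun e => h8 (mul_left_cancel (mul_right_cancel
      (e.trans (mul_inv_eq_iff_eq_mul.mpr (mem_C1.mp hk)).symm)))
    generalize k * y * k⁻¹ = y at hy h6' h8'
    obtain ⟨g, hg, h⟩ := into y h6'
    have zP := hUP ((hU z).mpr (by simp))
    have uP := hUP ((hU u).mpr (by simp))
    have zy := (mem_C1.mp (hc hy)).symm
    have hA := (A _ (h z zP zy) (isConj_iff.mpr ⟨g, rfl⟩) fun e =>
      h8' (mul_left_cancel (mul_right_cancel (hg.trans e.symm)))).2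
    have key : ∀ c ∈ P, c * y = y * c → IsConj u c → g * c * g⁻¹ ∈ U := fun c h1 h2 h3 =>
      (hA _ (h c h1 h2) (by rw [conj_mul, conj_mul, mem_C1.mp (hc h1)])).resolve_right fun e =>
        hn (((isConj_iff.mpr ⟨g, rfl⟩).trans e).trans
          (h3.trans (isConj_iff.mpr ⟨g, rfl⟩)).symm)
    have := mul_mem (inv_mem (key u uP (A y hy h6' h8').1 (IsConj.refl _))) (key (u * z)
      (mul_mem uP zP) (Commute.mul_left (A y hy h6' h8').1 zy).eq h4)
    exact nU g y hg h8' (by rwa [← conj_mul, inv_mul_cancel_left] at this)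
  obtain ⟨g, hg, h⟩ := into u hzu
  obtain ⟨r, hr, h6, h7⟩ := h5
  exact ⟨g, hg, cU g u hg huz (root g r h7 (h r hr h6)), h⟩

theorem Syl64.card_eq {φ : S64 →* G} (H : Syl64 φ)
    (h2 : ∃ x y : G, orderOf x = 2 ∧ orderOf y = 2 ∧ ¬ IsConj x y) : Nat.card G = 95040 := by
  have hG : ¬ IsMulCommutative G := fun h => gens.2.2.2.2.1 (H.inj (by
    rw [map_mul, map_mul, h.1.1]))
  have ord : ∀ {p : S64}, p * p = 1 → p ≠ 1 → orderOf (φ p) = 2 := fun h1 h2 => by
    rw [orderOf_injective φ H.inj, h9_orderOf_eq_two_iff]; exact ⟨h2, h1⟩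
  have sq : ∀ {p : S64}, orderOf (φ p) = 2 → p ≠ 1 ∧ p * p = 1 := fun h => by
    rwa [orderOf_injective φ H.inj, h9_orderOf_eq_two_iff] at h
  have cm : ∀ {p q : S64}, φ p * φ q = φ q * φ p ↔ p * q = q * p := fun {p q} => by
    rw [← map_mul, ← map_mul, H.inj.eq_iff]
  have hc : φ.range ≤ C1[φ z] := by rintro _ ⟨p, rfl⟩; exact (cz φ p).2
  have uz := φ.map_isConj (isConj_iff.mpr conj_u)
  obtain ⟨g, hg, hg', -⟩ := exists_uz hG H.syl (U := U.map φ) (u := φ u) (ord basic.1 basic.2.1) hc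
    (fun x => by simp [mem_U, eq_comm]) (map_le_range φ U) (H.inj.ne basic.2.2.2.2.1) (by
      rintro _ ⟨y, rfl⟩ h
      rw [← map_mul] at h ⊢
      exact mem_map_of_mem φ (sq_mem_U y (H.inj (by rwa [map_mul, map_one])))) (by
      rintro _ ⟨y, rfl⟩ h
      refine (inv_type y (H.inj (by rwa [map_mul, map_one]))).imp (mem_map_of_mem φ) (Or.imp
        (fun ⟨r, h1, h2⟩ => ⟨φ r, ⟨r, rfl⟩, cm.mpr h1, by rw [← map_mul, h2]⟩)
        fun h => ⟨cm.mpr h.1, ?_⟩)
      rintro _ ⟨c, rfl⟩ h1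
      exact (h.2 c (cm.mp h1)).imp (mem_map_of_mem φ) fun h => φ.map_isConj (isConj_iff.mpr h))
    (map_mul φ u z ▸ uz) ⟨φ i1, ⟨_, rfl⟩, cm.mpr root_u.1, by rw [← map_mul, root_u.2]⟩
  rw [← map_mul] at hg'
  have zU : ∀ p ∈ U, p ≠ 1 → IsConj (φ z) (φ p) := fun p hp h1 => by
    have := (isConj_iff.mpr ⟨g, hg⟩).symm
    rcases (mem_U p).mp hp with rfl | rfl | rfl | rfl
    exacts [absurd rfl h1, IsConj.refl _, this, this.trans uz]
  obtain ⟨S, hS⟩ := H.syl.exists_sylow_top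
  have tr : ∀ (M : Subgroup S64) (c : S64), Nat.card M = 32 →
      (∀ x ∈ M, x * x = 1 → x ∈ U ∨ ∃ g, g * c * g⁻¹ = x) → ∀ x, orderOf x = 2 →
      IsConj (φ z) x ∨ IsConj (φ c) x := fun M c hM h x hx => by
    obtain ⟨g, p, hp, hg⟩ := thompson_transfer' (sm_index_ne_two hG) S (M := M.map φ) (by
      rw [hS, MonoidHom.range_eq_map]
      exact relIndex_map_eq_two H.inj le_top (by rw [card_top, card, hM])) (t := x)
      (by rw [← hx, pow_orderOf_eq_one])
    have hc : IsConj x (φ p) := isConj_iff.mpr ⟨g, hg.symm⟩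
    obtain ⟨p1, p2⟩ := sq ((h9_orderOf_of_isConj hc).trans hx)
    exact (h p hp p2).imp (fun h => (zU p h p1).trans hc.symm)
      fun h => (φ.map_isConj (isConj_iff.mpr h)).trans hc.symm
  have ta := tr Ma a card_Ma fun x hx h => (inv_Ma x hx h).imp_right (cs_five x)
  have tb := tr Mb b card_Mb fun x hx h => (inv_Mb x hx h).imp_right (cs_six x)
  have nc : ∀ {c}, (∀ x, orderOf x = 2 → IsConj (φ z) x ∨ IsConj c x) → ¬ IsConj (φ z) c :=
    fun h hc => by
      obtain ⟨x, y, hx, hy, hxy⟩ := h2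
      exact hxy (((h x hx).elim id hc.trans).symm.trans ((h y hy).elim id hc.trans))
  have oa := ord basic.2.2.2.2.2.1 basic.2.2.2.2.2.2.1
  have ob := ord basic.2.2.2.2.2.2.2.1 basic.2.2.2.2.2.2.2.2.1
  have cnt : ∀ p, Nat.card ↥(φ.range ⊓ C1[φ p]) = tab64.cnt fun c => c * p = p * c := fun p => by
    rw [PC.Tab.cnt_eq, ← Set.ncard_image_of_injective _ H.inj]
    change Set.ncard _ = _
    congr 1
    ext x
    exact ⟨fun ⟨⟨c, e⟩, h⟩ => ⟨c, cm.mp (e ▸ mem_C1.mp h), e⟩,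
      fun ⟨c, h, e⟩ => ⟨⟨c, e⟩, e ▸ mem_C1.mpr (cm.mpr h)⟩⟩
  obtain ⟨r, r1, r2⟩ := root_a
  obtain ⟨k, k1, k2⟩ := exists_conj_into (isSylowIn_inf_C1 H.syl (x := φ b) ⟨_, rfl⟩ (by
      rintro _ ⟨y, rfl⟩ hy
      obtain ⟨y1, y2⟩ := sq ((h9_orderOf_of_isConj hy).trans ob)
      rw [cnt, cnt, cnt_b]
      exact cnt_comm y y2 fun h => nc tb ((zU y h y1).trans hy.symm)))
    ((tb _ oa).resolve_left (nc ta)).symm (H.syl.isPGroup.to_le (inf_le_left (b := C1[φ a])))
    inf_le_right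
  obtain ⟨r', hr⟩ := k2 (φ r) ⟨⟨r, rfl⟩, mem_C1.mpr (cm.mpr r1)⟩
  have kz : k * φ z * k⁻¹ = φ z := by
    have e : φ (r' * r') = k * φ z * k⁻¹ := by rw [map_mul, hr, conj_mul, ← map_mul, r2]
    rcases sq_comm_b r' (cm.mp (by rw [hr, ← k1, conj_mul, conj_mul, cm.mpr r1])) with h | h
    · rw [h, map_one, eq_comm, conj_eq_one_iff, ← map_one φ] at e
      exact absurd (H.inj e) basic.2.1
    · rw [← e, h]
  obtain ⟨X, _, _, f, hf, ho, hO⟩ : ∃ (X : Type _) (_ : Group X) (_ : Finite X)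
      (f : C1[φ z] →* X), Function.Surjective f ∧ ¬ 2 ∣ Nat.card f.ker ∧ pPrimeCore 2 X = ⊥ :=
    ⟨_, _, inferInstance, QuotientGroup.mk' (pPrimeCore 2 _), QuotientGroup.mk'_surjective _,
      by rw [QuotientGroup.ker_mk']; exact not_dvd_card_pPrimeCore, pPrimeCore_quotient_pPrimeCore⟩
  have L : Loc (f.comp (cz φ)) := {
    inj := (injective_iff_map_eq_one _).mpr fun p hp => by
      have h1 := odd_of_mem_ker ho hp
      have h2 := orderOf_dvd_natCard p
      rw [← Subgroup.orderOf_coe, show (cz φ p : G) = φ p from rfl,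
        orderOf_injective φ H.inj] at h1
      rw [card] at h2
      exact orderOf_eq_one_iff.mp (Nat.eq_one_of_dvd_coprimes
        ((Nat.coprime_two_left.mpr h1).pow_left 6) h2 dvd_rfl)
    syl := by
      have h1 : IsSylowIn 2 (cz φ).range ⊤ := by
        rw [← subgroupOf_self, show (cz φ).range = φ.range.subgroupOf _ from by
          ext x; exact exists_congr fun p => Subtype.ext_iff, isSylowIn_subgroupOf_iff hc le_rfl]
        exact H.syl.mono hc le_top
      have := h1.map f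
      rwa [map_top_of_surjective f hf, ← MonoidHom.range_comp] at this
    core := hO
    cen := fun x => by
      obtain ⟨x, rfl⟩ := hf x
      rw [MonoidHom.comp_apply, ← map_mul, ← map_mul]
      exact congrArg f (Subtype.ext (mem_C1.mp x.2))
    ab := f.map_isConj (isConj_iff.mpr ⟨⟨k, mem_C1.mpr (mul_inv_eq_iff_eq_mul.mp kz)⟩,
      Subtype.ext k1⟩)
    ua := fun h => nc ta ((isConj_iff.mpr ⟨g, hg⟩).symm.trans ((C1[φ z]).subtype.map_isConj
      (isConj_of_map hf ho (by rw [← map_mul, basic.2.2.1, map_one])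
      (by rw [← map_mul, basic.2.2.2.2.2.1, map_one]) h))) }
  obtain ⟨ψ, hψ, h⟩ := L.exists_equiv
  let e := MulEquiv.ofBijective ψ hψ
  have hk : (e.symm.toMonoidHom.comp f).ker = f.ker := by ext x; simp
  rcases h with h | h
  · exact Rel12.card_eq (π := e.symm.toMonoidHom.comp f) ⟨e.symm.surjective.comp hf, hk ▸ ho,
      fun p => e.symm_apply_eq.mpr (h p).symm, ⟨g, hg, hg'⟩, nc ta⟩ hG
  · have e1 : φ.comp σ z = φ z := congrArg φ σ_facts.1
    have e2 : φ.comp σ u = φ u := congrArg φ σ_facts.2.1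
    let j := (MulEquiv.subgroupCongr (congrArg (fun x => C1[x]) e1)).toMonoidHom
    refine Rel12.card_eq (φ := φ.comp σ) (π := (e.symm.toMonoidHom.comp f).comp j)
      ⟨(e.symm.surjective.comp hf).comp (MulEquiv.surjective _), ?_,
      fun p => e.symm_apply_eq.mpr (h p).symm, ⟨g, ?_⟩, ?_⟩ hG
    · rwa [← MonoidHom.comap_ker, hk, comap_equiv_eq_map_symm',
        card_map_of_injective (MulEquiv.injective _)]
    · rw [map_mul, e1, e2, ← map_mul]
      exact ⟨hg, hg'⟩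
    · rw [e1, MonoidHom.comp_apply, σ_facts.2.2.1]
      exact nc ta

end Cfsg.Lib.IC
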