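import Cfsg.Agent.Lib.InvChar.P64Tab
import Cfsg.Agent.Lib.InvChar.M12Syl

/-!
Simple groups whose Sylow `2`-subgroups have order 64 and contain a self-centralising rational
element of order eight.
-/

set_option autoImplicit false

namespace Cfsg.Lib.IC

open Subgroup Cfsg.Lib.FT Cfsg.Lib.PC

section rel

variable {H : Type*} [Group H]

theorem card_closure_insert_le [Finite H] {S : Set H} {t : H}
    (h1 : ∀ s ∈ S, t * s * t⁻¹ ∈ closure S) (h2 : t * t ∈ closure S) :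
    Nat.card (closure (insert t S)) ≤ 2 * Nat.card (closure S) := by
  have hn : t ∈ N[closure S] := mem_normalizer_fintype fun x hx =>
    (closure_le ((closure S).comap (MulAut.conj t).toMonoidHom)).mpr h1 hx
  have key : (closure (insert t S) : Set H) ⊆ closure S ∪ (· * t) '' closure S := by
    intro x hx
    induction hx using closure_induction_left with
    | one => exact Or.inl (one_mem _)
    | mul_left s hs x _ ih =>
      rcases hs with rfl | hs <;> rcases ih with h | ⟨y, h, rfl⟩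
      · exact Or.inr ⟨_, (mem_normalizer_iff.mp hn x).mp h, by group⟩
      · exact Or.inl (mem_of_mem_of_eq (mul_mem ((mem_normalizer_iff.mp hn y).mp h) h2) (by group))
      · exact Or.inl (mul_mem (subset_closure hs) h)
      · exact Or.inr ⟨_, mul_mem (subset_closure hs) h, mul_assoc _ _ _⟩
    | inv_mul_cancel s hs x _ ih =>
      have h3 : ∀ y ∈ closure S, t⁻¹ * y * t ∈ closure S := fun y hy => by
        simpa using (mem_normalizer_iff.mp (inv_mem hn) y).mp hy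
      rcases hs with rfl | hs <;> rcases ih with h | ⟨y, h, rfl⟩
      · exact Or.inr ⟨_, mul_mem (h3 x h) (inv_mem h2), by group⟩
      · exact Or.inl (by simpa [mul_assoc] using h3 y h)
      · exact Or.inl (mul_mem (inv_mem (subset_closure hs)) h)
      · exact Or.inr ⟨_, mul_mem (inv_mem (subset_closure hs)) h, mul_assoc _ _ _⟩
  refine (Set.ncard_le_ncard key).trans ((Set.ncard_union_le _ _).trans ?_)
  rw [Set.ncard_image_of_injective _ (mul_left_injective t), two_mul]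
  rfl

theorem Rel8.card_le [Finite H] {n : ℕ} {f g a t : H} (h : Rel8 n f g a t) :
    Nat.card (closure ({t, a, g, f} : Set H)) ≤ 64 := by
  obtain ⟨h1, h2, h3, h4, h5, h6, h7, h8, h9, h10⟩ := h
  have e1 : Nat.card (closure ({f} : Set H)) ≤ 8 := by
    rw [← zpowers_eq_closure, Nat.card_zpowers]
    exact orderOf_le_of_pow_eq_one (by norm_num) h1
  have m : ∀ {S : Set H} {x : H}, x ∈ S → x ∈ closure S := fun h => subset_closure h
  have e2 := card_closure_insert_le (S := {f}) (t := g) (by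
    simp only [Set.mem_singleton_iff, forall_eq, h3]; exact pow_mem (m (by simp)) 5)
    (by rw [h2]; exact mul_mem (m (by simp)) (m (by simp)))
  have e3 := card_closure_insert_le (S := {g, f}) (t := a) (by
    simp only [Set.mem_insert_iff, Set.mem_singleton_iff, forall_eq_or_imp, forall_eq, h4, h5]
    exact ⟨inv_mem (m (by simp)), inv_mem (m (by simp))⟩) (by rw [h6]; exact pow_mem (m (by simp)) _)
  have e4 := card_closure_insert_le (S := {a, g, f}) (t := t) (by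
    simp only [Set.mem_insert_iff, Set.mem_singleton_iff, forall_eq_or_imp, forall_eq, h7, h8, h10]
    exact ⟨mul_mem (pow_mem (m (by simp)) _) (m (by simp)), m (by simp), m (by simp)⟩)
    (by rw [h9]; exact pow_mem (m (by simp)) _)
  omega

theorem equiv_of_card_le [Finite H] {L : Type*} [Group L] (p : H →* L) {A : Subgroup H}
    (h : Nat.card A ≤ Nat.card L) (hp : ∀ x, x ∈ A.map p) : Nonempty (A ≃* L) :=
  have hs : Function.Surjective (p.comp A.subtype) := fun x =>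
    (hp x).elim fun y hy => ⟨⟨y, hy.1⟩, hy.2⟩
  ⟨MulEquiv.ofBijective _ ((Nat.bijective_iff_surjective_and_card _).mpr
    ⟨hs, le_antisymm h (Nat.card_le_card_of_surjective _ hs)⟩)⟩

theorem Rel8.equiv [Finite H] {K : Type*} [Group K] [Finite K] {n : ℕ} {f g a t : H}
    {f' g' a' t' : K} (h : Rel8 n f g a t) (h' : Rel8 n f' g' a' t') (hH : Nat.card H = 64)
    (hK : Nat.card K = 64) (e : closure {t, a, g, f} = ⊤) (e' : ∀ x, ∃ c, wd8 f' g' a' t' c = x) :
    Nonempty (H ≃* K) := by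
  have h1 := Rel8.card_le (n := n) (f := (f, f')) (g := (g, g')) (a := (a, a')) (t := (t, t')) (by
    simp only [Rel8, Prod.ext_iff] at h h' ⊢
    simp_all)
  obtain ⟨e1⟩ := equiv_of_card_le (MonoidHom.fst H K) (hH ▸ h1) fun x => by
    rw [MonoidHom.map_closure]
    simp only [Set.image_insert_eq, Set.image_singleton, MonoidHom.coe_fst, e, mem_top]
  obtain ⟨e2⟩ := equiv_of_card_le (MonoidHom.snd H K) (hK ▸ h1) fun x => by
    obtain ⟨c, rfl⟩ := e' x
    refine ⟨wd8 (f, f') (g, g') (a, a') (t, t') c, ?_, rfl⟩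
    refine mul_mem (mul_mem (mul_mem ?_ ?_) ?_) ?_ <;> exact pow_mem (subset_closure (by simp)) _
  exact ⟨e1.symm.trans e2⟩

theorem exists_rel8 [Finite H] (hH : Nat.card H = 64) {f : H} (hf : orderOf f = 8)
    (hs : ∀ x, x * f = f * x → x ∈ zpowers f)
    (ho : ∀ k ∈ ({3, 5, 7} : Set ℕ), ∃ x, x * f * x⁻¹ = f ^ k) :
    ∃ (n : Fin 8) (g a t : H), Rel8 n f g a t ∧ closure {t, a, g, f} = ⊤ := by
  have pw : ∀ {i j : ℕ}, f ^ i = f ^ j ↔ i % 8 = j % 8 := by
    intro i j; rw [pow_eq_pow_iff_modEq, hf]; rfl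
  have nz : ∀ i, f ^ i = 1 ↔ i % 8 = 0 := fun i => by rw [← pow_zero f, pw]
  have f8 := (nz 8).mpr rfl
  have zp : ∀ x ∈ zpowers f, ∃ k < 8, x = f ^ k := fun x hx => by
    obtain ⟨k, rfl⟩ := mem_powers_iff_mem_zpowers.mpr hx
    exact ⟨k % 8, Nat.mod_lt _ (by norm_num), pw.mpr (by simp)⟩
  have cs : ∀ x, x * f * x⁻¹ = f → ∃ k < 8, x = f ^ k := fun x hx =>
    zp x (hs x (mul_inv_eq_iff_eq_mul.mp hx))
  have cp : ∀ {x y : H} {k : ℕ}, x * y * x⁻¹ = f ^ k → ∀ i, x * y ^ i * x⁻¹ = f ^ (k * i) :=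
    fun h i => by rw [← conj_pow, h, pow_mul]
  have act : ∀ x ∈ N[zpowers f], ∃ k < 8, k % 2 = 1 ∧ x * f * x⁻¹ = f ^ k := fun x hx => by
    obtain ⟨k, hk, h⟩ := zp _ ((mem_normalizer_iff.mp hx f).mp (mem_zpowers f))
    refine ⟨k, hk, by_contra fun h2 => ?_, h⟩
    have := cp h 4
    rw [(nz (k * 4)).mpr (by omega), conj_eq_one_iff, nz] at this
    omega
  have nm : ∀ {x : H} {k : ℕ}, x * f * x⁻¹ = f ^ k → x ∈ N[zpowers f] := fun h =>
    mem_normalizer_fintype fun y hy => by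
      obtain ⟨j, -, rfl⟩ := zp y hy
      exact cp h j ▸ npow_mem_zpowers f _
  have idx : (N[zpowers f]).index = 2 := by
    have h1 := ncard_conj_mul (le_normalizer (mem_zpowers f))
    have h2 : N[zpowers f] ⊓ C1[f] = zpowers f := le_antisymm (fun x hx => hs x (mem_C1.mp hx.2))
      (le_inf le_normalizer (zpowers_le.mpr (mem_C1_self f)))
    have h3 : {y | ∃ l ∈ N[zpowers f], l * f * l⁻¹ = y} = (f ^ ·) '' {1, 3, 5, 7} := by
      ext y
      constructor
      · rintro ⟨l, hl, rfl⟩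
        obtain ⟨k, h1, h2, h3⟩ := act l hl
        exact ⟨k, by simp only [Set.mem_insert_iff, Set.mem_singleton_iff]; omega, h3.symm⟩
      · rintro ⟨k, rfl | hk, rfl⟩
        · exact ⟨1, one_mem _, by simp⟩
        · exact (ho k hk).imp fun x hx => ⟨nm hx, hx⟩
    rw [h2, h3, Set.ncard_image_of_injOn (fun i hi j hj e => by
      have := pw.mp e
      simp only [Set.mem_insert_iff, Set.mem_singleton_iff] at hi hj
      omega), Nat.card_zpowers, hf, show ({1, 3, 5, 7} : Set ℕ).ncard = 4 by simp] at h1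
    have := (N[zpowers f]).index_mul_card
    rw [← h1, hH] at this
    omega
  have hN := normal_of_index_eq_two idx
  obtain ⟨a, ha⟩ := ho 7 (by simp)
  have cg : ∀ {t g : H}, t * f * t⁻¹ = g → ∀ i, t * f ^ i * t⁻¹ = g ^ i := fun h i => by
    rw [← conj_pow, h]
  have A : ∀ t ∉ N[zpowers f], ∀ g, t * f * t⁻¹ = g →
      g * f * g⁻¹ = f ^ 5 ∧ (g ^ 2 = f ^ 2 ∨ g ^ 2 = f ^ 6) := fun t ht g hg => by
    obtain ⟨k, k1, k2, k3⟩ := act g (hg ▸ hN.conj_mem f (le_normalizer (mem_zpowers f)) t)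
    obtain ⟨j, j1, j2⟩ := cs (g ^ 2) (by
      calc _ = g * (g * f * g⁻¹) * g⁻¹ := by rw [pow_two]; group
        _ = f ^ 1 := by rw [k3, cp k3, pw]; interval_cases k <;> simp_all
        _ = _ := pow_one f)
    have j3 : j * 2 % 8 ≠ 0 := fun e => by
      have := (nz _).mpr e
      rw [pow_mul, ← j2, ← pow_mul, ← cg hg, conj_eq_one_iff, nz] at this
      omega
    have j4 : j * 4 % 8 = 0 := by
      rw [← nz, pow_mul, ← j2, ← pow_mul, ← cg hg, conj_eq_one_iff, nz]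
    have j5 := cp k3 j
    rw [← j2, ← pow_succ', pow_succ, mul_inv_cancel_right, j2, pw] at j5
    have k4 : k ≠ 1 := by
      rintro rfl
      obtain ⟨i, -, h⟩ := cs _ (k3.trans (pow_one f))
      exact ht (nm (hg.trans h))
    have : (j = 2 ∨ j = 6) ∧ k = 5 := by interval_cases k <;> omega
    obtain ⟨rfl | rfl, rfl⟩ := this
    exacts [⟨k3, Or.inl j2⟩, ⟨k3, Or.inr j2⟩]
  have nN : ∀ {t x}, t ∉ N[zpowers f] → x ∈ N[zpowers f] → t * x ∉ N[zpowers f] :=
    fun ht hx h => ht ((mul_mem_cancel_right hx).mp h)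
  have fN := le_normalizer (mem_zpowers f)
  obtain ⟨t, ht, g, hg, g2⟩ : ∃ t ∉ N[zpowers f], ∃ g, t * f * t⁻¹ = g ∧ g ^ 2 = f ^ 2 := by
    obtain ⟨t, ht, -⟩ := index_eq_two_iff_exists_notMem_and.mp idx
    refine (A t ht _ rfl).2.elim (fun h => ⟨t, ht, _, rfl, h⟩) fun h =>
      ⟨t * a, nN ht (nm ha), (t * f * t⁻¹) ^ 7, by rw [← cg rfl, ← ha]; group, ?_⟩
    rw [← pow_mul, mul_comm, pow_mul, h, ← pow_mul, pw]
  have gf := (A t ht g hg).1
  have ge : ∀ i, g ^ (2 * i) = f ^ (2 * i) := fun i => by rw [pow_mul, g2, pow_mul]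
  have fg : f * g * f⁻¹ = g ^ 5 := by
    calc _ = f * (g * f * g⁻¹)⁻¹ * g := by group
      _ = (f ^ 8)⁻¹ * f ^ (2 * 2) * g := by rw [gf]; group
      _ = _ := by rw [f8, ← ge]; group
  obtain ⟨t, ht, hg, tg⟩ : ∃ t ∉ N[zpowers f], t * f * t⁻¹ = g ∧ t * g * t⁻¹ = f := by
    obtain ⟨k, k1, k2, k3⟩ := act _ (mul_self_mem_of_index_two idx t)
    replace k3 : t * g * t⁻¹ = f ^ k := by rw [← k3, ← hg]; group
    have h := cp k3 2
    rw [g2, cg hg, g2, pw] at h
    obtain rfl | rfl : k = 1 ∨ k = 5 := by omega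
    · exact ⟨t, ht, hg, k3.trans (pow_one f)⟩
    · refine ⟨t * f, nN ht fN, by rw [← hg]; group, ?_⟩
      calc _ = t * (f * g * f⁻¹) * t⁻¹ := by group
        _ = f ^ 1 := by rw [fg, cp k3, pw]
        _ = _ := pow_one f
  obtain ⟨t, ht, hg, tg, j, j1, tt⟩ : ∃ t ∉ N[zpowers f], t * f * t⁻¹ = g ∧ t * g * t⁻¹ = f ∧
      ∃ j < 2, t * t = f ^ (2 * j) := by
    obtain ⟨j, j1, j2⟩ := cs (t * t) (by
      calc _ = t * (t * f * t⁻¹) * t⁻¹ := by group
        _ = _ := by rw [hg, tg])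
    have j3 : j % 2 = 0 := by_contra fun h => by
      obtain ⟨i, rfl⟩ : ∃ i, j = 2 * i + 1 := ⟨j / 2, by omega⟩
      have := cg hg (2 * i + 1)
      rw [← j2, mul_assoc, mul_inv_cancel_right, j2, pow_succ, pow_succ, ge, mul_right_inj] at this
      rw [← this, mul_inv_cancel_right, ← pow_one f, ← pow_mul, pw] at gf
      omega
    by_cases h : j < 4
    · exact ⟨t, ht, hg, tg, j / 2, by omega, j2.trans (pw.mpr (by omega))⟩
    · refine ⟨t * f ^ 2, nN ht (pow_mem fN 2), by rw [← hg]; group, by rw [← g2, ← tg]; group,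
        j / 2 - 2, by omega, ?_⟩
      calc _ = t * f ^ 2 * t⁻¹ * (t * t) * f ^ 2 := by group
        _ = _ := by rw [cg hg, g2, j2, ← pow_add, ← pow_add, pw]; omega
  obtain ⟨a, ha, ag⟩ : ∃ a, a * f * a⁻¹ = f ^ 7 ∧ a * g * a⁻¹ = g ^ 7 := by
    obtain ⟨k, k1, k2, k3⟩ := act _ (hN.conj_mem' a (nm ha) t)
    replace k3 : a * g * a⁻¹ = g ^ k := by rw [← cg hg, ← k3, ← hg]; group
    have h := cp ha 2
    rw [← g2, ← conj_pow, k3, ← pow_mul, mul_comm, ge, pw] at h
    obtain rfl | rfl : k = 3 ∨ k = 7 := by omega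
    · refine ⟨a * f, by rw [← ha]; group, ?_⟩
      calc _ = a * (f * g * f⁻¹) * a⁻¹ := by group
        _ = g ^ (2 * 4) * g ^ 7 := by rw [fg, ← conj_pow, k3]; group
        _ = _ := by rw [ge, f8, one_mul]
    · exact ⟨a, ha, k3⟩
  have f7 : f ^ 7 = f⁻¹ := eq_inv_of_mul_eq_one_left (by rw [← pow_succ, f8])
  have g7 : g ^ 7 = g⁻¹ := eq_inv_of_mul_eq_one_left (by rw [← pow_succ, ge 4, f8])
  obtain ⟨i, i1, aa⟩ := cs (a * a) (by
    calc _ = a * (a * f * a⁻¹) * a⁻¹ := by group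
      _ = f ^ 1 := by rw [ha, cp ha, pw]
      _ = _ := pow_one f)
  have i2 := cp ha i
  rw [← aa, mul_assoc, mul_inv_cancel_right, aa, pw] at i2
  rw [g7] at ag
  have ha' := ha.trans f7
  have inv : ∀ {x y z : H}, x * y * x⁻¹ = z → x⁻¹ * z * x = y ∧ x * y⁻¹ * x⁻¹ = z⁻¹ ∧
      x⁻¹ * z⁻¹ * x = y⁻¹ := fun h => by rw [← h]; exact ⟨by group, by group, by group⟩
  obtain ⟨m, m1, ta⟩ := cs (t * a * t⁻¹ * a⁻¹) (by
    calc _ = t * (a * (t⁻¹ * (a⁻¹ * f⁻¹⁻¹ * a) * t) * a⁻¹) * t⁻¹ := by group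
      _ = _ := by rw [(inv ha').2.2, (inv tg).2.2, (inv ag).2.1, inv_inv, tg])
  rw [mul_inv_eq_iff_eq_mul] at ta
  have key : g ^ m * f ^ m = f ^ (2 * j) * f ^ (2 * j) := by
    calc _ = t * f ^ m * t⁻¹ * (t * a * t⁻¹) * a⁻¹ := by rw [cg hg, ta]; group
      _ = t * (f ^ m * a) * t⁻¹ * a⁻¹ := by group
      _ = t * t * (a * (t * t) * a⁻¹)⁻¹ := by rw [← ta]; group
      _ = _ := by rw [tt, ← conj_pow, ha', inv_pow, inv_inv]
  obtain ⟨m, rfl⟩ : ∃ i, m = 2 * i := ⟨m / 2, by_contra fun h => by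
    obtain ⟨i, rfl⟩ : ∃ i, m = 2 * i + 1 := ⟨m / 2, by omega⟩
    have : g = (f ^ (2 * i))⁻¹ * (f ^ (2 * j) * f ^ (2 * j)) * (f ^ (2 * i + 1))⁻¹ := by
      rw [← key, pow_succ g, ge]; group
    rw [show g * f * g⁻¹ = f ^ 1 by rw [this]; group, pw] at gf
    omega⟩
  rw [ge, ← pow_add, ← pow_add, pw] at key
  refine ⟨⟨i + m, by omega⟩, g, a, t, ⟨f8, by rw [← pow_two, g2, pow_two], gf, ha', ag,
    aa.trans (pw.mpr (by simp only; omega)), hg, tg, tt.trans (pw.mpr (by simp only; omega)),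
    ta.trans (congrArg (· * a) (pw.mpr (by simp only; omega)))⟩, ?_⟩
  have mf : ∀ {x}, x ∈ ({t, a, g, f} : Set H) → x ∈ closure ({t, a, g, f} : Set H) :=
    fun h => subset_closure h
  generalize closure {t, a, g, f} = K at mf ⊢
  have h1 : ∀ x, ∀ y ∈ K, y * f * y⁻¹ = x * f * x⁻¹ → x ∈ K := fun x y hy h => by
    obtain ⟨k, -, e⟩ := cs (y⁻¹ * x) (by
      calc _ = y⁻¹ * (x * f * x⁻¹) * y := by group
        _ = _ := by rw [← h]; group)
    exact (mul_mem_cancel_left (inv_mem hy)).mp (e ▸ pow_mem (mf (by simp)) k)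
  have h2 : N[zpowers f] ≤ K := fun x hx => by
    obtain ⟨k, k1, k2, k3⟩ := act x hx
    obtain rfl | rfl | rfl | rfl : k = 1 ∨ k = 3 ∨ k = 5 ∨ k = 7 := by omega
    · exact h1 x 1 (one_mem _) (by rw [k3]; group)
    · refine h1 x (g * a) (mul_mem (mf (by simp)) (mf (by simp))) ?_
      calc _ = g * (a * f * a⁻¹) * g⁻¹ := by group
        _ = _ := by rw [ha, cp gf, k3, pw]
    · exact h1 x g (mf (by simp)) (gf.trans k3.symm)
    · exact h1 x a (mf (by simp)) (ha.trans k3.symm)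
  refine eq_top_iff.mpr fun x _ => by_contra fun hx => hx ?_
  exact (mul_mem_cancel_right (mf (by simp))).mp (h2 ((mul_mem_iff_of_index_two idx).mpr
    (iff_of_false (fun h => hx (h2 h)) ht)))

end rel

variable {G : Type*} [Group G] [Finite G] [IsSimpleGroup G]

theorem Fz.false {D : Tab} [D.Good] {z u : D.El} (h : Fz z u) (hG : ¬ IsMulCommutative G)
    {φ : D.El →* G} (hφ : Function.Injective φ) (hS : IsSylowIn 2 φ.range ⊤) : False := by
  obtain ⟨z2, z1, u2, uz, cz, h2, h3, h4, ⟨r, r1, r2⟩, c1, c2⟩ := h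
  have cm : ∀ {p q}, φ p * φ q = φ q * φ p ↔ p * q = q * p := fun {p q} => by
    rw [← map_mul, ← map_mul, hφ.eq_iff]
  let U : Subgroup D.El := Subgroup.ofDiv {x | InU z u x} ⟨1, Or.inl rfl⟩ (by
    have e1 := inv_eq_of_mul_eq_one_right z2
    have e2 := inv_eq_of_mul_eq_one_right u2
    have e3 : ∀ x, u * (u * x) = x := fun x => by rw [← mul_assoc, u2, one_mul]
    have e4 : ∀ x, z * (u * x) = u * (z * x) := fun x => by rw [← mul_assoc, ← cz, mul_assoc]
    intro x hx y hy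
    rcases hx with h | h | h | h <;> rcases hy with h' | h' | h' | h' <;>
      simp [h, h', InU, e1, e2, e3, e4, z2, u2, ← cz u, mul_assoc])
  have h4' := φ.map_isConj (isConj_iff.mpr h4)
  obtain ⟨g, hg, hg', hP⟩ := exists_uz hG hS (U := U.map φ) (z := φ z) (u := φ u)
    (by rw [orderOf_injective φ hφ, h9_orderOf_eq_two_iff]; exact ⟨z1, z2⟩)
    (by rintro _ ⟨p, rfl⟩; exact mem_C1.mpr (cm.mpr (cz p))) (fun x => by
      change (∃ y, InU z u y ∧ φ y = x) ↔ _
      simp [InU, eq_comm, and_or_left, exists_or]) (map_le_range φ U) (hφ.ne uz) (by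
      rintro _ ⟨y, rfl⟩ h
      rw [← map_mul] at h ⊢
      exact mem_map_of_mem φ (h2 y (hφ (by rwa [map_mul, map_one])))) (by
      rintro _ ⟨y, rfl⟩ h
      refine (h3 y (hφ (by rwa [map_mul, map_one]))).imp (mem_map_of_mem φ (K := U)) (Or.imp
        (fun ⟨r, h1, h2⟩ => ⟨φ r, ⟨r, rfl⟩, cm.mpr h1, by rw [← map_mul, h2]⟩)
        fun h => ⟨cm.mpr h.1, ?_⟩)
      rintro _ ⟨c, rfl⟩ h1
      exact (h.2 c (cm.mp h1)).imp (mem_map_of_mem φ (K := U))
        fun h => φ.map_isConj (isConj_iff.mpr h))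
    (map_mul φ u z ▸ h4') ⟨φ r, ⟨_, rfl⟩, cm.mpr r1, by rw [← map_mul, r2]⟩
  obtain ⟨w, hw, c, hc⟩ : ∃ w, g * φ z * g⁻¹ = φ w ∧
      D.cnt (fun r => r * u = u * r ∧ r * r = w) < D.cnt (fun r => r * u = u * r ∧ r * r = z) ∧
      ∀ p, p * w = w * p → p * u = u * p :=
    hg'.elim (fun h => ⟨u, h, c1, fun _ => id⟩) fun h => ⟨u * z, by rw [h, map_mul], c2,
      fun p h => mul_right_cancel (b := z) (by rw [mul_assoc, h, mul_assoc, mul_assoc, cz])⟩
  choose! k hk using fun p h => hP (φ p) ⟨p, rfl⟩ (cm.mpr h)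
  rw [Tab.cnt_eq, Tab.cnt_eq] at c
  refine c.not_ge (Set.ncard_le_ncard_of_injOn k (fun p hp => ⟨hc _ (cm.mp ?_), hφ ?_⟩)
    fun p hp q hq e => hφ ?_)
  · rw [hk p hp.1, ← hw, conj_mul, conj_mul, cm.mpr (cz p)]
  · rw [map_mul, hk p hp.1, conj_mul, ← map_mul, hp.2, hw]
  · exact mul_left_cancel (mul_right_cancel ((hk p hp.1).symm.trans (e ▸ hk q hq.1)))

theorem card_eq_of_rel8 (hG : ¬ IsMulCommutative G) (P : Sylow 2 G)
    (hP : Nat.card (P : Subgroup G) = 64) {n : Fin 8} {f g a t : (P : Subgroup G)}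
    (h : Rel8 n f g a t) (e : closure {t, a, g, f} = ⊤)
    (h2 : ∃ x y : G, orderOf x = 2 ∧ orderOf y = 2 ∧ ¬ IsConj x y) : Nat.card G = 95040 := by
  have key : ∀ {X : Type} [Group X] (e : (P : Subgroup G) ≃* X),
      IsSylowIn 2 ((P : Subgroup G).subtype.comp e.symm.toMonoidHom).range ⊤ := fun e => by
    rw [MonoidHom.range_comp, MonoidHom.range_eq_top.mpr e.symm.surjective,
      ← MonoidHom.range_eq_map, range_subtype]
    exact IsSylowIn.of_sylow_top P
  by_cases hn : n = 0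
  · subst hn
    obtain ⟨e⟩ := h.equiv rel_S64.1 hP S64.card e fun x => (rel_S64.2 x).elim fun c hc => ⟨_, hc⟩
    exact Syl64.card_eq ⟨Subtype.val_injective.comp e.symm.injective, key e⟩ h2
  · obtain ⟨e⟩ := h.equiv (rel_P n).1 hP Tab.card_El e fun x => ⟨_, (rel_P n).2 x⟩
    exact ((fz_P n hn).false hG (Subtype.val_injective.comp e.symm.injective) (key e)).elim

end Cfsg.Lib.IC
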