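import Cfsg.Agent.Lib.InvChar.PSp43Tab

/-!
Computed facts about the group `(SL(2,3) ∘ SL(2,3)).2` of order 576.
-/

set_option autoImplicit false
set_option synthInstance.maxSize 4096
set_option synthInstance.maxHeartbeats 400000

namespace Cfsg.Lib.IC.H576

open Cfsg.Lib.PC

def t : H576 := tab576.el 300
def ρ : H576 := tab576.el 1
def σ : H576 := tab576.el 2
def w : H576 := tab576.el 3

/-- the elements of the elementary abelian subgroup of order 16 -/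
def ev (i : ℕ) : H576 := tab576.el (app 10 0x4b1aa5f86113d9573404571985c829118e244000 i)

/-- the class label of an involution -/
def cl (x : H576) : ℕ := app 3 cls576 x.val

/-- conjugation by the extra involution -/
def al (x : H576) : H576 := tab576.el (app 10 alpha576 x.val)

def S0 : Subgroup H576 := Tab.sub 0x9556c2151602002008000000002820008020040001b00080400400001002000020001000002100082000004410000004000000048040800200041002000080400401120000014019 (by decide +kernel)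
def Q0 : Subgroup H576 := Tab.sub 0x14c0001602002008000000002820008020000001a00080000400000000000000001000002000000000004000000000000000008040000000000002000000400401100000000009 (by decide +kernel)
def K0 : Subgroup H576 := Tab.sub 0x804000004000000000000020400000042001240000400400081000000000241000090900000080011400408090000000200008500040420002800080420000020000080133 (by decide +kernel)
def E0 : Subgroup H576 := Tab.sub 0x20000000040001200000400400001000000000001000000100000000000400000000000000000000000000000002000080400000020000000011 (by decide +kernel)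
def L0 : Subgroup H576 := Tab.sub 0x8a000045a8b77 (by decide +kernel)
def H1 : Subgroup H576 := Tab.sub 0x6a95c96a5746b2653a36aa54ce6b2897a2e1ea2e55a22f87a355d2ca23791c5b87ca17954da88be1c72355d0e38af288be0ce388cd5e438d8b7069e21c5b17706ce3706e71b636ef (by decide +kernel)

instance : DecidablePred (· ∈ S0) := fun _ => inferInstanceAs (Decidable (_ = true))
instance : DecidablePred (· ∈ Q0) := fun _ => inferInstanceAs (Decidable (_ = true))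
instance : DecidablePred (· ∈ K0) := fun _ => inferInstanceAs (Decidable (_ = true))
instance : DecidablePred (· ∈ E0) := fun _ => inferInstanceAs (Decidable (_ = true))
instance : DecidablePred (· ∈ L0) := fun _ => inferInstanceAs (Decidable (_ = true))
instance : DecidablePred (· ∈ H1) := fun _ => inferInstanceAs (Decidable (_ = true))

/-- the linear map on four-bit vectors with the given images of the basis -/
def lin (a b c d i : ℕ) : ℕ :=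
  ((i % 2 * a) ^^^ (i / 2 % 2 * b)) ^^^ ((i / 4 % 2 * c) ^^^ (i / 8 % 2 * d))

/-- the linear map with packed images -/
def lc (c : ℕ) : ℕ → ℕ := lin (app 4 c 0) (app 4 c 1) (app 4 c 2) (app 4 c 3)

/-- the twelve maps induced inside the group -/
def a4 : List ℕ := [4680, 5250, 6180, 8580, 9240, 10305, 16680, 17025, 18450, 33090, 33300, 33825]

/-- the map agrees with `lc c` on the basis -/
def agree (f : ℕ → ℕ) (c : ℕ) : Prop :=
  f 1 = app 4 c 0 ∧ f 2 = app 4 c 1 ∧ f 4 = app 4 c 2 ∧ f 8 = app 4 c 3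

instance (f : ℕ → ℕ) (c : ℕ) : Decidable (agree f c) := inferInstanceAs (Decidable (_ ∧ _))

/-- the map fixes the centre but is not induced inside the group -/
def bad (f : ℕ → ℕ) : Prop := f 15 = 15 ∧ ∀ c ∈ a4, ¬ agree f c

instance (f : ℕ → ℕ) : Decidable (bad f) := inferInstanceAs (Decidable (_ ∧ _))

theorem card : Nat.card H576 = 576 := Tab.card_El
theorem card_S0 : Nat.card S0 = 64 := by rw [Tab.card_subgroup]; decide +kernel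
theorem card_Q0 : Nat.card Q0 = 32 := by rw [Tab.card_subgroup]; decide +kernel
theorem card_H1 : Nat.card H1 = 288 := by rw [Tab.card_subgroup]; decide +kernel
theorem Q0_le : ∀ x, x ∈ Q0 → x ∈ S0 := by decide +kernel

theorem cl_cases : ∀ x : H576, x * x = 1 → x = 1 ∨ x = t ∨ cl x = 2 ∨ cl x = 3 ∨ cl x = 4 := by
  decide +kernel
theorem cl_one : ∀ x : H576, cl x = 1 ↔ x = t := by decide +kernel
theorem cl_two : ∀ x : H576, cl x = 2 → ∃ g, g * ev 3 * g⁻¹ = x := by decide +kernel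
theorem cl_three : ∀ x : H576, cl x = 3 → ∃ g, g * ev 8 * g⁻¹ = x := by decide +kernel
theorem cl_four : ∀ x : H576, cl x = 4 → ∃ g, g * ev 7 * g⁻¹ = x := by decide +kernel
theorem cl_sq : ∀ x : H576, cl x ≠ 0 → x * x = 1 ∧ x ≠ 1 := by decide +kernel
theorem cl_vals : cl 1 = 0 ∧ cl t = 1 ∧ cl (ev 3) = 2 ∧ cl (ev 8) = 3 ∧ cl (ev 7) = 4 ∧
    cl (ev 12) = 2 ∧ cl (ev 1) = 3 ∧ cl (ev 2) = 3 ∧ cl (ev 4) = 3 ∧ cl (ev 11) = 4 := by
  decide +kernel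
theorem comm_t : ∀ x : H576, x * t = t * x := by decide +kernel
theorem t_mem : t ∈ S0 ∧ t ∈ H1 ∧ ev 8 ∉ H1 ∧ ev 7 ∉ H1 := by decide +kernel
theorem center_S0 : ∀ x : H576, (∀ y, y ∈ S0 → y * x = x * y) → x = 1 ∨ x = t := by decide +kernel
theorem mem_Q0 : ∀ x : H576, x ∈ Q0 → cl x ≠ 3 ∧ cl x ≠ 4 := by decide +kernel
theorem not_conj : ∀ g : H576, g * ev 8 * g⁻¹ ≠ ev 3 ∧ g * ρ * g⁻¹ ≠ ρ⁻¹ := by decide +kernel
theorem cl_mul_t : ∀ x : H576, cl x = 1 ∨ cl x = 3 → cl (t * x) = 0 ∨ cl (t * x) = 4 := by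
  decide +kernel

theorem ev_vals : ev 0 = 1 ∧ ev 15 = t ∧ ev 7 = ev 8 * t ∧ ev 12 = t * ev 3 ∧ t = ev 3 * ev 12 ∧
    t * t = 1 ∧ ev 7 * t = ev 8 := by decide +kernel
theorem ev_xor : ∀ i < 16, ∀ j < 16, ev (i ^^^ j) = ev i * ev j := by decide +kernel
theorem ev_inj : ∀ i < 16, ∀ j < 16, ev i = ev j → i = j := by decide +kernel
theorem ev_mem : ∀ i < 16, ev i ∈ E0 := by decide +kernel
theorem mem_E0 : ∀ x : H576, x ∈ E0 → ∃ i < 16, x = ev i := by decide +kernel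
theorem lin_id : ∀ i < 16, lin 1 2 4 8 i = i := by decide +kernel
theorem mem_E0_of : ∀ x : H576, x * x = 1 → x * ev 8 = ev 8 * x → x ∈ E0 := by decide +kernel
theorem cnt_two : ∀ x : H576, cl x = 2 → tab576.cnt (fun y => y * y = 1 ∧ y * x = x * y ∧
    cl y ≠ 3 ∧ cl y ≠ 4) < 16 := by decide +kernel
theorem cent_E0 : ∀ x : H576, x * ev 1 = ev 1 * x → x * ev 2 = ev 2 * x → x * ev 4 = ev 4 * x →
    x * ev 8 = ev 8 * x → x ∈ E0 := by decide +kernel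
theorem exists_a4 : ∀ x : H576, x * ev 1 * x⁻¹ ∈ E0 → x * ev 2 * x⁻¹ ∈ E0 → x * ev 4 * x⁻¹ ∈ E0 →
    x * ev 8 * x⁻¹ ∈ E0 → ∃ c ∈ a4, x * ev 1 * x⁻¹ = ev (app 4 c 0) ∧
      x * ev 2 * x⁻¹ = ev (app 4 c 1) ∧ x * ev 4 * x⁻¹ = ev (app 4 c 2) ∧
      x * ev 8 * x⁻¹ = ev (app 4 c 3) := by decide +kernel
theorem exists_of_a4 : ∀ c ∈ a4, ∃ x : H576, x * ev 1 * x⁻¹ = ev (app 4 c 0) ∧
      x * ev 2 * x⁻¹ = ev (app 4 c 1) ∧ x * ev 4 * x⁻¹ = ev (app 4 c 2) ∧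
      x * ev 8 * x⁻¹ = ev (app 4 c 3) := by decide +kernel
theorem act_w : w * ev 1 * w⁻¹ = ev 2 ∧ w * ev 2 * w⁻¹ = ev 1 ∧ w * ev 4 * w⁻¹ = ev 8 ∧
    w * ev 8 * w⁻¹ = ev 4 := by decide +kernel
theorem act_ρ : ρ * ev 1 * ρ⁻¹ = ev 2 ∧ ρ * ev 2 * ρ⁻¹ = ev 4 ∧ ρ * ev 4 * ρ⁻¹ = ev 1 ∧
    ρ * ev 8 * ρ⁻¹ = ev 8 := by decide +kernel
theorem exists_three : ∀ i < 16, cl (ev i) = 3 ∨ cl (ev i) = 4 →
    ∃ r : H576, r ≠ 1 ∧ r * r * r = 1 ∧ r * ev i = ev i * r := by decide +kernel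
theorem no_three : ∀ r : H576, r * ev 3 = ev 3 * r → r * r * r = 1 → r = 1 := by decide +kernel
theorem exists_w : ∀ i < 16, cl (ev i) = 2 → ∃ x : H576, x * x = 1 ∧ x * ev i * x⁻¹ = ev i * t ∧
    ∀ j < 16, x * ev j * x⁻¹ ∈ E0 := by decide +kernel

/-- the action of `w` -/
def fw : ℕ → ℕ := lin 2 1 8 4
/-- the action of `ρ` -/
def fr : ℕ → ℕ := lin 2 4 1 8
/-- the action of the extra involution -/
def fn : ℕ → ℕ := lin 2 1 4 15

theorem bad_of_e : ∀ a < 16, ∀ b < 16, a ^^^ b = 3 → ∀ c < 16, ∀ d < 16, lin a b c d 15 = 12 →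
    (∀ i < 16, lin a b c d (lin a b c d i) = i) →
    bad (lin a b c d ∘ fw ∘ lin a b c d) ∨
    bad (lin a b c d ∘ fr ∘ lin a b c d ∘ fr ∘ lin a b c d ∘ fr ∘ fr ∘ lin a b c d) ∨
    bad (lin a b c d ∘ fr ∘ fr ∘ lin a b c d ∘ fr ∘ lin a b c d ∘ fr ∘ lin a b c d) := by
  decide +kernel
theorem two_mul_ne : ∀ i < 16, ∀ j < 16, cl (ev i) = 2 → cl (ev j) = 2 → ev i * ev j ≠ ev 8 := by
  decide +kernel
theorem frame : ∀ a < 16, cl (ev a) = 1 ∨ cl (ev a) = 3 → ∀ b < 16, cl (ev b) = 1 ∨ cl (ev b) = 3 →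
    ∀ c < 16, cl (ev c) = 1 ∨ cl (ev c) = 3 → (∀ i < 16, lin a b c 15 i = 0 → i = 0) →
    ∃ p ∈ a4, ∃ q ∈ a4, (∀ i < 16, (lc p ∘ lin a b c 15 ∘ lc q) i = fn i) ∨
      (∀ i < 16, (lc p ∘ lin a b c 15 ∘ lc q) i = lin 1 2 4 15 i) := by decide +kernel
theorem bad_transp : bad (lin 1 2 4 15 ∘ fw ∘ lin 1 2 4 15 ∘ fw ∘ lin 1 2 4 15 ∘ fw) := by
  decide +kernel
theorem fn_facts : (∀ i < 16, fn i < 16 ∧ fn (fn i) = i) ∧
    (∀ i < 16, (fn ∘ fr ∘ fn ∘ fr) i = i) ∧ (∀ i < 16, (fn ∘ fw ∘ fn ∘ fw ∘ fn ∘ fw) i = i) ∧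
    (∀ i < 16, fn i = i → fw i = i → i = 0 ∨ i = 3) ∧
    (∀ i < 16, fn i = i → ev i * ρ = ρ * ev i → i = 0 ∨ i = 7) := by decide +kernel
theorem conj_rho : ∀ i < 16, ev i * ρ⁻¹ * (ev i * ρ⁻¹) * (ev i * ρ⁻¹) = 1 →
    ∃ j < 16, ev j * (ev i * ρ⁻¹) * (ev j)⁻¹ = ρ⁻¹ := by decide +kernel
theorem K0_dec : ∀ k : H576, k ∈ K0 → ∃ i < 16, ∃ j < 3,
    k = ev i * ρ ^ j ∧ al k = ev (fn i) * ρ⁻¹ ^ j := by decide +kernel
theorem L0_dec : ∀ k : H576, k ∈ L0 → ∃ i < 3, ∃ j < 3, ∃ l < 2,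
    k = ρ ^ i * σ ^ j * ev 8 ^ l := by decide +kernel
theorem dcoset_K : ∀ a : H576, a ∈ K0 ∨ ∃ k, k ∈ K0 ∧ ((k * w)⁻¹ * a ∈ K0 ∨ (k * σ)⁻¹ * a ∈ K0) := by
  decide +kernel
theorem dcoset_L : ∀ a : H576, ∃ k, k ∈ K0 ∧ (k⁻¹ * a ∈ L0 ∨ (k * w)⁻¹ * a ∈ L0) := by
  decide +kernel
theorem reps_K : ∀ a : H576, ∃ r : H576, tb 0x4000000000002040001024068d r.val = true ∧ r⁻¹ * a ∈ K0 := by
  decide +kernel
theorem cnt_reps : tab576.cnt (fun r => tb 0x4000000000002040001024068d r.val = true) = 12 := by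
  decide +kernel
theorem reps_L : ∀ a : H576, ∃ r : H576, r ∈ Q0 ∧ r⁻¹ * a ∈ L0 := by decide +kernel
theorem rels : ρ * ρ * ρ = 1 ∧ σ * σ * σ = 1 ∧ w * w = 1 ∧ ρ * t = t * ρ ∧ σ * ρ = ρ * σ ∧
    ev 8 * ρ = ρ * ev 8 ∧ σ * ev 8 * σ⁻¹ = σ⁻¹ * ev 8 ∧ w * (ρ * w * ρ⁻¹) * (ρ⁻¹ * w * ρ) = 1 ∧
    ρ ∈ K0 ∧ al ρ = ρ⁻¹ ∧ al ρ⁻¹ = ρ ∧ ev 8 * ev 8 = 1 := by decide +kernel
theorem wrong_braid : ∃ k₁ k₂ : H576, k₁ ∈ K0 ∧ k₂ ∈ K0 ∧ w * (ρ⁻¹ * (ev 3 * w)) = k₁ * w * k₂ ∧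
    w * al k₂ * (w * ρ) * (ρ * (ev 3 * w)) ∈ K0 ∧
    ev 3 * w * (al k₁ * (ev 3 * w)) * al (w * al k₂ * (w * ρ) * (ρ * (ev 3 * w))) * (w * ρ⁻¹) ≠ 1 :=
  ⟨tab576.el 118, tab576.el 283, by decide +kernel⟩
theorem mem_E0_of_comm : ∀ i < 16, cl (ev i) = 2 ∨ cl (ev i) = 4 → ∀ x : H576,
    cl x = 1 ∨ cl x = 3 → x * ev i = ev i * x → x ∈ E0 := by decide +kernel
theorem span_z : ∀ a < 16, cl (ev a) = 1 ∨ cl (ev a) = 3 → a ≠ 4 → ∀ b < 16,
    cl (ev b) = 1 ∨ cl (ev b) = 3 → b ≠ 8 → 4 ^^^ a ^^^ 3 = 15 ∨ 4 ^^^ a ^^^ 3 = 8 ∨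
      8 ^^^ b ^^^ 3 = 15 ∨ 8 ^^^ b ^^^ 3 = 4 ∨ (4 ^^^ a) ^^^ (8 ^^^ b) = 15 ∨
      (4 ^^^ a) ^^^ (8 ^^^ b) ^^^ 3 = 15 := by decide +kernel

end Cfsg.Lib.IC.H576
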