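import Cfsg.Agent.Lib.InvChar.PSp43Rel

/-!
Janko's characterisation of `PSp(4, 3)`: identification.
-/

set_option autoImplicit false

namespace Cfsg.Lib.IC

open Subgroup H576

variable {G : Type*} [Group G]

/-- a subgroup containing both involution centralisers and controlling their fusion is the whole
group -/
theorem eq_top_of_two_classes [Finite G] {L : Subgroup G} {z u : G} (hz : orderOf z = 2)
    (hu : orderOf u = 2) (hzu : ¬ IsConj z u)
    (hcl : ∀ x : G, orderOf x = 2 → IsConj z x ∨ IsConj u x) (h1 : centralizer {z} ≤ L)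
    (h2 : centralizer {u} ≤ L)
    (hL : ∀ x ∈ L, orderOf x = 2 → ∃ l ∈ L, l * z * l⁻¹ = x ∨ l * u * l⁻¹ = x) : L = ⊤ := by
  have hzL : z ∈ L := h1 (mem_centralizer_singleton_iff.mpr rfl)
  have huL : u ∈ L := h2 (mem_centralizer_singleton_iff.mpr rfl)
  have oz : orderOf (⟨z, hzL⟩ : L) = 2 := by rw [← Subgroup.orderOf_coe, hz]
  have ou : orderOf (⟨u, huL⟩ : L) = 2 := by rw [← Subgroup.orderOf_coe, hu]
  have hc : ∀ x : L, orderOf x = 2 → IsConj (⟨z, hzL⟩ : L) x ∨ IsConj (⟨u, huL⟩ : L) x := by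
    intro x hx
    obtain ⟨l, hl, e | e⟩ := hL x x.2 (by rw [Subgroup.orderOf_coe, hx])
    · exact Or.inl (isConj_iff.mpr ⟨⟨l, hl⟩, Subtype.ext e⟩)
    · exact Or.inr (isConj_iff.mpr ⟨⟨l, hl⟩, Subtype.ext e⟩)
  have cz : ∀ x : L, IsConj z x ↔ IsConj (⟨z, hzL⟩ : L) x := fun x =>
    ⟨fun h => (hc x (by rw [← Subgroup.orderOf_coe, h9_orderOf_of_isConj h, hz])).resolve_right
      fun h' => hzu (h.trans (L.subtype.map_isConj h').symm), fun h => L.subtype.map_isConj h⟩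
  have cu : ∀ x : L, IsConj u x ↔ IsConj (⟨u, huL⟩ : L) x := fun x =>
    ⟨fun h => (hc x (by rw [← Subgroup.orderOf_coe, h9_orderOf_of_isConj h, hu])).resolve_left
      fun h' => hzu ((L.subtype.map_isConj h').trans h.symm), fun h => L.subtype.map_isConj h⟩
  have key : ∀ x : L, orderOf (x : G) = 2 → centralizer {(x : G)} ≤ L →
      (h9TA z u x).ncard = (h9TA (⟨z, hzL⟩ : L) ⟨u, huL⟩ x).ncard := by
    intro x hx hle
    symm
    have e : ∀ y : L, (x : G) ∈ zpowers (y : G) ↔ x ∈ zpowers y := fun y => by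
      rw [← L.coe_subtype, ← MonoidHom.map_zpowers, mem_map_iff_mem L.subtype_injective]
    refine Set.ncard_congr (fun p _ => (p.1, p.2)) ?_ ?_ ?_
    · rintro p ⟨a, b, c⟩
      exact ⟨(cz _).mpr a, (cu _).mpr b, (e (p.1 * p.2)).mpr c⟩
    · intro p q _ _ e
      exact Prod.ext (Subtype.ext (congrArg Prod.fst e)) (Subtype.ext (congrArg Prod.snd e))
    · intro p hp
      obtain ⟨c1, c2⟩ := h9TA_comm hz hu hx hp
      let a : L := ⟨p.1, hle (mem_centralizer_singleton_iff.mpr c1)⟩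
      let b : L := ⟨p.2, hle (mem_centralizer_singleton_iff.mpr c2)⟩
      exact ⟨(a, b), ⟨(cz a).mp hp.1, (cu b).mp hp.2.1, (e (a * b)).mp hp.2.2⟩, rfl⟩
  have e1 := h9_thompson_order hz hu hzu hcl
  have e2 := h9_thompson_order oz ou (fun h => hzu (L.subtype.map_isConj h)) hc
  rw [card_centralizer_mk, card_centralizer_mk, inf_eq_right.mpr h1, inf_eq_right.mpr h2,
    ← key ⟨z, hzL⟩ hz h1, ← key ⟨u, huL⟩ hu h2, ← e1] at e2
  exact (card_eq_iff_eq_top L).mp e2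

attribute [local irreducible] t ρ σ w ev cl al S0 Q0 K0 E0 L0 H1 tab576

theorem FusP.eq_top [Finite G] {φ : H576 →* G} (H : FusP φ) {n : G} (R : Rel0 φ n)
    {L : Subgroup G} (h1 : φ.range ≤ L) (h2 : n ∈ L) : L = ⊤ := by
  refine eq_top_of_two_classes H.ordt H.orde H.not_conj_e H.two (H.cent ▸ h1)
    (H.centralizer_le R h1 h2) fun x hx ho => ?_
  obtain ⟨S, hS⟩ := H.exists_sylow
  obtain ⟨g, hg⟩ := PC.exists_conj_mem_of_odd_index (φ.range.subgroupOf L) (fun h =>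
    S.not_dvd_index (h.trans ((relIndex_dvd_index_of_le h1).trans
      (index_dvd_of_le (hS ▸ map_le_range φ S0))))) (x := ⟨x, hx⟩)
    (by rw [← Subgroup.orderOf_coe, ho])
  obtain ⟨p, hp⟩ := mem_subgroupOf.mp hg
  have e : x = g * φ p * (g : G)⁻¹ := by rw [hp]; simp [mul_assoc]
  have hb : ∀ b, φ b ∈ L := fun b => h1 ⟨b, rfl⟩
  rcases H.cases (p := p) ((h9_orderOf_of_isConj (isConj_iff.mpr ⟨_, e.symm⟩)).symm.trans ho)
    with rfl | h | h | h
  · exact ⟨g, g.2, Or.inl e.symm⟩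
  · obtain ⟨b, hb'⟩ := cl_two p h
    exact ⟨g * φ b, mul_mem g.2 (hb b), Or.inr (by rw [e, ← map_conj' φ hb']; group)⟩
  · obtain ⟨b, hb'⟩ := cl_three p h
    exact ⟨g * φ b * n, mul_mem (mul_mem g.2 (hb b)) h2,
      Or.inl (by rw [e, ← map_conj' φ hb', ← R.conj_t]; group)⟩
  · obtain ⟨b, hb'⟩ := cl_four p h
    obtain ⟨c, hc⟩ := cl_two (ev 12) cl_vals.2.2.2.2.2.1
    obtain ⟨d, hd⟩ := cl_four (ev 11) cl_vals.2.2.2.2.2.2.2.2.2
    have e1 : n * φ (ev 12) * n⁻¹ = φ (ev 11) := (R.acts 12 (by norm_num)).2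
    refine ⟨g * φ b * (φ d)⁻¹ * n * φ c, mul_mem (mul_mem (mul_mem (mul_mem g.2 (hb b))
      (inv_mem (hb d))) h2) (hb c), Or.inr ?_⟩
    calc _ = g * φ b * (φ d)⁻¹ * (n * (φ c * φ (ev 3) * (φ c)⁻¹) * n⁻¹) * φ d * (φ b)⁻¹ *
          (g : G)⁻¹ := by group
      _ = _ := by rw [map_conj' φ hc, e1, ← map_conj' φ hd, e, ← map_conj' φ hb']; group

/-- the three double cosets -/
def Cell (φ : H576 →* G) (n x : G) : Prop :=
  (∃ a, x = φ a) ∨ (∃ a b, x = φ a * n * φ b) ∨ ∃ a b, x = φ a * (n * φ σ * n) * φ b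

theorem Cell.mul {φ : H576 →* G} {n x : G} (h : Cell φ n x) (c d : H576) :
    Cell φ n (φ c * x * φ d) := by
  rcases h with ⟨a, rfl⟩ | ⟨a, b, rfl⟩ | ⟨a, b, rfl⟩
  · exact Or.inl ⟨c * a * d, by simp⟩
  · exact Or.inr (Or.inl ⟨c * a, b * d, by simp [mul_assoc]⟩)
  · exact Or.inr (Or.inr ⟨c * a, b * d, by simp [mul_assoc]⟩)

namespace RelP

variable {φ : H576 →* G} {n : G} (R : RelP φ n)
include R

theorem move {k : H576} (hk : k ∈ K0) : n * φ k = φ (al k) * n := by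
  rw [← R.alpha hk, mul_assoc _ n n, R.nn, mul_one]

theorem cell_conj (a : H576) : Cell φ n (n * φ a * n) := by
  rcases dcoset_K a with h | ⟨k, hk, h | h⟩
  · exact Or.inl ⟨_, R.alpha h⟩
  · rw [show a = k * w * ((k * w)⁻¹ * a) by group,
      R.dc (c := 1) (by rw [one_mul, R.braid]) hk h]
    exact Or.inr (Or.inl ⟨_, _, rfl⟩)
  · refine Or.inr (Or.inr ⟨al k, al ((k * σ)⁻¹ * a), ?_⟩)
    rw [← R.alpha h, ← R.alpha hk]
    calc _ = n * φ k * φ σ * φ ((k * σ)⁻¹ * a) * n := by simp [mul_assoc]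
      _ = n * φ k * (n * n) * φ σ * (n * n) * φ ((k * σ)⁻¹ * a) * n := by rw [R.nn]; group
      _ = _ := by group

theorem comm_L {k : H576} (hk : k ∈ L0) : Commute (φ k) (n * φ σ * n) := by
  obtain ⟨i, -, j, -, l, -, rfl⟩ := L0_dec k hk
  have e : n * φ σ * n = n * φ σ * n⁻¹ := by rw [R.inv_eq]
  have key : ∀ a, Commute a (φ σ) → Commute (n * a * n⁻¹) (n * φ σ * n) := fun a h => by
    rw [e]
    change _ = _
    calc _ = n * (a * φ σ) * n⁻¹ := by group
      _ = _ := by rw [h.eq]; group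
  have c1 : Commute (φ ρ) (n * φ σ * n) := by
    have := key _ (map_comm' φ rels.2.2.2.2.1.symm)
    rw [R.rho] at this
    exact Commute.inv_left_iff.mp this
  have c2 : Commute (φ (ev 8)) (n * φ σ * n) := R.conj_t ▸ key _ (map_comm' φ (comm_t σ).symm)
  rw [map_mul, map_mul, map_pow, map_pow, map_pow]
  exact ((c1.pow_left i).mul_left (Commute.pow_left R.comm j)).mul_left (c2.pow_left l)

theorem cell_mul {x : G} (h : Cell φ n x) : Cell φ n (n * x) := by
  rcases h with ⟨a, rfl⟩ | ⟨a, b, rfl⟩ | ⟨a, b, rfl⟩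
  · exact Or.inr (Or.inl ⟨1, a, by simp⟩)
  · have := (R.cell_conj a).mul 1 b
    rw [map_one, one_mul] at this
    simpa [mul_assoc] using this
  · obtain ⟨k, hk, h | h⟩ := dcoset_L a
    · refine Or.inr (Or.inl ⟨al k * σ, k⁻¹ * a * b, ?_⟩)
      calc _ = n * φ k * (φ (k⁻¹ * a) * (n * φ σ * n)) * φ b := by simp [mul_assoc]
        _ = φ (al k) * (n * n) * φ σ * n * φ (k⁻¹ * a) * φ b := by
          rw [(R.comm_L h).eq, R.move hk]; group
        _ = _ := by rw [R.nn]; simp [mul_assoc]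
    · have := (R.cell_conj (w * σ)).mul (al k * w) ((k * w)⁻¹ * a * b)
      convert this using 1
      calc _ = n * φ k * φ w * (φ ((k * w)⁻¹ * a) * (n * φ σ * n)) * φ b := by simp [mul_assoc]
        _ = φ (al k) * (n * φ w * n) * φ σ * n * φ ((k * w)⁻¹ * a) * φ b := by
          rw [(R.comm_L h).eq, R.move hk]; group
        _ = _ := by rw [R.braid]; simp [mul_assoc]

theorem cell_of_mem {x : G} (hx : x ∈ closure (Set.range φ ∪ {n})) : Cell φ n x := by
  induction hx using closure_induction_left with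
  | one => exact Or.inl ⟨1, by simp⟩
  | mul_left x hx y _ h =>
    rcases hx with ⟨a, rfl⟩ | rfl
    · simpa using h.mul a 1
    · exact R.cell_mul h
  | inv_mul_cancel x hx y _ h =>
    rcases hx with ⟨a, rfl⟩ | rfl
    · simpa using h.mul a⁻¹ 1
    · rw [R.inv_eq]; exact R.cell_mul h

theorem card_le : Nat.card (closure (Set.range φ ∪ {n})) ≤ 25920 := by
  obtain ⟨X, hX, h12⟩ : ∃ X : Set H576, X.ncard = 12 ∧ ∀ a, ∃ r ∈ X, r⁻¹ * a ∈ K0 :=
    ⟨_, (PC.Tab.cnt_eq _).symm.trans cnt_reps, reps_K⟩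
  have h1 : (closure (Set.range φ ∪ {n}) : Set G) ⊆ φ '' Set.univ ∪
      ((fun p : H576 × H576 => φ p.1 * n * φ p.2) '' (X ×ˢ Set.univ) ∪
      (fun p : H576 × H576 => φ p.1 * (n * φ σ * n) * φ p.2) '' ((Q0 : Set H576) ×ˢ Set.univ)) := by
    intro x hx
    rcases R.cell_of_mem hx with ⟨a, rfl⟩ | ⟨a, b, rfl⟩ | ⟨a, b, rfl⟩
    · exact Or.inl ⟨a, trivial, rfl⟩
    · obtain ⟨r, hr, h⟩ := h12 a
      refine Or.inr (Or.inl ⟨(r, al (r⁻¹ * a) * b), ⟨hr, trivial⟩, ?_⟩)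
      simp only [map_mul φ (al _)]
      rw [← R.alpha h]
      calc _ = φ r * (n * n) * φ (r⁻¹ * a) * n * φ b := by group
        _ = _ := by rw [R.nn]; simp
    · obtain ⟨r, hr, h⟩ := reps_L a
      refine Or.inr (Or.inr ⟨(r, r⁻¹ * a * b), ⟨hr, trivial⟩, ?_⟩)
      simp only [map_mul φ (r⁻¹ * a)]
      rw [← mul_assoc, mul_assoc (φ r), ← (R.comm_L h).eq]
      simp [mul_assoc]
  have h2 := (Set.ncard_le_ncard h1 (Set.toFinite _)).trans ((Set.ncard_union_le _ _).trans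
    (Nat.add_le_add (Set.ncard_image_le (Set.toFinite _)) ((Set.ncard_union_le _ _).trans
    (Nat.add_le_add (Set.ncard_image_le (Set.toFinite _)) (Set.ncard_image_le (Set.toFinite _))))))
  rw [Set.ncard_prod, Set.ncard_prod, hX, Set.ncard_univ, card,
    show (Q0 : Set H576).ncard = 32 from card_Q0] at h2
  exact h2

end RelP

theorem RelP.prod {X : Type*} [Group X] {φ : H576 →* G} {n : G} {ψ : H576 →* X} {m : X}
    (R : RelP φ n) (R' : RelP ψ m) : RelP (φ.prod ψ) (n, m) where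
  nn := Prod.ext R.nn R'.nn
  acts i hi := ⟨(R.acts i hi).1, Prod.ext (R.acts i hi).2 (R'.acts i hi).2⟩
  rho := Prod.ext R.rho R'.rho
  braid := Prod.ext R.braid R'.braid
  comm := Prod.ext R.comm R'.comm

theorem nonempty_equiv_of_relP {X : Type*} [Group X] [Finite G] [Finite X] {φ : H576 →* G}
    {n : G} {ψ : H576 →* X} {m : X} (hφ : Function.Injective φ) (R : RelP φ n)
    (hG : closure (Set.range φ ∪ {n}) = ⊤) (H : HypP ψ) (R' : RelP ψ m)
    (hX : closure (Set.range ψ ∪ {m}) = ⊤) (hc : Nat.card X = 25920) : Nonempty (G ≃* X) := by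
  let D := closure (Set.range (φ.prod ψ) ∪ {(n, m)})
  let θ : H576 →* D := (φ.prod ψ).codRestrict D fun a => subset_closure (Or.inl ⟨a, rfl⟩)
  let ν : D := ⟨(n, m), subset_closure (Or.inr rfl)⟩
  let p1 : D →* G := (MonoidHom.fst G X).comp D.subtype
  let p2 : D →* X := (MonoidHom.snd G X).comp D.subtype
  have s1 : Function.Surjective p1 := by
    rw [← MonoidHom.range_eq_top, eq_top_iff, ← hG, closure_le]
    rintro _ (⟨a, rfl⟩ | rfl)
    exacts [⟨θ a, rfl⟩, ⟨ν, rfl⟩]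
  have s2 : Function.Surjective p2 := by
    rw [← MonoidHom.range_eq_top, eq_top_iff, ← hX, closure_le]
    rintro _ (⟨a, rfl⟩ | rfl)
    exacts [⟨θ a, rfl⟩, ⟨ν, rfl⟩]
  have b2 : Function.Bijective p2 := s2.bijective_of_nat_card_le (hc ▸ (R.prod R').card_le)
  have fix : ∀ x ∈ p1.ker, x * θ t = θ t * x → x = 1 := by
    intro x hx h
    obtain ⟨a, ha⟩ := H.ex (g := p2 x) (by
      have := congrArg p2 h
      rwa [map_mul, map_mul] at this)
    have e : θ a = x := b2.1 ha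
    rw [← e] at hx ⊢
    rw [hφ (show φ a = φ 1 from (MonoidHom.mem_ker.mp hx).trans (map_one φ).symm), map_one]
  have inv : ∀ x ∈ p1.ker, θ t * x * (θ t)⁻¹ = x⁻¹ := by
    intro x hx
    have h1 : MonoidHom.FixedPointFree (MulAut.conjNormal (H := p1.ker) (θ t)) := fun y hy =>
      Subtype.ext (fix y y.2 (mul_inv_eq_iff_eq_mul.mp (congrArg Subtype.val hy)).symm)
    have h2 := h1.coe_eq_inv_of_involutive (fun y => by
      rw [← MulAut.mul_apply, ← map_mul, ← map_mul, ev_vals.2.2.2.2.2.1, map_one, map_one]; rfl)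
    exact congrArg Subtype.val (congrFun h2 ⟨x, hx⟩)
  have inv' : ∀ v, IsConj (θ t) v → ∀ x ∈ p1.ker, v * x * v⁻¹ = x⁻¹ := by
    intro v hv x hx
    obtain ⟨g, rfl⟩ := isConj_iff.mp hv
    calc _ = g * (θ t * (g⁻¹ * x * g) * (θ t)⁻¹) * g⁻¹ := by group
      _ = _ := by rw [inv _ (p1.normal_ker.conj_mem' x hx g)]; group
  have c8 : IsConj (θ t) (θ (ev 8)) :=
    isConj_iff.mpr ⟨ν, Subtype.ext (R.prod R').conj_t⟩
  have i1 : Function.Injective p1 := by
    rw [← MonoidHom.ker_eq_bot_iff, eq_bot_iff]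
    intro x hx
    apply fix x hx
    have e : t = ev 1 * (ev 2 * (ev 4 * ev 8)) := by
      rw [← ev_xor 4 (by norm_num) 8 (by norm_num), ← ev_xor 2 (by norm_num) _ (by decide),
        ← ev_xor 1 (by norm_num) _ (by decide), ← ev_vals.2.1]; rfl
    refine (mul_inv_eq_iff_eq_mul.mp ?_).symm
    calc _ = θ (ev 1) * (θ (ev 2) * (θ (ev 4) * (θ (ev 8) * x * (θ (ev 8))⁻¹) * (θ (ev 4))⁻¹) *
          (θ (ev 2))⁻¹) * (θ (ev 1))⁻¹ := by
          rw [e, map_mul, map_mul, map_mul]; group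
      _ = _ := by
        rw [inv' _ c8 x hx, inv' _ (c8.trans (pconj3 θ cl_vals.2.2.2.2.2.2.2.2.1)) _ (inv_mem hx),
          inv_inv, inv' _ (c8.trans (pconj3 θ cl_vals.2.2.2.2.2.2.2.1)) x hx,
          inv' _ (c8.trans (pconj3 θ cl_vals.2.2.2.2.2.2.1)) _ (inv_mem hx), inv_inv]
  exact ⟨(MulEquiv.ofBijective p1 ⟨i1, s1⟩).symm.trans (MulEquiv.ofBijective p2 b2)⟩

open PC Equiv in
theorem length_mul_le_card {D : Tab} [D.Good] {α : Type*} {n : ℕ} {E : Enc α n} {k : ℕ}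
    [Finite α] (hn : n ≤ 2 ^ k) {K : Subgroup (Perm α)} {C : ℕ}
    {ψ : D.El →* K} (hψ : Function.Injective ψ)
    (hr : ∀ a : D.El, NRep E k (app (k * n) C a.val) (ψ a)) (z : D.El) (hz : ∀ a, a * z = z * a)
    (S S' : List ℕ) (prog : List (ℕ × ℕ)) (hS : ∀ p ∈ S, InH E k K p) {M : ℕ}
    (h : force (app (k * n) C z.val) (fun zc => checkInvs k n S S' &&
      (nodupL (conjRun k n zc S S' prog [zc]) &&
      Nat.beq ((conjRun k n zc S S' prog [zc]).length * D.N) M)) = true) : M ≤ Nat.card K := by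
  simp only [force_eq, Bool.and_eq_true] at h
  obtain ⟨h1, h2, h3⟩ := h
  have hL := conjRun_spec hn (hr z) hS h1 prog (L := [app (k * n) C z.val]) (by
    intro p hp
    rw [List.mem_singleton.mp hp]
    exact ⟨1, K.one_mem, by simpa using hr z⟩)
  have hidx := length_le_index_centralizer (z := ψ z) hL (nodup_of_nodupL h2)
  have hle : ψ.range ≤ centralizer {ψ z} := by
    rintro _ ⟨a, rfl⟩
    rw [mem_centralizer_singleton_iff, ← map_mul, hz, map_mul]
  have hc : Nat.card ψ.range = D.N := by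
    rw [← Nat.card_congr (MonoidHom.ofInjective hψ).toEquiv, Tab.card_El]
  rw [← (centralizer {ψ z}).index_mul_card, ← Nat.eq_of_beq_eq_true h3, ← hc]
  exact Nat.mul_le_mul hidx (card_le_of_le hle)

open PC in
theorem exists_psp_model : ∃ (K : Subgroup (Equiv.Perm (Fin 40))) (ψ : H576 →* K) (m : K),
    Nonempty (PSp 2 (ZMod 3) ≃* K) ∧ HypP ψ ∧ RelP ψ m ∧ closure (Set.range ψ ∪ {m}) = ⊤ ∧
      Nat.card K = 25920 := by
  obtain ⟨K, e, hc, hK⟩ := exists_psp_perm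
  obtain ⟨ψ, h1, h2⟩ := (real576 hK).exists_hom
  obtain ⟨m', hm', hm⟩ := hK _ _ acts_n576
  obtain ⟨m, rfl⟩ : ∃ m : K, (m : Equiv.Perm (Fin 40)) = m' := ⟨⟨m', hm'⟩, rfl⟩
  have hck : force (app (6 * 40) codes576 t.val) (fun zc => checkInvs 6 40 gens40 gens40' &&
      (nodupL (conjRun 6 40 zc gens40 gens40' conj40 [zc]) &&
      Nat.beq ((conjRun 6 40 zc gens40 gens40' conj40 [zc]).length * tab576.N) 25920)) = true := by
    decide +kernel
  have hg : ∀ L : Subgroup K, (∀ a, ψ a ∈ L) → m ∈ L →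
      ∀ p ∈ gens40, InH E40 6 (L.map K.subtype) p := by
    intro L ha hb p hp
    have : gens40 = [app (6 * 40) codes576 ρ.val, app (6 * 40) codes576 σ.val,
      app (6 * 40) codes576 w.val, app (6 * 40) codes576 (ev 8).val, n576] := by decide +kernel
    rw [this] at hp
    simp only [List.mem_cons, List.not_mem_nil, or_false] at hp
    rcases hp with rfl | rfl | rfl | rfl | rfl
    exacts [⟨_, ⟨_, ha _, rfl⟩, (h2 _).1⟩, ⟨_, ⟨_, ha _, rfl⟩, (h2 _).1⟩,
      ⟨_, ⟨_, ha _, rfl⟩, (h2 _).1⟩, ⟨_, ⟨_, ha _, rfl⟩, (h2 _).1⟩, ⟨_, ⟨_, hb, rfl⟩, hm⟩]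
  let L := closure (Set.range ψ ∪ {m})
  have hL1 : ∀ a, ψ a ∈ L := fun a => subset_closure (Or.inl ⟨a, rfl⟩)
  have hL := length_mul_le_card le64 (K := L.map K.subtype)
    (ψ := (K.subtype.comp ψ).codRestrict _ fun a => ⟨_, hL1 a, rfl⟩)
    (fun a b e => h1 (Subtype.ext (by have := congrArg Subtype.val e; exact this))) h2 t comm_t gens40 gens40' conj40
    (hg L hL1 (subset_closure (Or.inr rfl))) hck
  rw [card_map_of_injective K.subtype_injective] at hL
  have hc' : Nat.card K = 25920 := le_antisymm hc (hL.trans (card_le_card_group L))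
  have key : ∀ {p q : ℕ} {g h : K}, NRep E40 6 p g → NRep E40 6 q h → Nat.beq p q = true →
      g = h := fun hp hq e => Subtype.ext ((hp.eq_iff hq).mp e)
  have key2 : ∀ a b : H576, Nat.beq (comp 6 40 n576 (app (6 * 40) codes576 a.val))
      (comp 6 40 (app (6 * 40) codes576 b.val) n576) = true → m * ψ a * m⁻¹ = ψ b :=
    fun a b h => mul_inv_eq_iff_eq_mul.mpr (key (hm.ncomp (h2 a).1) ((h2 b).1.ncomp hm) h)
  refine ⟨K, ψ, m, e, ⟨h1, Tab.range_eq_centralizer le64 h1 h2 t comm_t gens40 gens40' conj40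
    (fun p hp => (hg ⊤ (fun _ => trivial) trivial p hp).mono (map_subtype_le _)) hc' hck⟩,
    ⟨⟨key (hm.ncomp hm) (NRep.one le64) (by decide +kernel), Acts.of_basis (by norm_num)
      (by norm_num) (by norm_num) (by norm_num) (key2 _ _ (by decide +kernel))
      (key2 _ _ (by decide +kernel)) (key2 _ _ (by decide +kernel)) (key2 _ _ (by decide +kernel)),
      (key2 ρ ρ⁻¹ (by decide +kernel)).trans (map_inv ψ ρ)⟩,
      key ((hm.comp (h2 w).1).ncomp hm) (((h2 w).1.comp hm).ncomp (h2 w).1) (by decide +kernel),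
      key ((h2 σ).1.ncomp ((hm.comp (h2 σ).1).comp hm))
        (((hm.comp (h2 σ).1).comp hm).ncomp (h2 σ).1) (by decide +kernel)⟩,
    (card_eq_iff_eq_top L).mp (le_antisymm (card_le_card_group L) (hc' ▸ hL)), hc'⟩

theorem HypP.exists_fus [Finite G] {φ : H576 →* G} (H : HypP φ)
    (hG : ∀ N : Subgroup G, N.index ≠ 2) : ∃ ψ : H576 →* G, FusP ψ := by
  rcases H.conj_or hG with h | h
  · exact ⟨φ, H, h, H.two_classes hG⟩
  · obtain ⟨ψ, H', e1, e2⟩ := H.twist
    exact ⟨ψ, H', by rw [e1, e2]; exact h, H'.two_classes hG⟩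

/-- **Janko's theorem** -/
theorem nonempty_equiv_psp [Finite G] (hG : ∀ N : Subgroup G, N.index ≠ 2) {F : Type*} [Field F]
    [Fintype F] (hF : Fintype.card F = 3) (U : Sylow 2 (PSp 2 F)) {t₀ : PSp 2 F}
    (ht₀ : orderOf t₀ = 2) (ht₀U : t₀ ∈ (U : Subgroup (PSp 2 F)))
    (ht₀c : ∀ u ∈ (U : Subgroup (PSp 2 F)), u * t₀ = t₀ * u) {x : G} (hx : orderOf x = 2)
    (e : centralizer ({x} : Set G) ≃* centralizer ({t₀} : Set (PSp 2 F))) :
    Nonempty (G ≃* PSp 2 F) := by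
  obtain ⟨K, ψ, m, ⟨e1⟩, H, R, hT, hc⟩ := exists_psp_model
  obtain ⟨e2⟩ := nonempty_psp_congr hF
  have e3 := e2.trans e1
  have h1 := H.isConj_of_central (u := e3 t₀) (by rw [e3.orderOf_eq, ht₀])
    (U.mapSurjective (f := e3.toMonoidHom) e3.surjective) ⟨t₀, ht₀U, rfl⟩ (by
      rintro _ ⟨u, hu, rfl⟩
      exact map_comm' e3.toMonoidHom (ht₀c u hu))
  obtain ⟨e4⟩ := PC.nonempty_centralizer_equiv_of_isConj h1
  obtain ⟨e5⟩ := PC.nonempty_centralizer_equiv e3 t₀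
  obtain ⟨φ, hφ, hr⟩ : ∃ φ : H576 →* G, Function.Injective φ ∧ φ.range = centralizer {x} := by
    let e6 := ((MonoidHom.ofInjective H.inj).trans (MulEquiv.subgroupCongr H.cent)).trans
      (e4.trans (e5.symm.trans e.symm))
    refine ⟨(centralizer ({x} : Set G)).subtype.comp e6.toMonoidHom,
      Subtype.val_injective.comp e6.injective, ?_⟩
    ext y
    exact ⟨by rintro ⟨a, rfl⟩; exact (e6 a).2, fun hy =>
      ⟨e6.symm ⟨y, hy⟩, congrArg Subtype.val (e6.apply_symm_apply _)⟩⟩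
  clear e
  obtain ⟨p, rfl⟩ : x ∈ φ.range := hr ▸ mem_centralizer_singleton_iff.mpr rfl
  rcases center_S0 p (fun y _ => hφ (by
    rw [map_mul, map_mul]
    exact mem_centralizer_singleton_iff.mp (hr ▸ ⟨y, rfl⟩))) with rfl | rfl
  · rw [map_one, orderOf_one] at hx
    omega
  · obtain ⟨θ, H'⟩ := HypP.exists_fus ⟨hφ, hr⟩ hG
    obtain ⟨n, R'⟩ := H'.exists_relP
    obtain ⟨e7⟩ := nonempty_equiv_of_relP H'.inj R' (H'.eq_top R'.toRel0
      (by rintro _ ⟨a, rfl⟩; exact subset_closure (Or.inl ⟨a, rfl⟩))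
      (subset_closure (Or.inr rfl))) H R hT hc
    exact ⟨e7.trans e3.symm⟩

end Cfsg.Lib.IC
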