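import Cfsg.Agent.Lib.InvChar.PSp43Facts
import Cfsg.Agent.Lib.InvChar.Basic

/-!
Janko's characterisation of `PSp(4, 3)`: fusion and the normaliser of the elementary abelian
subgroup of order 16.
-/

set_option autoImplicit false

namespace Cfsg.Lib.IC

open Subgroup H576

attribute [local irreducible] t ρ σ w ev cl al S0 Q0 K0 E0 L0 H1 tab576

variable {G : Type*} [Group G]

theorem map_comm' {X : Type*} [Group X] (φ : X →* G) {p q : X} (h : p * q = q * p) :
    φ p * φ q = φ q * φ p := by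
  rw [← map_mul, h, map_mul]

theorem map_conj' {X : Type*} [Group X] (φ : X →* G) {g p q : X} (h : g * p * g⁻¹ = q) :
    φ g * φ p * (φ g)⁻¹ = φ q := by
  rw [← h, map_mul, map_mul, map_inv]

/-- conjugation by `x` induces `f` on the indices of the elementary abelian subgroup -/
def Acts (φ : H576 →* G) (x : G) (f : ℕ → ℕ) : Prop :=
  ∀ i < 16, f i < 16 ∧ x * φ (ev i) * x⁻¹ = φ (ev (f i))

namespace Acts

variable {φ : H576 →* G} {x y : G} {f g : ℕ → ℕ}

theorem mul (hx : Acts φ x f) (hy : Acts φ y g) : Acts φ (x * y) (f ∘ g) := fun i hi =>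
  ⟨(hx _ (hy i hi).1).1, by rw [Function.comp_apply, ← (hx _ (hy i hi).1).2, ← (hy i hi).2]; group⟩

theorem congr (hx : Acts φ x f) (h : ∀ i < 16, f i = g i) : Acts φ x g := fun i hi =>
  h i hi ▸ hx i hi

theorem inv (hx : Acts φ x f) (h : ∀ i < 16, f i < 16 ∧ f (f i) = i) : Acts φ x⁻¹ f := by
  intro i hi
  refine ⟨(h i hi).1, ?_⟩
  nth_rewrite 1 [← (h i hi).2]
  rw [← (hx _ (h i hi).1).2]
  group

theorem of_basis {a b c d : ℕ} (ha : a < 16) (hb : b < 16) (hc : c < 16) (hd : d < 16)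
    (h1 : x * φ (ev 1) * x⁻¹ = φ (ev a)) (h2 : x * φ (ev 2) * x⁻¹ = φ (ev b))
    (h3 : x * φ (ev 4) * x⁻¹ = φ (ev c)) (h4 : x * φ (ev 8) * x⁻¹ = φ (ev d)) :
    Acts φ x (lin a b c d) := by
  have k1 : ∀ u v : ℕ, u < 16 ∧ v < 16 ∧ x * φ (ev u) * x⁻¹ = φ (ev v) → ∀ j : ℕ,
      j % 2 * u < 16 ∧ j % 2 * v < 16 ∧ x * φ (ev (j % 2 * u)) * x⁻¹ = φ (ev (j % 2 * v)) := by
    intro u v h j
    rcases Nat.mod_two_eq_zero_or_one j with e | e <;> rw [e]
    · simp [ev_vals.1]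
    · simpa using h
  have k2 : ∀ u v u' v' : ℕ, u < 16 ∧ v < 16 ∧ x * φ (ev u) * x⁻¹ = φ (ev v) →
      u' < 16 ∧ v' < 16 ∧ x * φ (ev u') * x⁻¹ = φ (ev v') →
      u ^^^ u' < 16 ∧ v ^^^ v' < 16 ∧ x * φ (ev (u ^^^ u')) * x⁻¹ = φ (ev (v ^^^ v')) := by
    intro u v u' v' h h'
    refine ⟨Nat.xor_lt_two_pow (n := 4) h.1 h'.1, Nat.xor_lt_two_pow (n := 4) h.2.1 h'.2.1, ?_⟩
    rw [ev_xor _ h.1 _ h'.1, ev_xor _ h.2.1 _ h'.2.1, map_mul, map_mul, ← h.2.2, ← h'.2.2]
    group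
  intro i hi
  have := k2 _ _ _ _ (k2 _ _ _ _ (k1 1 a ⟨by norm_num, ha, h1⟩ i) (k1 2 b ⟨by norm_num, hb, h2⟩ (i / 2)))
    (k2 _ _ _ _ (k1 4 c ⟨by norm_num, hc, h3⟩ (i / 4)) (k1 8 d ⟨by norm_num, hd, h4⟩ (i / 8)))
  refine ⟨this.2.1, ?_⟩
  nth_rewrite 1 [← lin_id i hi]
  exact this.2.2

theorem mem_normalizer [Finite G] (hx : Acts φ x f) : x ∈ normalizer (E0.map φ : Set G) := by
  refine mem_normalizer_fintype ?_
  rintro _ ⟨p, hp, rfl⟩
  obtain ⟨i, hi, rfl⟩ := mem_E0 p hp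
  exact ⟨_, ev_mem _ (hx i hi).1, (hx i hi).2.symm⟩

end Acts

theorem exists_idx {φ : H576 →* G} {a : G} (ha : a ∈ E0.map φ) : ∃ i < 16, φ (ev i) = a := by
  obtain ⟨p, hp, rfl⟩ := ha
  obtain ⟨i, hi, rfl⟩ := mem_E0 p hp
  exact ⟨i, hi, rfl⟩

theorem ev_mem_map (φ : H576 →* G) {i : ℕ} (hi : i < 16) : φ (ev i) ∈ E0.map φ :=
  mem_map_of_mem φ (ev_mem i hi)

theorem exists_acts {φ : H576 →* G} {x : G}
    (hx : ∀ i < 16, x * φ (ev i) * x⁻¹ ∈ E0.map φ) :
    ∃ a < 16, ∃ b < 16, ∃ c < 16, ∃ d < 16, Acts φ x (lin a b c d) := by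
  obtain ⟨a, ha, h1⟩ := exists_idx (hx 1 (by norm_num))
  obtain ⟨b, hb, h2⟩ := exists_idx (hx 2 (by norm_num))
  obtain ⟨c, hc, h3⟩ := exists_idx (hx 4 (by norm_num))
  obtain ⟨d, hd, h4⟩ := exists_idx (hx 8 (by norm_num))
  exact ⟨a, ha, b, hb, c, hc, d, hd, Acts.of_basis ha hb hc hd h1.symm h2.symm h3.symm h4.symm⟩

theorem conj_mem_E {φ : H576 →* G} {x a : G} (hx : x ∈ normalizer (E0.map φ : Set G))
    (ha : a ∈ E0.map φ) : x * a * x⁻¹ ∈ E0.map φ :=
  (mem_normalizer_iff.mp hx a).mp ha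

theorem comm_E {φ : H576 →* G} {a b : G} (ha : a ∈ E0.map φ) (hb : b ∈ E0.map φ) :
    a * b = b * a := by
  obtain ⟨i, hi, rfl⟩ := exists_idx ha
  obtain ⟨j, hj, rfl⟩ := exists_idx hb
  rw [← map_mul, ← map_mul, ← ev_xor i hi j hj, ← ev_xor j hj i hi, Nat.xor_comm]

theorem sq_E {φ : H576 →* G} {a : G} (ha : a ∈ E0.map φ) : a * a = 1 := by
  obtain ⟨i, hi, rfl⟩ := exists_idx ha
  rw [← map_mul, ← ev_xor i hi i hi, Nat.xor_self, ev_vals.1, map_one]

theorem acts_w (φ : H576 →* G) : Acts φ (φ w) fw :=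
  Acts.of_basis (by norm_num) (by norm_num) (by norm_num) (by norm_num) (map_conj' φ act_w.1)
    (map_conj' φ act_w.2.1) (map_conj' φ act_w.2.2.1) (map_conj' φ act_w.2.2.2)

theorem acts_ρ (φ : H576 →* G) : Acts φ (φ ρ) fr :=
  Acts.of_basis (by norm_num) (by norm_num) (by norm_num) (by norm_num) (map_conj' φ act_ρ.1)
    (map_conj' φ act_ρ.2.1) (map_conj' φ act_ρ.2.2.1) (map_conj' φ act_ρ.2.2.2)

theorem acts_a4 (φ : H576 →* G) {c : ℕ} (hc : c ∈ a4) : ∃ x, Acts φ (φ x) (lc c) := by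
  obtain ⟨x, h1, h2, h3, h4⟩ := exists_of_a4 c hc
  exact ⟨x, Acts.of_basis (PC.app_lt 4 _ _) (PC.app_lt 4 _ _) (PC.app_lt 4 _ _) (PC.app_lt 4 _ _)
    (map_conj' φ h1) (map_conj' φ h2) (map_conj' φ h3) (map_conj' φ h4)⟩

theorem acts_E {φ : H576 →* G} {a : G} (ha : a ∈ E0.map φ) : Acts φ a id := fun i hi =>
  ⟨hi, by rw [comm_E ha (ev_mem_map φ hi), mul_inv_cancel_right]; rfl⟩

theorem pconj2 (φ : H576 →* G) {p : H576} (hp : cl p = 2) : IsConj (φ (ev 3)) (φ p) :=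
  φ.map_isConj (isConj_iff.mpr (cl_two p hp))

theorem pconj3 (φ : H576 →* G) {p : H576} (hp : cl p = 3) : IsConj (φ (ev 8)) (φ p) :=
  φ.map_isConj (isConj_iff.mpr (cl_three p hp))

theorem pconj4 (φ : H576 →* G) {p : H576} (hp : cl p = 4) : IsConj (φ (ev 7)) (φ p) :=
  φ.map_isConj (isConj_iff.mpr (cl_four p hp))

/-- the group of order 576 is the centraliser of the image of its central involution -/
structure HypP (φ : H576 →* G) : Prop where
  inj : Function.Injective φ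
  cent : φ.range = centralizer {φ t}

namespace HypP

variable {φ : H576 →* G} (H : HypP φ)
include H

theorem ex {g : G} (hg : g * φ t = φ t * g) : ∃ p, φ p = g :=
  show g ∈ φ.range from H.cent ▸ mem_centralizer_singleton_iff.mpr hg

theorem ord {p : H576} (hp : cl p ≠ 0) : orderOf (φ p) = 2 := by
  rw [orderOf_injective φ H.inj, h9_orderOf_eq_two_iff]
  exact (cl_sq p hp).symm

theorem ordt : orderOf (φ t) = 2 := H.ord (by rw [cl_vals.2.1]; norm_num)

theorem orde : orderOf (φ (ev 3)) = 2 := H.ord (by rw [cl_vals.2.2.1]; norm_num)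

theorem cases {p : H576} (hp : orderOf (φ p) = 2) : p = t ∨ cl p = 2 ∨ cl p = 3 ∨ cl p = 4 := by
  rw [orderOf_injective φ H.inj, h9_orderOf_eq_two_iff] at hp
  exact (cl_cases p hp.2).resolve_left hp.1

theorem comm_of {p q : H576} (h : φ p * φ q = φ q * φ p) : p * q = q * p :=
  H.inj (by rw [map_mul, h, map_mul])

theorem tr {g u y : G} (hg : g * u * g⁻¹ = φ t) (hy : y * u = u * y) :
    ∃ p, φ p = g * y * g⁻¹ := by
  apply H.ex
  rw [← hg]
  calc _ = g * (y * u) * g⁻¹ := by group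
    _ = _ := by rw [hy]; group

theorem exists_sylow [Finite G] : ∃ S : Sylow 2 G, (S : Subgroup G) = S0.map φ := by
  refine exists_sylow_map H.inj (IsPGroup.of_card (n := 6) card_S0) ?_ fun g hg => ?_
  · have := S0.index_mul_card
    rw [card_S0, card] at this
    omega
  · obtain ⟨p, -, hp⟩ := (mem_normalizer_iff.mp hg _).mp (mem_map_of_mem φ t_mem.1)
    rcases center_S0 p (fun y hy => H.comm_of (by
      rw [hp]
      refine comm_conj_of_mem_normalizer ?_ hg (mem_map_of_mem φ hy)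
      rintro _ ⟨y, -, rfl⟩
      exact map_comm' φ (comm_t y))) with rfl | rfl
    · have := h9_orderOf_of_isConj (isConj_iff.mpr ⟨g, hp.symm⟩)
      rw [map_one, orderOf_one, H.ordt] at this
      omega
    · exact H.ex (mul_inv_eq_iff_eq_mul.mp hp.symm)

theorem isConj_of_central [Finite G] {u : G} (h2 : orderOf u = 2) (P : Sylow 2 G)
    (hP : u ∈ (P : Subgroup G)) (hc : ∀ x ∈ (P : Subgroup G), x * u = u * x) :
    IsConj (φ t) u := by
  obtain ⟨S, hS⟩ := H.exists_sylow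
  obtain ⟨g, rfl⟩ := MulAction.exists_smul_eq G S P
  have h1 : g⁻¹ * u * g ∈ (S : Subgroup G) := sm_mem_sylow_smul.mp hP
  rw [hS] at h1
  obtain ⟨p, -, hp⟩ := h1
  have hu : g * φ p * g⁻¹ = u := by rw [hp]; group
  rcases center_S0 p (fun y hy => H.comm_of (by
    have h3 : g * φ y * g⁻¹ ∈ g • S := sm_mem_sylow_smul.mpr (by
      change _ ∈ (S : Subgroup G)
      rw [hS, show g⁻¹ * (g * φ y * g⁻¹) * g = φ y by group]
      exact mem_map_of_mem φ hy)
    have h4 := hc _ h3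
    rw [hp]
    calc _ = g⁻¹ * (g * φ y * g⁻¹ * u) * g := by group
      _ = _ := by rw [h4]; group)) with rfl | rfl
  · rw [map_one, mul_one, mul_inv_cancel] at hu
    rw [← hu, orderOf_one] at h2
    omega
  · exact isConj_iff.mpr ⟨g, hu⟩

theorem not_bad {x : G} {f : ℕ → ℕ} (hx : Acts φ x f) : ¬ bad f := by
  rintro ⟨h1, h2⟩
  obtain ⟨y, rfl⟩ := H.ex (g := x) (by
    have := (hx 15 (by norm_num)).2
    rw [h1, ev_vals.2.1] at this
    exact mul_inv_eq_iff_eq_mul.mp this)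
  have k : ∀ i < 16, y * ev i * y⁻¹ = ev (f i) := fun i hi => H.inj (by
    rw [map_mul, map_mul, map_inv, (hx i hi).2])
  have k' : ∀ i < 16, y * ev i * y⁻¹ ∈ E0 := fun i hi => k i hi ▸ ev_mem _ (hx i hi).1
  obtain ⟨c, hc, e1, e2, e3, e4⟩ := exists_a4 y (k' 1 (by norm_num)) (k' 2 (by norm_num))
    (k' 4 (by norm_num)) (k' 8 (by norm_num))
  have k'' : ∀ i < 16, ∀ j, y * ev i * y⁻¹ = ev (PC.app 4 c j) → f i = PC.app 4 c j :=
    fun i hi j e => ev_inj _ (hx i hi).1 _ (PC.app_lt 4 _ _) ((k i hi).symm.trans e)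
  exact h2 c hc ⟨k'' 1 (by norm_num) 0 e1, k'' 2 (by norm_num) 1 e2, k'' 4 (by norm_num) 2 e3,
    k'' 8 (by norm_num) 3 e4⟩

theorem mem_E_of_acts {x : G} {f : ℕ → ℕ} (hx : Acts φ x f) (hf : ∀ i < 16, f i = i) :
    x ∈ E0.map φ := by
  have k : ∀ i < 16, x * φ (ev i) = φ (ev i) * x := fun i hi => by
    have := (hx i hi).2
    rw [hf i hi] at this
    exact mul_inv_eq_iff_eq_mul.mp this
  obtain ⟨y, rfl⟩ := H.ex (ev_vals.2.1 ▸ k 15 (by norm_num))
  exact mem_map_of_mem φ (cent_E0 y (H.comm_of (k 1 (by norm_num))) (H.comm_of (k 2 (by norm_num)))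
    (H.comm_of (k 4 (by norm_num))) (H.comm_of (k 8 (by norm_num))))

theorem idx_eq {i j : ℕ} (hi : i < 16) (hj : j < 16) (h : φ (ev i) = φ (ev j)) : i = j :=
  ev_inj i hi j hj (H.inj h)

/-- the normaliser of the elementary abelian subgroup controls fusion to the central
involution -/
theorem toE [Finite G] {a : G} (ha : a ∈ E0.map φ) (hc : IsConj (φ t) a) :
    ∃ y ∈ normalizer (E0.map φ : Set G), y * a * y⁻¹ = φ t := by
  obtain ⟨g, hg⟩ := isConj_iff.mp hc.symm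
  choose q hq using fun i : Fin 16 => H.tr hg (comm_E (ev_mem_map φ i.2) ha)
  have hinj : Function.Injective q := fun i j e => Fin.ext (H.idx_eq i.2 j.2 (by
    have := (hq i).symm.trans ((congrArg φ e).trans (hq j))
    simpa using this))
  have hsq : ∀ i, q i * q i = 1 := fun i => H.inj (by
    rw [map_mul, hq, map_one]
    calc _ = g * (φ (ev i) * φ (ev i)) * g⁻¹ := by group
      _ = _ := by rw [sq_E (ev_mem_map φ i.2)]; group)
  have hcomm : ∀ i j, q i * q j = q j * q i := fun i j => H.comm_of (by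
    rw [hq, hq]
    calc _ = g * (φ (ev i) * φ (ev j)) * g⁻¹ := by group
      _ = _ := by rw [comm_E (ev_mem_map φ i.2) (ev_mem_map φ j.2)]; group)
  by_cases h : ∃ i, cl (q i) = 3 ∨ cl (q i) = 4
  · obtain ⟨i, hi⟩ := h
    have : ∃ k : H576, ∀ j, k⁻¹ * q j * k * ev 8 = ev 8 * (k⁻¹ * q j * k) := by
      rcases hi with hi | hi
      · obtain ⟨k, hk⟩ := cl_three _ hi
        refine ⟨k, fun j => ?_⟩
        calc _ = k⁻¹ * (q j * (k * ev 8 * k⁻¹)) * k := by group
          _ = _ := by rw [hk, hcomm, ← hk]; group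
      · obtain ⟨k, hk⟩ := cl_four _ hi
        refine ⟨k, fun j => ?_⟩
        rw [← ev_vals.2.2.2.2.2.2, ← mul_assoc, mul_assoc (ev 7), ← comm_t, ← mul_assoc (ev 7)]
        congr 1
        calc _ = k⁻¹ * (q j * (k * ev 7 * k⁻¹)) * k := by group
          _ = _ := by rw [hk, hcomm, ← hk]; group
    obtain ⟨k, hk⟩ := this
    refine ⟨(φ k)⁻¹ * g, mem_normalizer_fintype fun b hb => ?_, ?_⟩
    · obtain ⟨j, hj, rfl⟩ := exists_idx hb
      refine ⟨k⁻¹ * q ⟨j, hj⟩ * k, mem_E0_of _ ?_ (hk _), ?_⟩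
      · calc _ = k⁻¹ * (q ⟨j, hj⟩ * q ⟨j, hj⟩) * k := by group
          _ = _ := by rw [hsq]; group
      · rw [map_mul, map_mul, map_inv, hq]; group
    · calc _ = (φ k)⁻¹ * (g * a * g⁻¹) * φ k := by group
        _ = _ := by rw [hg, mul_assoc, ← map_comm' φ (comm_t k)]; group
  · exfalso
    push Not at h
    have h1 : ∃ i, cl (q i) = 2 := by
      by_contra hn
      push Not at hn
      have k : ∀ i, q i = 1 ∨ q i = t := fun i => by
        have := cl_cases _ (hsq i)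
        have := hn i
        have := h i
        tauto
      have e01 : q 0 ≠ q 1 := fun e => absurd (hinj e) (by decide)
      have e02 : q 0 ≠ q 2 := fun e => absurd (hinj e) (by decide)
      have e12 : q 1 ≠ q 2 := fun e => absurd (hinj e) (by decide)
      rcases k 0 with a0 | a0 <;> rcases k 1 with a1 | a1 <;> rcases k 2 with a2 | a2 <;>
        simp_all
    obtain ⟨i, hi⟩ := h1
    have h2 := cnt_two _ hi
    rw [PC.Tab.cnt_eq] at h2
    have h3 := Set.ncard_le_ncard (show Set.range q ⊆ {y | y * y = 1 ∧ y * q i = q i * y ∧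
      cl y ≠ 3 ∧ cl y ≠ 4} by
      rintro _ ⟨j, rfl⟩
      exact ⟨hsq j, hcomm j i, h j⟩)
    rw [Set.ncard_range_of_injective hinj, Nat.card_fin] at h3
    exact absurd (h3.trans_lt h2) (lt_irrefl _)

theorem not_conj_e [Finite G] : ¬ IsConj (φ t) (φ (ev 3)) := by
  intro he
  obtain ⟨y, hy, h1⟩ := H.toE (ev_mem_map φ (by norm_num)) he
  obtain ⟨i, hi, h2⟩ := exists_idx (conj_mem_E hy (ev_vals.2.1 ▸ ev_mem_map φ (i := 15) (by norm_num)))
  have h3 : cl (ev i) = 2 := by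
    rcases H.cases ((h9_orderOf_of_isConj (isConj_iff.mpr ⟨y, h2.symm⟩)).trans H.ordt) with
      h | h | h
    · rw [h] at h2
      have := H.inj (show φ t = φ (ev 3) by simpa using h2.symm.trans h1.symm)
      have h4 := cl_vals.2.1
      rw [this, cl_vals.2.2.1] at h4
      omega
    · exact h
    · obtain ⟨r, r1, r2, r3⟩ := exists_three i hi h
      obtain ⟨r', hr'⟩ := H.ex (g := y⁻¹ * φ r * y) (by
        calc _ = y⁻¹ * (φ r * (y * φ t * y⁻¹)) * y := by group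
          _ = _ := by rw [← h2, map_comm' φ r3, h2]; group)
      have h4 := no_three r' (H.comm_of (by
        rw [hr']
        calc _ = y⁻¹ * (φ r * (y * φ (ev 3) * y⁻¹)) * y := by group
          _ = _ := by rw [h1, map_comm' φ (comm_t r), ← h1]; group)) (H.inj (by
        rw [map_mul, map_mul, hr', map_one]
        calc _ = y⁻¹ * φ (r * r * r) * y := by rw [map_mul, map_mul]; group
          _ = _ := by rw [r2, map_one]; group))
      rw [h4, map_one] at hr'
      refine absurd (H.inj ?_) r1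
      calc φ r = y * (y⁻¹ * φ r * y) * y⁻¹ := by group
        _ = _ := by rw [← hr', map_one]; group
  obtain ⟨x, x1, x2, x3⟩ := exists_w i hi h3
  obtain ⟨a, ha, b, hb, c, hc, d, hd, hx⟩ := exists_acts (φ := φ) (x := y⁻¹ * φ x * y) (by
    intro j hj
    obtain ⟨l, hl, e⟩ := exists_idx (conj_mem_E hy (ev_mem_map φ hj))
    have := conj_mem_E (inv_mem hy) (mem_map_of_mem φ (x3 l hl))
    rw [map_mul, map_mul, map_inv, e] at this
    convert this using 1
    group)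
  have e1 : lin a b c d 3 = 3 := H.idx_eq (hx 3 (by norm_num)).1 (by norm_num) (by
    rw [← (hx 3 (by norm_num)).2]
    calc _ = y⁻¹ * (φ x * (y * φ (ev 3) * y⁻¹) * (φ x)⁻¹) * y := by group
      _ = y⁻¹ * (y * φ (ev 3) * y⁻¹) * y := by
        rw [h1, map_comm' φ (comm_t x), mul_inv_cancel_right]
      _ = _ := by group)
  have e2 : lin a b c d 15 = 12 := H.idx_eq (hx 15 (by norm_num)).1 (by norm_num) (by
    rw [← (hx 15 (by norm_num)).2, ev_vals.2.1]
    calc _ = y⁻¹ * (φ x * (y * φ t * y⁻¹) * (φ x)⁻¹) * y := by group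
      _ = y⁻¹ * (y * φ t * y⁻¹ * (y * φ (ev 3) * y⁻¹)) * y := by
        rw [← h2, map_conj' φ x2, map_mul, h1]
      _ = _ := by rw [ev_vals.2.2.2.1, map_mul]; group)
  have e3 : ∀ i < 16, lin a b c d (lin a b c d i) = i := fun i hi => by
    have := hx.mul hx i hi
    rw [show y⁻¹ * φ x * y * (y⁻¹ * φ x * y) = y⁻¹ * φ (x * x) * y by rw [map_mul]; group, x1,
      map_one, mul_one, inv_mul_cancel, one_mul, inv_one, mul_one] at this
    exact H.idx_eq this.1 hi this.2.symm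
  have hw := acts_w φ
  have hr := acts_ρ φ
  rcases bad_of_e a ha b hb (by simpa [lin] using e1) c hc d hd e2 e3 with h | h | h
  · exact H.not_bad (hx.mul (hw.mul hx)) h
  · exact H.not_bad (hx.mul (hr.mul (hx.mul (hr.mul (hx.mul (hr.mul (hr.mul hx))))))) h
  · exact H.not_bad (hx.mul (hr.mul (hr.mul (hx.mul (hr.mul (hx.mul (hr.mul hx))))))) h

theorem two_classes [Finite G] (hG : ∀ N : Subgroup G, N.index ≠ 2) (x : G)
    (hx : orderOf x = 2) : IsConj (φ t) x ∨ IsConj (φ (ev 3)) x := by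
  obtain ⟨S, hS⟩ := H.exists_sylow
  obtain ⟨g, p, hp, hg⟩ := thompson_transfer' hG S (M := Q0.map φ)
    (hS ▸ relIndex_map_eq_two H.inj Q0_le (by rw [card_S0, card_Q0])) (t := x)
    (by rw [← hx, pow_orderOf_eq_one])
  have hc : IsConj x (φ p) := isConj_iff.mpr ⟨g, hg.symm⟩
  rcases H.cases ((h9_orderOf_of_isConj hc).trans hx) with rfl | h1 | h1 | h1
  · exact Or.inl hc.symm
  · exact Or.inr ((pconj2 φ h1).trans hc.symm)
  · exact absurd h1 (mem_Q0 p hp).1
  · exact absurd h1 (mem_Q0 p hp).2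

theorem conj_or [Finite G] (hG : ∀ N : Subgroup G, N.index ≠ 2) :
    IsConj (φ t) (φ (ev 8)) ∨ IsConj (φ t) (φ (ev 7)) := by
  by_contra hn
  push Not at hn
  have hiso : IsIsolated (φ t) := by
    intro g hg
    obtain ⟨p, hp⟩ := H.ex hg.eq.symm
    have hc : IsConj (φ t) (φ p) := isConj_iff.mpr ⟨g, hp.symm⟩
    rcases H.cases ((h9_orderOf_of_isConj hc).trans H.ordt) with rfl | h1 | h1 | h1
    · exact hp.symm
    · exact absurd (hc.trans (pconj2 φ h1).symm) H.not_conj_e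
    · exact absurd (hc.trans (pconj3 φ h1).symm) hn.1
    · exact absurd (hc.trans (pconj4 φ h1).symm) hn.2
  have t2 : φ t * φ t = 1 := (h9_orderOf_eq_two_iff.mp H.ordt).2
  obtain ⟨g, hg⟩ := isConj_iff.mp ((H.two_classes hG _ (H.ord (p := ev 8)
    (by rw [cl_vals.2.2.2.1]; norm_num))).resolve_left hn.1).symm
  have h1 := hiso.oddConj (by rw [pow_two, t2]) g
  obtain ⟨j, hj⟩ := exists_conj_of_odd (by rw [pow_two, t2]) (by
    rw [conj_pow, pow_two, t2]; group) h1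
  have h2 : (φ t * (g * φ t * g⁻¹)) ^ j * φ (ev 3) = φ (ev 3) * (φ t * (g * φ t * g⁻¹)) ^ j := by
    refine (Commute.zpow_left (Commute.mul_left (map_comm' φ (comm_t _).symm) ?_) j).eq
    change _ = _
    rw [← hg]
    calc _ = g * (φ t * φ (ev 8)) * g⁻¹ := by group
      _ = _ := by rw [← map_comm' φ (comm_t _)]; group
  generalize (φ t * (g * φ t * g⁻¹)) ^ j = c at hj h2
  obtain ⟨p, hp⟩ := H.ex (g := c * g) (by
    refine mul_inv_eq_iff_eq_mul.mp (Eq.trans ?_ hj)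
    group)
  refine (not_conj p).1 (H.inj ?_)
  rw [map_mul, map_mul, map_inv, hp]
  calc _ = c * (g * φ (ev 8) * g⁻¹) * c⁻¹ := by group
    _ = _ := by rw [hg, h2, mul_inv_cancel_right]

end HypP

theorem index_H1 : H1.index = 2 := by
  have := H1.index_mul_card
  rw [card_H1, card] at this
  exact Nat.eq_of_mul_eq_mul_right (by norm_num : 0 < 288) this

theorem exists_twist {X : Type*} [Group X] {K : Subgroup X} (hK : K.index = 2) {z : X}
    (hz : z ∈ K) (hc : ∀ x, x * z = z * x) (h2 : z * z = 1) : ∃ τ : X →* X,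
    (∀ x, τ (τ x) = x) ∧ (∀ x ∈ K, τ x = x) ∧ ∀ x ∉ K, τ x = x * z := by
  classical
  refine ⟨MonoidHom.mk' (fun x => if x ∈ K then x else x * z) fun x y => ?_, fun x => ?_,
    fun x hx => if_pos hx, fun x hx => if_neg hx⟩
  · have h := mul_mem_iff_of_index_two (a := x) (b := y) hK
    by_cases hx : x ∈ K <;> by_cases hy : y ∈ K
    · rw [if_pos hx, if_pos hy, if_pos (mul_mem hx hy)]
    · rw [if_pos hx, if_neg hy, if_neg (by tauto), mul_assoc]
    · rw [if_neg hx, if_pos hy, if_neg (by tauto), mul_assoc, hc y, mul_assoc]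
    · rw [if_neg hx, if_neg hy, if_pos (by tauto), hc y, mul_assoc, ← mul_assoc z, h2, one_mul]
  · simp only [MonoidHom.mk'_apply]
    by_cases hx : x ∈ K
    · simp only [if_pos hx]
    · simp only [if_neg hx]
      rw [if_neg ((Subgroup.mul_mem_cancel_right K hz).not.mpr hx), mul_assoc, h2, mul_one]

/-- the automorphism interchanging the two outer classes -/
theorem HypP.twist {φ : H576 →* G} (H : HypP φ) : ∃ ψ : H576 →* G, HypP ψ ∧ ψ t = φ t ∧
    ψ (ev 8) = φ (ev 7) := by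
  obtain ⟨τ, h1, h2, h3⟩ := exists_twist index_H1 t_mem.2.1 comm_t ev_vals.2.2.2.2.2.1
  have e1 := h2 t t_mem.2.1
  refine ⟨φ.comp τ, ⟨H.inj.comp (Function.LeftInverse.injective h1), ?_⟩, congrArg φ e1,
    congrArg φ ((h3 _ t_mem.2.2.1).trans ev_vals.2.2.1.symm)⟩
  rw [MonoidHom.comp_apply, e1, ← H.cent, MonoidHom.range_comp, MonoidHom.range_eq_top.mpr
    (Function.RightInverse.surjective h1), MonoidHom.range_eq_map]

end Cfsg.Lib.IC
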