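import Cfsg.Agent.Lib.InvChar.PSp43Main

/-!
Janko's characterisation of `PSp(4, 3)`: generators and relations.
-/

set_option autoImplicit false

namespace Cfsg.Lib.IC

open Subgroup H576

attribute [local irreducible] t ρ σ w ev cl al S0 Q0 K0 E0 L0 H1 tab576

variable {G : Type*} [Group G]

/-- an involution normalising the centraliser of the four-group `⟨t, ev 8⟩` -/
structure Rel0 (φ : H576 →* G) (n : G) : Prop where
  nn : n * n = 1
  acts : Acts φ n fn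
  rho : n * φ ρ * n⁻¹ = (φ ρ)⁻¹

theorem Rel0.inv_eq {φ : H576 →* G} {n : G} (R : Rel0 φ n) : n⁻¹ = n :=
  inv_eq_of_mul_eq_one_right R.nn

theorem Rel0.alpha {φ : H576 →* G} {n : G} (R : Rel0 φ n) {k : H576} (hk : k ∈ K0) :
    n * φ k * n = φ (al k) := by
  obtain ⟨i, hi, j, -, e1, e2⟩ := K0_dec k hk
  rw [e2, e1, map_mul, map_mul, map_pow, map_pow, map_inv, ← R.rho, ← (R.acts i hi).2, conj_pow]
  nth_rewrite 2 [← R.inv_eq]
  group

theorem Rel0.conj_t {φ : H576 →* G} {n : G} (R : Rel0 φ n) : n * φ t * n⁻¹ = φ (ev 8) :=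
  ev_vals.2.1 ▸ (R.acts 15 (by norm_num)).2

theorem Rel0.conj_b {φ : H576 →* G} {n : G} (R : Rel0 φ n) : n * φ (ev 8) * n⁻¹ = φ t :=
  ev_vals.2.1 ▸ (R.acts 8 (by norm_num)).2

theorem Rel0.dc {φ : H576 →* G} {n : G} (R : Rel0 φ n) {c : H576}
    (h : n * φ w * n = φ (c * w) * n * φ w) {k₁ k₂ : H576} (h1 : k₁ ∈ K0) (h2 : k₂ ∈ K0) :
    n * φ (k₁ * w * k₂) * n = φ (al k₁ * (c * w)) * n * φ (w * al k₂) := by
  rw [map_mul φ (al k₁), map_mul φ w, ← R.alpha h1, ← R.alpha h2, map_mul, map_mul]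
  calc _ = n * φ k₁ * (n * n) * φ w * (n * n) * φ k₂ * n := by rw [R.nn]; group
    _ = n * φ k₁ * n * (n * φ w * n) * (n * φ k₂ * n) := by group
    _ = _ := by rw [h]; group

/-- the defining relations -/
structure RelP (φ : H576 →* G) (n : G) : Prop extends Rel0 φ n where
  braid : n * φ w * n = φ w * n * φ w
  comm : φ σ * (n * φ σ * n) = n * φ σ * n * φ σ

/-- the fusion pattern -/
structure FusP (φ : H576 →* G) : Prop extends HypP φ where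
  tb : IsConj (φ t) (φ (ev 8))
  two : ∀ x : G, orderOf x = 2 → IsConj (φ t) x ∨ IsConj (φ (ev 3)) x

namespace FusP

variable [Finite G] {φ : H576 →* G} (H : FusP φ)
include H

theorem not_conj_g : ¬ IsConj (φ t) (φ (ev 7)) := by
  intro hg
  obtain ⟨y, hy, h1⟩ := H.toE (ev_mem_map φ (by norm_num)) H.tb
  have key : ∀ i < 16, cl (ev i) = 2 → ∃ j < 16, cl (ev j) = 2 ∧ φ (ev j) = y⁻¹ * φ (ev i) * y := by
    intro i hi h2
    obtain ⟨j, hj, e⟩ := exists_idx (conj_mem_E (inv_mem hy) (ev_mem_map φ hi))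
    have hc : IsConj (φ (ev 3)) (φ (ev j)) := (pconj2 φ h2).trans (isConj_iff.mpr ⟨_, e.symm⟩)
    refine ⟨j, hj, ?_, by rw [e, inv_inv]⟩
    rcases H.cases ((h9_orderOf_of_isConj hc).trans H.orde) with h | h | h | h
    · exact absurd (h ▸ hc).symm H.not_conj_e
    · exact h
    · exact absurd ((H.tb.trans (pconj3 φ h)).trans hc.symm) H.not_conj_e
    · exact absurd ((hg.trans (pconj4 φ h)).trans hc.symm) H.not_conj_e
  obtain ⟨i, hi, i2, e1⟩ := key 3 (by norm_num) cl_vals.2.2.1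
  obtain ⟨j, hj, j2, e2⟩ := key 12 (by norm_num) cl_vals.2.2.2.2.2.1
  refine two_mul_ne i hi j hj i2 j2 (H.inj ?_)
  rw [map_mul, e1, e2]
  calc _ = y⁻¹ * φ (ev 3 * ev 12) * y := by rw [map_mul]; group
    _ = _ := by rw [← ev_vals.2.2.2.2.1, ← h1]; group

theorem zcl (p : H576) : IsConj (φ t) (φ p) ↔ cl p = 1 ∨ cl p = 3 := by
  constructor
  · intro hc
    rcases H.cases ((h9_orderOf_of_isConj hc).trans H.ordt) with rfl | hp | hp | hp
    · exact Or.inl cl_vals.2.1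
    · exact absurd (hc.trans (pconj2 φ hp).symm) H.not_conj_e
    · exact Or.inr hp
    · exact absurd (hc.trans (pconj4 φ hp).symm) H.not_conj_g
  · rintro (hp | hp)
    · rw [(cl_one p).mp hp]
    · exact H.tb.trans (pconj3 φ hp)

theorem ecl {p : H576} (hc : IsConj (φ (ev 3)) (φ p)) : cl p = 2 ∨ cl p = 4 := by
  have : ¬ IsConj (φ t) (φ p) := fun h => H.not_conj_e (h.trans hc.symm)
  rw [H.zcl] at this
  rcases H.cases ((h9_orderOf_of_isConj hc).trans H.orde) with rfl | hp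
  · exact absurd (Or.inl cl_vals.2.1) this
  · tauto

theorem exists_n0 : ∃ y, Acts φ y fn := by
  obtain ⟨y, hy, h1⟩ := H.toE (ev_mem_map φ (by norm_num)) H.tb
  have key : ∀ i < 16, cl (ev i) = 3 → ∃ j < 16, (cl (ev j) = 1 ∨ cl (ev j) = 3) ∧
      y * φ (ev i) * y⁻¹ = φ (ev j) := by
    intro i hi h3
    obtain ⟨j, hj, e⟩ := exists_idx (conj_mem_E hy (ev_mem_map φ hi))
    exact ⟨j, hj, (H.zcl _).mp ((H.tb.trans (pconj3 φ h3)).trans (isConj_iff.mpr ⟨_, e.symm⟩)),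
      e.symm⟩
  obtain ⟨a, ha, a1, a2⟩ := key 1 (by norm_num) cl_vals.2.2.2.2.2.2.1
  obtain ⟨b, hb, b1, b2⟩ := key 2 (by norm_num) cl_vals.2.2.2.2.2.2.2.1
  obtain ⟨c, hc, c1, c2⟩ := key 4 (by norm_num) cl_vals.2.2.2.2.2.2.2.2.1
  have hx := Acts.of_basis ha hb hc (by norm_num : 15 < 16) a2 b2 c2 (ev_vals.2.1 ▸ h1)
  obtain ⟨p, hp, q, hq, h⟩ := frame a ha a1 b hb b1 c hc c1 (fun i hi e => by
    have := (hx i hi).2
    rw [e, ev_vals.1, map_one, conj_eq_one_iff, ← map_one φ, ← ev_vals.1] at this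
    exact H.idx_eq hi (by norm_num) this)
  obtain ⟨x1, h1⟩ := acts_a4 φ hp
  obtain ⟨x2, h2⟩ := acts_a4 φ hq
  have h3 := h1.mul (hx.mul h2)
  rcases h with h | h
  · exact ⟨_, h3.congr h⟩
  · have h4 := h3.congr h
    have hw := acts_w φ
    exact absurd bad_transp (H.not_bad (h4.mul (hw.mul (h4.mul (hw.mul (h4.mul hw))))))

theorem exists_rel0 : ∃ n, Rel0 φ n := by
  obtain ⟨y, hy⟩ := H.exists_n0
  have r3 : φ ρ * φ ρ * φ ρ = 1 := by rw [← map_mul, ← map_mul, rels.1, map_one]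
  obtain ⟨i, hi, e1⟩ := exists_idx (H.mem_E_of_acts
    (hy.mul ((acts_ρ φ).mul ((hy.inv fn_facts.1).mul (acts_ρ φ)))) fn_facts.2.1)
  have e2 : φ (ev i * ρ⁻¹) = y * φ ρ * y⁻¹ := by rw [map_mul, e1, map_inv]; group
  obtain ⟨j, hj, e3⟩ := conj_rho i hi (H.inj (by
    rw [map_mul, map_mul, e2, map_one]
    calc _ = y * (φ ρ * φ ρ * φ ρ) * y⁻¹ := by group
      _ = _ := by rw [r3]; group))
  have h1 : Acts φ (φ (ev j) * y) fn := (acts_E (ev_mem_map φ hj)).mul hy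
  have h2 : φ (ev j) * y * φ ρ * (φ (ev j) * y)⁻¹ = (φ ρ)⁻¹ := by
    rw [← map_inv φ ρ, ← map_conj' φ e3, e2]; group
  generalize φ (ev j) * y = n at h1 h2
  obtain ⟨l, hl, e4⟩ := exists_idx (H.mem_E_of_acts (h1.mul h1) fun i hi => (fn_facts.1 i hi).2)
  rcases fn_facts.2.2.2.2 l hl (H.idx_eq (h1 l hl).1 hl (by rw [← (h1 l hl).2, e4]; group))
    (H.comm_of (by
      rw [e4]
      refine mul_inv_eq_iff_eq_mul.mp ?_
      calc _ = n * (n * φ ρ * n⁻¹) * n⁻¹ := by group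
        _ = (n * φ ρ * n⁻¹)⁻¹ := by nth_rewrite 1 [h2]; group
        _ = _ := by rw [h2, inv_inv])) with rfl | rfl
  · exact ⟨n, by rw [← e4, ev_vals.1, map_one], h1, h2⟩
  · refine ⟨n * φ t, ?_, h1.mul (acts_E (ev_vals.2.1 ▸ ev_mem_map φ (i := 15) (by norm_num))), ?_⟩
    · have h3 : n * φ t * n⁻¹ = φ (ev 8) := ev_vals.2.1 ▸ (h1 15 (by norm_num)).2
      calc _ = n * φ t * n⁻¹ * (n * n) * φ t := by group
        _ = _ := by
          rw [h3, ← e4, mul_assoc, ← map_mul, ev_vals.2.2.2.2.2.2, ← map_mul,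
            rels.2.2.2.2.2.2.2.2.2.2.2, map_one]
    · rw [← h2, mul_assoc n, ← map_comm' φ (comm_t ρ)]; group

theorem braid {n : G} (R : Rel0 φ n) : n * φ w * n = φ w * n * φ w := by
  have hw := acts_w φ
  have w2 : φ w * φ w = 1 := by rw [← map_mul, rels.2.2.1, map_one]
  have wi : (φ w)⁻¹ = φ w := inv_eq_of_mul_eq_one_right w2
  obtain ⟨l, hl, e⟩ := exists_idx (H.mem_E_of_acts
    (R.acts.mul (hw.mul (R.acts.mul (hw.mul (R.acts.mul hw))))) fn_facts.2.2.1)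
  have ei : (φ (ev l))⁻¹ = φ (ev l) := inv_eq_of_mul_eq_one_right (sq_E (ev_mem_map φ hl))
  have h1 : n * φ w * n = φ (ev l * w) * n * φ w := by
    rw [map_mul, e]
    calc _ = n * φ w * n * (φ w * (n * (φ w * φ w) * n) * φ w) := by
          rw [w2, mul_one, R.nn, mul_one, w2, mul_one]
      _ = _ := by group
  rcases fn_facts.2.2.2.1 l hl (H.idx_eq (R.acts l hl).1 hl (by
      rw [← (R.acts l hl).2]
      nth_rewrite 2 [← ei]
      rw [e]
      simp only [mul_inv_rev, R.inv_eq, wi]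
      calc _ = n * n * (φ w * n * φ w * n * φ w * n) := by group
        _ = _ := by rw [R.nn]; group)) (H.idx_eq (hw l hl).1 hl (by
      rw [← (hw l hl).2]
      nth_rewrite 2 [← ei]
      rw [e]
      simp only [mul_inv_rev, R.inv_eq, wi]
      calc _ = φ w * n * φ w * n * φ w * n * (φ w * φ w) := by group
        _ = _ := by rw [w2]; group)) with rfl | rfl
  · rw [h1, ev_vals.1, one_mul]
  · exfalso
    obtain ⟨k₁, k₂, c1, c2, c3, c4, c5⟩ := wrong_braid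
    have hr : ρ ∈ K0 := rels.2.2.2.2.2.2.2.2.1
    have d1 := R.dc h1 hr (inv_mem hr)
    have d2 := R.dc h1 (inv_mem hr) hr
    have d3 := R.dc h1 c1 c2
    have d4 := R.alpha c4
    rw [rels.2.2.2.2.2.2.2.2.2.1, rels.2.2.2.2.2.2.2.2.2.2.1] at d1 d2
    refine c5 (H.inj ?_)
    rw [map_mul, map_mul, ← d4, map_one]
    calc _ = φ (ev 3 * w) * (φ (al k₁ * (ev 3 * w)) * n * φ (w * al k₂)) * φ (w * ρ) *
          φ (ρ * (ev 3 * w)) * n * φ (w * ρ⁻¹) := by simp only [map_mul, mul_assoc]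
      _ = φ (ev 3 * w) * n * φ w * (φ (ρ⁻¹ * (ev 3 * w)) * n * φ (w * ρ)) *
          (φ (ρ * (ev 3 * w)) * n * φ (w * ρ⁻¹)) := by
        rw [← d3, ← c3]; simp only [map_mul, mul_assoc]
      _ = n * φ w * (n * n) * φ (ρ * w * ρ⁻¹) * (n * n) * φ (ρ⁻¹ * w * ρ) * n := by
        rw [← d1, ← d2, ← h1]; simp only [mul_assoc]
      _ = 1 := by
        rw [R.nn, mul_one, mul_one, mul_assoc n, mul_assoc n, ← map_mul, ← map_mul,
          rels.2.2.2.2.2.2.2.1, map_one, mul_one, R.nn]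

theorem mem_E_of_comm {a z y : G} (ha : IsConj (φ t) a) (hz : z ∈ E0.map φ)
    (hz' : IsConj (φ t) z) (hy : y ∈ E0.map φ) (hy' : IsConj (φ (ev 3)) y) (h1 : a * z = z * a)
    (h2 : a * y = y * a) : a ∈ E0.map φ := by
  obtain ⟨p, hp, e⟩ := H.toE hz hz'
  obtain ⟨x, hx⟩ := H.tr e h1
  obtain ⟨i, hi, e2⟩ := exists_idx (conj_mem_E hp hy)
  have h3 := mem_E0_of_comm i hi (H.ecl (hy'.trans (isConj_iff.mpr ⟨p, e2.symm⟩))) x
    ((H.zcl x).mp (ha.trans (isConj_iff.mpr ⟨p, hx.symm⟩))) (H.comm_of (by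
      rw [hx, e2]
      calc _ = p * (a * y) * p⁻¹ := by group
        _ = _ := by rw [h2]; group))
  have h4 := conj_mem_E (inv_mem hp) (mem_map_of_mem φ h3)
  rw [hx] at h4
  convert h4 using 1
  group

theorem sq {a : G} (ha : IsConj (φ t) a) : a * a = 1 :=
  (h9_orderOf_eq_two_iff.mp ((h9_orderOf_of_isConj ha).trans H.ordt)).2

theorem mem_E_aux {a : G} (ha : IsConj (φ t) a) (hu : a * φ (ev 3) = φ (ev 3) * a)
    (h : ∀ j, j = 4 ∨ j = 8 → ∀ c, c * φ (ev 3) = φ (ev 3) * c → c * φ (ev j) * c⁻¹ ≠ a) :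
    a ∈ E0.map φ := by
  have h3 := ev_mem_map φ (i := 3) (by norm_num)
  have key : ∀ j, j = 4 ∨ j = 8 → ∃ l < 16, (cl (ev l) = 1 ∨ cl (ev l) = 3) ∧ l ≠ j ∧
      Commute a (φ (ev (j ^^^ l))) := by
    intro j hj
    have hj' : j < 16 := by omega
    have hv := ev_mem_map φ hj'
    have hz : IsConj (φ t) (φ (ev j)) := (H.zcl _).mpr (Or.inr (by
      rcases hj with rfl | rfl
      exacts [cl_vals.2.2.2.2.2.2.2.2.1, cl_vals.2.2.2.1]))
    have hc : Commute (φ (ev j) * a) (φ (ev 3)) := Commute.mul_left (comm_E hv h3) hu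
    rcases Nat.even_or_odd (orderOf (φ (ev j) * a)) with he | ho
    · obtain ⟨m, -, h2, h4, h5⟩ := h9_central_invol_of_even (H.sq hz) (H.sq ha) he
      have h6 := h9_orderOf_eq_two_iff.mp h2
      have h7 := isConj_mul_of_mem_zpowers (H.sq hz) (H.sq ha) (npow_mem_zpowers _ m) h6.2
      have h8 := hc.pow_left m
      generalize (φ (ev j) * a) ^ m = c at *
      have h9 : IsConj (φ t) (φ (ev j) * c) := h7.elim hz.trans fun h => ha.trans h.1
      obtain ⟨l, hl, e⟩ := exists_idx (H.mem_E_of_comm h9 hv hz h3 (IsConj.refl _)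
        (by rw [mul_assoc, h4.eq]) (Commute.mul_left (comm_E hv h3) h8).eq)
      refine ⟨l, hl, (H.zcl _).mp (e ▸ h9), ?_, ?_⟩
      · rintro rfl
        exact h6.1 (by simpa using e.symm)
      · rw [ev_xor j hj' l hl, map_mul, e, ← mul_assoc, H.sq hz, one_mul]
        exact h5.symm
    · obtain ⟨k, hk⟩ := h9_conj_of_odd (H.sq hz) (H.sq ha) ho
      exact absurd hk (h j hj _ (hc.pow_left k).eq)
  obtain ⟨l, hl, l1, l2, l3⟩ := key 4 (Or.inl rfl)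
  obtain ⟨m, hm, m1, m2, m3⟩ := key 8 (Or.inr rfl)
  have x1 : ∀ i j, i < 16 ∧ Commute a (φ (ev i)) → j < 16 ∧ Commute a (φ (ev j)) →
      i ^^^ j < 16 ∧ Commute a (φ (ev (i ^^^ j))) := fun i j hi hj =>
    ⟨Nat.xor_lt_two_pow (n := 4) hi.1 hj.1, by
      rw [ev_xor i hi.1 j hj.1, map_mul]; exact hi.2.mul_right hj.2⟩
  have x2 : ∀ i, i = 15 ∨ i = 8 ∨ i = 4 → i < 16 ∧ Commute a (φ (ev i)) → a ∈ E0.map φ :=
    fun i hi h1 => H.mem_E_of_comm ha (ev_mem_map φ h1.1) ((H.zcl _).mpr (by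
      rcases hi with rfl | rfl | rfl
      exacts [Or.inl (ev_vals.2.1 ▸ cl_vals.2.1), Or.inr cl_vals.2.2.2.1,
        Or.inr cl_vals.2.2.2.2.2.2.2.2.1])) h3 (IsConj.refl _) h1.2.eq hu
  have y1 : 4 ^^^ l < 16 ∧ _ := ⟨Nat.xor_lt_two_pow (n := 4) (by norm_num) hl, l3⟩
  have y2 : 8 ^^^ m < 16 ∧ _ := ⟨Nat.xor_lt_two_pow (n := 4) (by norm_num) hm, m3⟩
  have y3 : 3 < 16 ∧ Commute a (φ (ev 3)) := ⟨by norm_num, hu⟩
  rcases span_z l hl l1 l2 m hm m1 m2 with e | e | e | e | e | e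
  · exact x2 _ (Or.inl e) (x1 _ _ y1 y3)
  · exact x2 _ (Or.inr (Or.inl e)) (x1 _ _ y1 y3)
  · exact x2 _ (Or.inl e) (x1 _ _ y2 y3)
  · exact x2 _ (Or.inr (Or.inr e)) (x1 _ _ y2 y3)
  · exact x2 _ (Or.inl e) (x1 _ _ y1 y2)
  · exact x2 _ (Or.inl e) (x1 _ _ (x1 _ _ y1 y2) y3)

theorem mem_E {a : G} (ha : IsConj (φ t) a) (hu : a * φ (ev 3) = φ (ev 3) * a) :
    a ∈ E0.map φ := by
  by_contra hn
  refine hn (H.mem_E_aux ha hu fun j hj c hc e => hn ?_)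
  have h1 := ev_mem_map φ (i := 1) (by norm_num)
  have h3 := ev_mem_map φ (i := 3) (by norm_num)
  have z1 : IsConj (φ t) (φ (ev 1)) := (H.zcl _).mpr (Or.inr cl_vals.2.2.2.2.2.2.1)
  have hc' : Commute c (φ (ev 3)) := hc
  have h4 : c⁻¹ * φ (ev 1) * c ∈ E0.map φ := by
    refine H.mem_E_aux (z1.trans (isConj_iff.mpr ⟨c⁻¹, by rw [inv_inv]⟩))
      ((hc'.inv_left.mul_left (comm_E h1 h3)).mul_left hc').eq fun i hi d hd e' => ?_
    have h5 : IsConj (φ (ev (i ^^^ 3))) (φ (ev 2)) := by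
      refine isConj_iff.mpr ⟨c * d, ?_⟩
      rw [ev_xor i (by omega) 3 (by norm_num), show 2 = 1 ^^^ 3 from rfl,
        ev_xor 1 (by norm_num) 3 (by norm_num), map_mul, map_mul]
      calc _ = c * (d * φ (ev i) * d⁻¹) * (d * φ (ev 3) * d⁻¹) * c⁻¹ := by group
        _ = φ (ev 1) * (c * φ (ev 3) * c⁻¹) := by rw [e', hd]; group
        _ = _ := by rw [hc, mul_inv_cancel_right]
    have h6 := (H.zcl _).mp (((H.zcl _).mpr (Or.inr cl_vals.2.2.2.2.2.2.2.1)).trans h5.symm)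
    rcases hi with rfl | rfl
    · rw [show 4 ^^^ 3 = 7 from rfl, cl_vals.2.2.2.2.1] at h6; omega
    · rw [show 8 ^^^ 3 = 11 from rfl, cl_vals.2.2.2.2.2.2.2.2.2] at h6; omega
  refine H.mem_E_of_comm ha h1 z1 h3 (IsConj.refl _) ?_ hu
  rw [← e]
  calc _ = c * (φ (ev j) * (c⁻¹ * φ (ev 1) * c)) * c⁻¹ := by group
    _ = _ := by rw [comm_E (ev_mem_map φ (by omega)) h4]; group

theorem comm_of_even {x y : G} (hx : IsConj (φ t) x) (hy : IsConj (φ t) y)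
    (he : Even (orderOf (x * y))) : x * y = y * x := by
  obtain ⟨m, -, h2, h4, h5⟩ := h9_central_invol_of_even (H.sq hx) (H.sq hy) he
  have h7 := isConj_mul_of_mem_zpowers (H.sq hx) (H.sq hy) (npow_mem_zpowers _ m)
    (h9_orderOf_eq_two_iff.mp h2).2
  generalize (x * y) ^ m = c at *
  rcases H.two c h2 with hc | hc
  · obtain ⟨g, hg⟩ := isConj_iff.mp hx.symm
    obtain ⟨p, hp⟩ := H.tr hg h4.eq
    have h8 := cl_mul_t p ((H.zcl p).mp (hc.trans (isConj_iff.mpr ⟨g, hp.symm⟩)))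
    have h9 := (H.zcl (t * p)).mp ((h7.elim hx.trans fun h => hy.trans h.1).trans
      (isConj_iff.mpr ⟨g, by rw [map_mul, hp, ← hg]; group⟩))
    omega
  · obtain ⟨g, hg⟩ := isConj_iff.mp hc.symm
    have key : ∀ a, IsConj (φ t) a → Commute c a → g * a * g⁻¹ ∈ E0.map φ := fun a ha h =>
      H.mem_E (ha.trans (isConj_iff.mpr ⟨g, rfl⟩)) (by
        rw [← hg]
        calc _ = g * (a * c) * g⁻¹ := by group
          _ = _ := by rw [← h.eq]; group)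
    have := comm_E (key x hx h4) (key y hy h5)
    calc _ = g⁻¹ * (g * x * g⁻¹ * (g * y * g⁻¹)) * g := by group
      _ = _ := by rw [this]; group

theorem comm {n : G} (R : Rel0 φ n) : φ σ * (n * φ σ * n) = n * φ σ * n * φ σ := by
  have e1 : φ σ * φ (ev 8) * (φ σ)⁻¹ = (φ σ)⁻¹ * φ (ev 8) := by
    rw [map_conj' φ rels.2.2.2.2.2.2.1, map_mul, map_inv]
  have hx : IsConj (φ t) ((φ σ)⁻¹ * φ (ev 8)) := H.tb.trans (isConj_iff.mpr ⟨_, e1⟩)
  have hy : IsConj (φ t) (n * ((φ σ)⁻¹ * φ (ev 8)) * n⁻¹) := hx.trans (isConj_iff.mpr ⟨_, rfl⟩)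
  have c1 : Commute (φ σ) (φ ρ) := map_comm' φ rels.2.2.2.2.1
  have c2 : Commute (φ (ev 8)) (φ ρ) := map_comm' φ rels.2.2.2.2.2.1
  have c3 : Commute ((φ σ)⁻¹ * φ (ev 8)) (φ ρ) := c1.inv_left.mul_left c2
  have r2 : n⁻¹ * φ ρ * n = (φ ρ)⁻¹ := by rw [← R.rho, R.inv_eq]
  have c4 : ∀ a, Commute a (φ ρ) → Commute (n * a * n⁻¹) (φ ρ) := fun a h => by
    change _ = _
    calc _ = n * (a * (n⁻¹ * φ ρ * n)) * n⁻¹ := by group
      _ = n * (n⁻¹ * φ ρ * n * a) * n⁻¹ := by rw [r2, h.inv_right.eq]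
      _ = _ := by group
  have c5 : Commute ((φ σ)⁻¹ * φ (ev 8)) (n * ((φ σ)⁻¹ * φ (ev 8)) * n⁻¹) := by
    apply H.comm_of_even hx hy
    rw [← Nat.not_odd_iff_even]
    intro ho
    obtain ⟨k, hk⟩ := h9_conj_of_odd (H.sq hx) (H.sq hy) ho
    have c6 := (c3.mul_left (c4 _ c3)).pow_left k
    generalize ((φ σ)⁻¹ * φ (ev 8) * (n * ((φ σ)⁻¹ * φ (ev 8)) * n⁻¹)) ^ k = c at hk c6
    rw [← e1] at hk
    obtain ⟨p, hp⟩ := H.ex (g := n⁻¹ * (φ σ)⁻¹ * n⁻¹ * c * φ σ * n) (by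
      refine mul_inv_eq_iff_eq_mul.mp ?_
      calc _ = n⁻¹ * (φ σ)⁻¹ * n⁻¹ * (c * (φ σ * (n * φ t * n⁻¹) * (φ σ)⁻¹) * c⁻¹) * n * φ σ * n := by
            group
        _ = n⁻¹ * φ (ev 8) * n := by rw [R.conj_t, hk]; group
        _ = _ := by rw [← R.conj_t]; group)
    refine (not_conj p).2 (H.inj ?_)
    rw [map_mul, map_mul, map_inv, map_inv, hp]
    calc _ = n⁻¹ * (φ σ)⁻¹ * n⁻¹ * (c * (φ σ * (n * φ ρ * n⁻¹) * (φ σ)⁻¹) * c⁻¹) * n * φ σ * n := by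
          group
      _ = n⁻¹ * ((φ σ)⁻¹ * (n⁻¹ * φ ρ * n)⁻¹ * φ σ) * n := by
          rw [R.rho, c1.inv_right.eq, mul_inv_cancel_right, c6.inv_right.eq, mul_inv_cancel_right]
          group
      _ = _ := by rw [r2, inv_inv, mul_assoc (φ σ)⁻¹, ← c1.eq, inv_mul_cancel_left, r2]
  have c7 : Commute (φ σ) (φ t) := map_comm' φ (comm_t σ)
  have c8 : Commute (φ (ev 8)) (φ t) := map_comm' φ (comm_t _)
  have e2 : n * ((φ σ)⁻¹ * φ (ev 8)) * n⁻¹ = (n * φ σ * n)⁻¹ * φ t := by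
    rw [← R.conj_b]; simp only [mul_inv_rev, R.inv_eq]
    calc _ = n * (φ σ)⁻¹ * (n * n) * φ (ev 8) * n := by rw [R.nn]; group
      _ = _ := by group
  have c9 : Commute (φ (ev 8)) (n * φ σ * n) := by
    rw [← R.conj_t, show n * φ σ * n = n * φ σ * n⁻¹ by rw [R.inv_eq]]
    change _ = _
    calc _ = n * (φ t * φ σ) * n⁻¹ := by group
      _ = _ := by rw [← c7.eq]; group
  rw [e2] at c5
  have c10 : Commute ((φ σ)⁻¹ * φ (ev 8)) (n * φ σ * n)⁻¹ := by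
    have := c5.mul_right (c7.inv_left.mul_left c8).inv_right
    rwa [mul_inv_cancel_right] at this
  have := c10.mul_left c9.inv_right.inv_left
  rw [mul_inv_cancel_right] at this
  exact (Commute.inv_inv_iff.mp this).eq

theorem exists_relP : ∃ n, RelP φ n := by
  obtain ⟨n, R⟩ := H.exists_rel0
  exact ⟨n, R, H.braid R, H.comm R⟩

theorem centralizer_le {n : G} (R : Rel0 φ n) {L : Subgroup G} (h1 : φ.range ≤ L) (h2 : n ∈ L) :
    centralizer {φ (ev 3)} ≤ L := by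
  intro g hg
  rw [mem_centralizer_singleton_iff] at hg
  have hg' : Commute g (φ (ev 3)) := hg
  obtain ⟨p, hp, e⟩ : g * φ t * g⁻¹ ∈ E0.map φ := H.mem_E (isConj_iff.mpr ⟨g, rfl⟩)
    ((hg'.mul_left (map_comm' φ (comm_t _).symm)).mul_left hg'.inv_left).eq
  rcases (H.zcl p).mp (isConj_iff.mpr ⟨g, e.symm⟩) with h | h
  · rw [(cl_one p).mp h] at e
    exact h1 (H.ex (mul_inv_eq_iff_eq_mul.mp e.symm))
  · obtain ⟨b, hb⟩ := cl_three p h
    obtain ⟨q, hq⟩ := H.ex (g := (φ b * n)⁻¹ * g) (by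
      refine mul_inv_eq_iff_eq_mul.mp ?_
      calc _ = (φ b * n)⁻¹ * (g * φ t * g⁻¹) * (φ b * n) := by group
        _ = _ := by rw [← e, ← map_conj' φ hb, ← R.conj_t]; group)
    rw [show g = φ b * n * φ q by rw [hq]; group]
    exact mul_mem (mul_mem (h1 ⟨b, rfl⟩) h2) (h1 ⟨q, rfl⟩)

end FusP

end Cfsg.Lib.IC
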