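import Cfsg.Agent.Lib.Golay.InvPattern

/-!
Groups given by a packed multiplication table, with kernel-friendly decision procedures, and their
identification with involution centralisers in permutation groups.
-/

set_option autoImplicit false

namespace Cfsg.Lib.PC

open Equiv

/-- a packed multiplication table on the naturals below `N` (digits of `k` bits; `J` lists the
inverses, `0` is the identity) -/
structure Tab where
  N : ℕ
  k : ℕ
  T : ℕ
  J : ℕ

namespace Tab

variable (D : Tab)

/-- the product read from the table -/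
def mulN (a b : ℕ) : ℕ :=
  force a fun a => force b fun b => Nat.mod (app D.k (app (Nat.mul D.k D.N) D.T a) b) D.N

/-- the inverse read from the table -/
def invN (a : ℕ) : ℕ := force a fun a => Nat.mod (app D.k D.J a) D.N

/-- the table is a group table -/
class Good : Prop where
  pos : 0 < D.N
  assoc : ∀ a < D.N, ∀ b < D.N, ∀ c < D.N, D.mulN (D.mulN a b) c = D.mulN a (D.mulN b c)
  one_mul : ∀ a < D.N, D.mulN 0 a = a
  inv_mul : ∀ a < D.N, D.mulN (D.invN a) a = 0

theorem mulN_lt (h : 0 < D.N) (a b : ℕ) : D.mulN a b < D.N := by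
  unfold mulN; simp only [force_eq]; exact Nat.mod_lt _ h

theorem invN_lt (h : 0 < D.N) (a : ℕ) : D.invN a < D.N := by
  unfold invN; simp only [force_eq]; exact Nat.mod_lt _ h

/-- the elements of the table group -/
@[ext] structure El where
  val : ℕ
  lt : val < D.N

variable {D}

instance : DecidableEq D.El := fun a b =>
  decidable_of_iff (Nat.beq a.val b.val = true) ⟨fun h => El.ext (Nat.eq_of_beq_eq_true h),
    fun h => h ▸ Nat.beq_refl _⟩

/-- the elements are indexed by `Fin N` -/
def equivFin : D.El ≃ Fin D.N where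
  toFun a := ⟨a.val, a.lt⟩
  invFun a := ⟨a.val, a.2⟩
  left_inv _ := rfl
  right_inv _ := rfl

instance : Fintype D.El := Fintype.ofEquiv _ equivFin.symm

theorem card_El : Nat.card D.El = D.N := by
  rw [Nat.card_congr equivFin, Nat.card_eq_fintype_card, Fintype.card_fin]

variable [hD : D.Good]

instance : Mul D.El := ⟨fun a b => ⟨D.mulN a.val b.val, D.mulN_lt hD.pos _ _⟩⟩
instance : One D.El := ⟨⟨0, hD.pos⟩⟩
instance : Inv D.El := ⟨fun a => ⟨D.invN a.val, D.invN_lt hD.pos _⟩⟩

instance : Group D.El :=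
  Group.ofLeftAxioms (fun a b c => El.ext (hD.assoc _ a.lt _ b.lt _ c.lt))
    (fun a => El.ext (hD.one_mul _ a.lt)) (fun a => El.ext (hD.inv_mul _ a.lt))

variable (D) in
/-- the element with index `i` -/
def el (i : ℕ) : D.El := ⟨Nat.mod i D.N, Nat.mod_lt _ hD.pos⟩

theorem el_val (a : D.El) : D.el a.val = a := El.ext (Nat.mod_eq_of_lt a.lt)

theorem forall_iff {p : D.El → Prop} [DecidablePred p] :
    allLt D.N (fun i => decide (p (D.el i))) = true ↔ ∀ a, p a := by
  rw [allLt_iff]
  exact ⟨fun h a => el_val a ▸ of_decide_eq_true (h _ a.lt), fun h i _ => decide_eq_true (h _)⟩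

instance (priority := high) decForall {p : D.El → Prop} [DecidablePred p] : Decidable (∀ a, p a) :=
  decidable_of_iff _ forall_iff

theorem exists_iff {p : D.El → Prop} [DecidablePred p] :
    Bool.not (allLt D.N (fun i => Bool.not (decide (p (D.el i))))) = true ↔ ∃ a, p a := by
  rw [Bool.not_eq_true', ← Bool.not_eq_true, allLt_iff]
  constructor
  · intro h
    by_contra hn
    exact h fun i _ => by simpa using fun hp => hn ⟨_, hp⟩
  · rintro ⟨a, ha⟩ h
    have := h _ a.lt
    rw [el_val] at this
    simp [ha] at this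

instance (priority := high) decExists {p : D.El → Prop} [DecidablePred p] : Decidable (∃ a, p a) :=
  decidable_of_iff _ exists_iff

variable (D) in
/-- the number of elements with a property -/
def cnt (p : D.El → Prop) [DecidablePred p] : ℕ :=
  Nat.rec (motive := fun _ => ℕ) 0
    (fun i acc => Bool.rec (motive := fun _ => ℕ) acc (Nat.succ acc) (decide (p (D.el i)))) D.N

theorem cnt_eq (p : D.El → Prop) [DecidablePred p] : D.cnt p = {a | p a}.ncard := by
  have key : ∀ n, Nat.rec (motive := fun _ => ℕ) 0 (fun i acc => Bool.rec (motive := fun _ => ℕ)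
      acc (Nat.succ acc) (decide (p (D.el i)))) n =
      ((Finset.range n).filter fun i => p (D.el i)).card := by
    intro n
    induction n with
    | zero => rfl
    | succ n ih =>
      rw [Finset.range_add_one, Finset.filter_insert]
      by_cases h : p (D.el n)
      · rw [if_pos h, Finset.card_insert_of_notMem (by simp), ← ih]
        simp only [decide_eq_true h]
      · rw [if_neg h, ← ih]
        simp only [decide_eq_false h]
  rw [cnt, key, ← Set.ncard_coe_finset]
  refine Set.ncard_congr (fun i _ => D.el i) (fun i hi => ?_) (fun i j hi hj e => ?_)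
    (fun a ha => ⟨a.val, ?_, el_val a⟩)
  · simpa using (by simpa using hi : _ ∧ _).2
  · have hi' : i < D.N := (by simpa using hi : _ ∧ _).1
    have hj' : j < D.N := (by simpa using hj : _ ∧ _).1
    have := congrArg El.val e
    change i % D.N = j % D.N at this
    rwa [Nat.mod_eq_of_lt hi', Nat.mod_eq_of_lt hj'] at this
  · simpa [el_val] using ⟨a.lt, ha⟩

variable (D) in
/-- the sum of a function over all elements -/
def sm (f : D.El → ℕ) : ℕ :=
  Nat.rec (motive := fun _ => ℕ) 0 (fun i acc => Nat.add acc (f (D.el i))) D.N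

theorem sm_eq (f : D.El → ℕ) : D.sm f = ∑ a, f a := by
  have key : ∀ n, Nat.rec (motive := fun _ => ℕ) 0 (fun i acc => Nat.add acc (f (D.el i))) n =
      ∑ i ∈ Finset.range n, f (D.el i) := by
    intro n
    induction n with
    | zero => rfl
    | succ n ih => rw [Finset.sum_range_succ, ← ih]; rfl
  rw [sm, key, ← Fin.sum_univ_eq_sum_range (fun i => f (D.el i))]
  exact (Fintype.sum_equiv equivFin _ _ fun a => by
    congr 1; exact (el_val a).symm).symm

/-- the number of pairs with a property -/
theorem ncard_pairs (p : D.El → D.El → Prop) [∀ a, DecidablePred (p a)] :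
    {x : D.El × D.El | p x.1 x.2}.ncard = D.sm fun a => D.cnt (p a) := by
  classical
  rw [sm_eq]
  have : {x : D.El × D.El | p x.1 x.2} =
      ((Finset.univ.filter fun x : D.El × D.El => p x.1 x.2 : Finset _) : Set _) := by
    ext; simp
  rw [this, Set.ncard_coe_finset, Finset.card_eq_sum_card_fiberwise (t := Finset.univ)
    (f := Prod.fst) (by simp)]
  refine Finset.sum_congr rfl fun a _ => ?_
  rw [cnt_eq, ← Set.ncard_coe_finset]
  refine Set.ncard_congr (fun x _ => x.2) ?_ ?_ ?_
  · rintro ⟨x, y⟩ h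
    obtain ⟨h1, rfl⟩ : p x y ∧ x = a := by simpa using h
    exact h1
  · rintro ⟨x, y⟩ ⟨x', y'⟩ h h' e
    obtain ⟨-, rfl⟩ : p x y ∧ x = a := by simpa using h
    obtain ⟨-, rfl⟩ : p x' y' ∧ x' = x := by simpa using h'
    exact Prod.ext rfl e
  · intro y hy
    exact ⟨(a, y), by simpa using hy, rfl⟩

/-- the subgroup given by a bit mask -/
def sub (m : ℕ) (h : tb m 0 = true ∧ ∀ a : D.El, tb m a.val = true →
    ∀ b : D.El, tb m b.val = true → tb m (a * b⁻¹).val = true) : Subgroup D.El :=
  Subgroup.ofDiv {a | tb m a.val = true} ⟨1, h.1⟩ fun a ha b hb => h.2 a ha b hb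

theorem mem_sub {m : ℕ} {h : _} {a : D.El} : a ∈ sub (D := D) m h ↔ tb m a.val = true := Iff.rfl

instance (m : ℕ) (h : _) : DecidablePred (· ∈ sub (D := D) m h) := fun a =>
  inferInstanceAs (Decidable (tb m a.val = true))

theorem card_subgroup (H : Subgroup D.El) [DecidablePred (· ∈ H)] :
    Nat.card H = D.cnt (· ∈ H) := by
  rw [cnt_eq]; rfl

omit hD in
/-- the check that the packed codes `C` realise the table -/
def check (D : Tab) (k n C : ℕ) : Bool :=
  Nat.blt 0 D.N && (Nat.beq (app (Nat.mul k n) C 0) (idc k n) &&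
    allLt D.N fun a => force (app (Nat.mul k n) C a) fun ca =>
      Nat.beq (D.mulN (D.invN a) a) 0 && allLt D.N fun b => force (app (Nat.mul k n) C b) fun cb =>
        (Nat.beq a b || Bool.not (Nat.beq ca cb)) &&
          Nat.beq (comp k n ca cb) (force (D.mulN a b) (app (Nat.mul k n) C)))

variable {α : Type*} {n : ℕ} {E : Enc α n} {k : ℕ}

omit hD in
theorem exists_map (hn : n ≤ 2 ^ k) {K : Subgroup (Perm α)} {C : ℕ} (h : D.check k n C = true)
    (hK : ∀ a < D.N, InH E k K (app (k * n) C a)) : 0 < D.N ∧ ∃ f : ℕ → K,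
      (∀ a < D.N, NRep E k (app (k * n) C a) (f a)) ∧ f 0 = 1 ∧
      (∀ a < D.N, D.mulN (D.invN a) a = 0) ∧ (∀ a < D.N, ∀ b < D.N, f a = f b → a = b) ∧
      ∀ a < D.N, ∀ b < D.N, f (D.mulN a b) = f a * f b := by
  classical
  simp only [check, Bool.and_eq_true, allLt_iff, force_eq, Bool.or_eq_true] at h
  obtain ⟨h0, h1, h2⟩ := h
  have hpos : 0 < D.N := Nat.blt_eq.mp h0
  choose g hg hg' using hK
  let f : ℕ → K := fun a => if ha : a < D.N then ⟨g a ha, hg a ha⟩ else 1
  have hf : ∀ a < D.N, NRep E k (app (k * n) C a) (f a) := by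
    intro a ha
    refine ⟨?_, app_lt _ _ _⟩
    simp only [f, dif_pos ha]
    exact hg' a ha
  refine ⟨hpos, f, hf, ?_, fun a ha => Nat.eq_of_beq_eq_true (h2 a ha).1, ?_, ?_⟩
  · exact Subtype.ext (((hf 0 hpos).eq_iff (NRep.one hn)).mp h1)
  · intro a ha b hb e
    rcases ((h2 a ha).2 b hb).1 with h3 | h3
    · exact Nat.eq_of_beq_eq_true h3
    · have := ((hf a ha).eq_iff (hf b hb)).mpr (congrArg Subtype.val e)
      change Bool.not (Nat.beq (app (k * n) C a) (app (k * n) C b)) = true at h3
      rw [this] at h3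
      simp at h3
  · intro a ha b hb
    exact Subtype.ext ((((hf a ha).1.ncomp (hf b hb).1).eq_iff
      (hf _ (D.mulN_lt hpos a b))).mp ((h2 a ha).2 b hb).2).symm

omit hD in
theorem good_of_check (hn : n ≤ 2 ^ k) {K : Subgroup (Perm α)} {C : ℕ} (h : D.check k n C = true)
    (hK : ∀ a < D.N, InH E k K (app (k * n) C a)) : D.Good := by
  obtain ⟨hpos, f, -, h1, h2, h3, h4⟩ := exists_map hn h hK
  have hl := D.mulN_lt hpos
  refine ⟨hpos, fun a ha b hb c hc => h3 _ (hl _ _) _ (hl _ _) ?_,
    fun a ha => h3 _ (hl _ _) _ ha ?_, h2⟩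
  · rw [h4 _ (hl _ _) _ hc, h4 _ ha _ hb, h4 _ ha _ (hl _ _), h4 _ hb _ hc, mul_assoc]
  · rw [h4 _ hpos _ ha, h1, one_mul]

theorem exists_hom (hn : n ≤ 2 ^ k) {K : Subgroup (Perm α)} {C : ℕ} (h : D.check k n C = true)
    (hK : ∀ a < D.N, InH E k K (app (k * n) C a)) : ∃ ψ : D.El →* K, Function.Injective ψ ∧
      ∀ a : D.El, NRep E k (app (k * n) C a.val) (ψ a) := by
  obtain ⟨-, f, h0, -, -, h3, h4⟩ := exists_map hn h hK
  exact ⟨MonoidHom.mk' (fun a => f a.val) fun a b => h4 _ a.lt _ b.lt,
    fun a b e => El.ext (h3 _ a.lt _ b.lt e), fun a => h0 _ a.lt⟩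

/-- the table group is the centraliser of the image of a central element with enough
conjugates -/
theorem range_eq_centralizer [Finite α] (hn : n ≤ 2 ^ k) {K : Subgroup (Perm α)} {C : ℕ}
    {ψ : D.El →* K} (hψ : Function.Injective ψ)
    (hr : ∀ a : D.El, NRep E k (app (k * n) C a.val) (ψ a)) (z : D.El) (hz : ∀ a, a * z = z * a)
    (S S' : List ℕ) (prog : List (ℕ × ℕ)) (hS : ∀ p ∈ S, InH E k K p) {M : ℕ}
    (hM : Nat.card K = M) (h : force (app (k * n) C z.val) (fun zc => checkInvs k n S S' &&
      (nodupL (conjRun k n zc S S' prog [zc]) &&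
      Nat.beq ((conjRun k n zc S S' prog [zc]).length * D.N) M)) = true) :
    ψ.range = Subgroup.centralizer {ψ z} := by
  simp only [force_eq, Bool.and_eq_true] at h
  obtain ⟨h1, h2, h3⟩ := h
  have hL := conjRun_spec hn (hr z) hS h1 prog (L := [app (k * n) C z.val]) (by
    intro p hp
    rw [List.mem_singleton.mp hp]
    exact ⟨1, K.one_mem, by simpa using hr z⟩)
  have hidx := length_le_index_centralizer (z := ψ z) hL (nodup_of_nodupL h2)
  have hle : ψ.range ≤ Subgroup.centralizer {ψ z} := by
    rintro _ ⟨a, rfl⟩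
    rw [Subgroup.mem_centralizer_singleton_iff, ← map_mul, hz, map_mul]
  have hc : Nat.card ψ.range = D.N := by
    rw [← Nat.card_congr (MonoidHom.ofInjective hψ).toEquiv, card_El]
  have hmul := (Subgroup.centralizer {ψ z}).index_mul_card
  rw [hM, ← Nat.eq_of_beq_eq_true h3] at hmul
  apply Subgroup.eq_of_le_of_card_ge hle
  rw [hc]
  have hpos : 0 < (conjRun k n (app (k * n) C z.val) S S' prog [app (k * n) C z.val]).length := by
    rcases Nat.eq_zero_or_pos (conjRun k n (app (k * n) C z.val) S S' prog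
      [app (k * n) C z.val]).length with h0 | h0
    · rw [h0, zero_mul] at hmul
      exact absurd hmul (Nat.mul_ne_zero Subgroup.index_ne_zero_of_finite Nat.card_pos.ne')
    · exact h0
  apply Nat.le_of_mul_le_mul_left _ hpos
  rw [← hmul]
  exact Nat.mul_le_mul_right _ hidx

end Tab

end Cfsg.Lib.PC
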