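import Cfsg.Agent.Lib.InvChar.Tab

/-!
Checking a packed multiplication table through generators only.
-/

set_option autoImplicit false

namespace Cfsg.Lib.PC.Tab

open Equiv

variable {D : Tab} {α : Type*} {n : ℕ} {E : Enc α n} {k : ℕ}

/-- the check that the packed codes `C` realise the table; `P` lists for each element `b ≠ 0` an
earlier element `b'` and `R` a generator `g` with `b = b' g` -/
def checkG (D : Tab) (k n C P R : ℕ) (gs : List ℕ) : Bool :=
  Nat.blt 0 D.N && (Nat.beq (app (Nat.mul k n) C 0) (idc k n) &&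
    (allLt D.N (fun a => Nat.beq (D.mulN (D.invN a) a) 0 && (Nat.beq (D.invN (D.invN a)) a &&
      (Nat.beq (D.mulN a 0) a &&
      ((Nat.beq a 0 || Bool.not (Nat.beq (app (Nat.mul k n) C a) (idc k n))) &&
      allL gs fun g => Nat.beq (comp k n (app (Nat.mul k n) C a) (app (Nat.mul k n) C g))
        (force (D.mulN a g) (app (Nat.mul k n) C)))))) &&
    allLt D.N fun b => Nat.beq b 0 || force (app D.k P b) fun b' => force (app D.k R b) fun g =>
      Nat.blt b' b && (subL [g] gs && (Nat.beq (D.mulN b' g) b &&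
        allLt D.N fun a => force (D.mulN a b) fun m =>
          Nat.beq m (D.mulN (D.mulN a b') g) &&
            (Bool.not (Nat.beq m 0) || Nat.beq (D.invN a) b)))))

/-- the codes realise the table inside `K` -/
def Real (D : Tab) (E : Enc α n) (k : ℕ) (K : Subgroup (Perm α)) (C : ℕ) : Prop :=
  0 < D.N ∧ ∃ f : ℕ → K, (∀ a < D.N, NRep E k (app (k * n) C a) (f a)) ∧ f 0 = 1 ∧
    (∀ a < D.N, D.mulN (D.invN a) a = 0) ∧ (∀ a < D.N, ∀ b < D.N, f a = f b → a = b) ∧
    ∀ a < D.N, ∀ b < D.N, f (D.mulN a b) = f a * f b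

theorem real_of_checkG (hn : n ≤ 2 ^ k) {K : Subgroup (Perm α)} {C P R : ℕ} {gs : List ℕ}
    (h : D.checkG k n C P R gs = true) (hgs : ∀ g ∈ gs, g < D.N)
    (hK : ∀ g ∈ gs, InH E k K (app (k * n) C g)) : D.Real E k K C := by
  classical
  simp only [checkG, Bool.and_eq_true, allLt_iff, allL_iff, force_eq, Bool.or_eq_true] at h
  obtain ⟨h0, h1, h2, h3⟩ := h
  have hpos : 0 < D.N := Nat.blt_eq.mp h0
  have hl := D.mulN_lt hpos
  have h4 : ∀ a < D.N, ∀ g ∈ gs, comp k n (app (k * n) C a) (app (k * n) C g) =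
      app (k * n) C (D.mulN a g) := fun a ha g hg =>
    Nat.eq_of_beq_eq_true ((h2 a ha).2.2.2.2 g hg)
  have h5 : ∀ b < D.N, b ≠ 0 → ∃ b' < b, ∃ g ∈ gs, D.mulN b' g = b ∧ ∀ a < D.N,
      D.mulN a b = D.mulN (D.mulN a b') g ∧ (D.mulN a b = 0 → D.invN a = b) := by
    intro b hb hb0
    obtain ⟨e1, e2, e3, e4⟩ := (h3 b hb).resolve_left fun e => hb0 (Nat.eq_of_beq_eq_true e)
    refine ⟨_, Nat.blt_eq.mp e1, _, mem_of_subL e2 _ List.mem_cons_self,
      Nat.eq_of_beq_eq_true e3, fun a ha => ⟨Nat.eq_of_beq_eq_true (e4 a ha).1, fun e => ?_⟩⟩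
    rcases (e4 a ha).2 with e5 | e5
    · rw [e] at e5
      simp at e5
    · exact Nat.eq_of_beq_eq_true e5
  have hK' : ∀ a < D.N, InH E k K (app (k * n) C a) := by
    intro a
    induction a using Nat.strong_induction_on with | _ a ih =>
    intro ha
    by_cases h0 : a = 0
    · rw [h0, show app (k * n) C 0 = idc k n from Nat.eq_of_beq_eq_true h1]
      exact InH.one hn K
    · obtain ⟨b, hb, g, hg, e, -⟩ := h5 a ha h0
      rw [← e, ← h4 b (hb.trans ha) g hg]
      exact (ih b hb (hb.trans ha)).comp (hK g hg)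
  choose g hg hg' using hK'
  let f : ℕ → K := fun a => if ha : a < D.N then ⟨g a ha, hg a ha⟩ else 1
  have hf : ∀ a < D.N, NRep E k (app (k * n) C a) (f a) := by
    intro a ha
    refine ⟨?_, app_lt _ _ _⟩
    simp only [f, dif_pos ha]
    exact hg' a ha
  have f0 : f 0 = 1 := Subtype.ext (((hf 0 hpos).eq_iff (NRep.one hn)).mp h1)
  have h6 : ∀ a < D.N, ∀ g ∈ gs, f (D.mulN a g) = f a * f g := fun a ha g hg =>
    Subtype.ext ((hf _ (hl a g)).1.unique (h4 a ha g hg ▸ (hf a ha).1.comp (hf g (hgs g hg)).1))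
  have h7 : ∀ b < D.N, ∀ a < D.N, f (D.mulN a b) = f a * f b := by
    intro b
    induction b using Nat.strong_induction_on with | _ b ih =>
    intro hb a ha
    by_cases h0 : b = 0
    · rw [h0, f0, mul_one, Nat.eq_of_beq_eq_true (h2 a ha).2.2.1]
    · obtain ⟨b', hb', g, hg, e, e'⟩ := h5 b hb h0
      rw [(e' a ha).1, h6 _ (hl _ _) g hg, ih b' hb' (hb'.trans hb) a ha, ← e,
        h6 _ (hb'.trans hb) g hg, mul_assoc]
  have h8 : ∀ a < D.N, f a = 1 → a = 0 := by
    intro a ha e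
    rcases (h2 a ha).2.2.2.1 with e1 | e1
    · exact Nat.eq_of_beq_eq_true e1
    · have := ((hf a ha).eq_iff (NRep.one hn)).mpr (congrArg Subtype.val e)
      change Bool.not (Nat.beq (app (k * n) C a) (idc k n)) = true at e1
      rw [this] at e1
      simp at e1
  have h9 : ∀ a < D.N, D.mulN (D.invN a) a = 0 := fun a ha => Nat.eq_of_beq_eq_true (h2 a ha).1
  refine ⟨hpos, f, hf, f0, h9, fun a ha b hb e => ?_, fun a ha b hb => h7 b hb a ha⟩
  by_cases h0 : b = 0
  · rw [h0, f0] at e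
    rw [h0, h8 a ha e]
  · have hi := D.invN_lt hpos a
    obtain ⟨_, -, _, -, -, e'⟩ := h5 b hb h0
    rw [← (e' _ hi).2 (h8 _ (hl _ _) (by rw [h7 b hb _ hi, ← e, ← h7 a ha _ hi, h9 a ha, f0])),
      Nat.eq_of_beq_eq_true (h2 a ha).2.1]

theorem Real.good {K : Subgroup (Perm α)} {C : ℕ} (h : D.Real E k K C) : D.Good := by
  obtain ⟨hpos, f, -, h1, h2, h3, h4⟩ := h
  have hl := D.mulN_lt hpos
  refine ⟨hpos, fun a ha b hb c hc => h3 _ (hl _ _) _ (hl _ _) ?_,
    fun a ha => h3 _ (hl _ _) _ ha ?_, h2⟩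
  · rw [h4 _ (hl _ _) _ hc, h4 _ ha _ hb, h4 _ ha _ (hl _ _), h4 _ hb _ hc, mul_assoc]
  · rw [h4 _ hpos _ ha, h1, one_mul]

theorem Real.exists_hom [D.Good] {K : Subgroup (Perm α)} {C : ℕ} (h : D.Real E k K C) :
    ∃ ψ : D.El →* K, Function.Injective ψ ∧
      ∀ a : D.El, NRep E k (app (k * n) C a.val) (ψ a) := by
  obtain ⟨-, f, h0, -, -, h3, h4⟩ := h
  exact ⟨MonoidHom.mk' (fun a => f a.val) fun a b => h4 _ a.lt _ b.lt,
    fun a b e => El.ext (h3 _ a.lt _ b.lt e), fun a => h0 _ a.lt⟩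

end Cfsg.Lib.PC.Tab
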